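import Cfsg.Agent.Lib.Helper22.DOne1
import Cfsg.Agent.Lib.Helper22.Defect2

/-!
# Principal block with a Sylow subgroup of prime order: the structure theorem
-/

set_option autoImplicit false

namespace Cfsg.Agent.Lib.Helper22.DOne

open Cfsg Cfsg.Agent.Lib.Helper22.TAP
open scoped ComplexConjugate

theorem sum_split {ι A : Type*} [Fintype ι] [DecidableEq ι] [AddCommMonoid A] {m : ℕ}
    (a : Fin m → ι) (ha : Function.Injective a) (B : Set ι) [DecidablePred (· ∈ B)]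
    (f : ι → A) (hf : ∀ θ, θ ∉ B → f θ = 0) :
    ∑ θ, f θ = ∑ i, f (a i) +
      ∑ θ ∈ Finset.univ.filter (fun θ => θ ∈ B ∧ θ ∉ Set.range a), f θ := by
  rw [← Finset.sum_filter_add_sum_filter_not Finset.univ (fun θ => θ ∈ Set.range a)]
  congr 1
  · have : Finset.univ.filter (fun θ => θ ∈ Set.range a) = Finset.univ.image a := by
      ext θ
      simp only [Finset.mem_filter, Finset.mem_univ, true_and, Set.mem_range, Finset.mem_image]
    rw [this, Finset.sum_image (fun x _ y _ h => ha h)]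
  · symm
    apply Finset.sum_subset
    · intro θ hθ
      rw [Finset.mem_filter] at hθ ⊢
      exact ⟨hθ.1, hθ.2.2⟩
    · intro θ hθ hθ'
      rw [Finset.mem_filter] at hθ hθ'
      apply hf
      intro hB
      exact hθ' ⟨Finset.mem_univ _, hB, hθ.2⟩

section

variable {G : Type*} [Group G] [Fintype G]

theorem core (p : ℕ) [Fact p.Prime] (M : Ideal Cfsg.AlgInt) (hM : Cfsg.IsPModular p M)
    (P : Sylow p G) (hP : Nat.card P = p) (e : ℕ)
    (he : (Subgroup.centralizer ((P : Subgroup G) : Set G)).relIndex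
      (Subgroup.normalizer ((P : Subgroup G) : Set G)) = e) :
    ∃ X Y : Set (Cfsg.IrrCharacter G), Cfsg.principalBlock M G = X ∪ Y ∧ Disjoint X Y ∧
      Nat.card X = e ∧ Nat.card Y = (p - 1) / e ∧
      ∃ (εX : Cfsg.IrrCharacter G → ℤ) (ε : ℤ),
        (∀ χ ∈ X, (εX χ = 1 ∨ εX χ = -1) ∧
          (Cfsg.charDegree (χ : G → ℂ) : ℤ) ≡ εX χ [ZMOD p] ∧
          ∀ x : G, x ∈ (P : Subgroup G) → x ≠ 1 →
            ∀ y : G, y ∈ Subgroup.centralizer ((P : Subgroup G) : Set G) → ¬ p ∣ orderOf y →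
              (χ : G → ℂ) (x * y) = (εX χ : ℂ)) ∧
        (ε = 1 ∨ ε = -1) ∧
        (∀ θ ∈ Y, (Cfsg.charDegree (θ : G → ℂ) : ℤ) ≡ ε * (e : ℤ) [ZMOD p]) ∧
        (∀ θ ∈ Y, ∀ θ' ∈ Y, ∀ g : G, ¬ p ∣ orderOf g → (θ : G → ℂ) g = (θ' : G → ℂ) g) ∧
        ∀ θ ∈ Y, ∀ g : G, ¬ p ∣ orderOf g →
          (ε : ℂ) * (θ : G → ℂ) g = ∑ᶠ χ ∈ X, (εX χ : ℂ) * (χ : G → ℂ) g := by
  classical
  have hp := (Fact.out : p.Prime)
  haveI : Finite (IrrCharacter G) := Cfsg.Agent.Lib.Helper82.finite_irrCharacter G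
  haveI : Fintype (IrrCharacter G) := Fintype.ofFinite _
  obtain ⟨z, hz, hz1⟩ : ∃ z : G, z ∈ (P : Subgroup G) ∧ z ≠ 1 := by
    have : Nontrivial (P : Subgroup G) := by
      rw [← Finite.one_lt_card_iff_nontrivial, hP]; exact hp.one_lt
    obtain ⟨⟨x, hx⟩, hne⟩ := exists_ne (1 : (P : Subgroup G))
    exact ⟨x, hx, fun h => hne (Subtype.ext h)⟩
  have hzo : orderOf z = p := Cfsg.Agent.Lib.Helper92.DO.cf_order p P hP z hz hz1
  have hzp : z ^ p = 1 := by rw [← hzo]; exact pow_orderOf_eq_one z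
  have hPz : (P : Subgroup G) = Subgroup.zpowers z :=
    Cfsg.Agent.Lib.Helper92.DO.cf_zpowers p P hP z hz hz1
  have hp2 : ¬ p ^ 2 ∣ Nat.card G := by
    intro h
    have h1 := P.card_eq_multiplicity
    rw [hP] at h1
    have h2 : (Nat.card G).factorization p = 1 := by
      apply Nat.pow_right_injective hp.two_le
      show p ^ _ = p ^ 1
      rw [pow_one]; exact h1.symm
    have h3 : 2 ≤ (Nat.card G).factorization p :=
      (hp.pow_dvd_iff_le_factorization (Nat.card_pos.ne')).1 h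
    omega
  obtain ⟨m, e', Θ, hm, he', hpem, hsupp, hgram, hne, hreg, hee, hN2, hN3⟩ :=
    fourier_pack p M hM P hP z hz hz1
  obtain rfl : e' = e := hee.trans he
  obtain ⟨Δ, a, ε, hε, hΘ, hainj, haB, hnz⟩ := Cfsg.Agent.Lib.BF.lat_structure
    (principalBlock M G) m (e' : ℤ) hm (by positivity) Θ hsupp hgram
  set B0 := principalBlock M G with hB0
  let i0 : Fin m := ⟨0, hm⟩
  have hεsq : ∀ i, ε i * ε i = 1 := by
    intro i
    rcases hε i with h | h <;> rw [h] <;> norm_num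
  -- (F1) Δ vanishes outside the block
  have hΔ0 : ∀ θ, θ ∉ B0 → Δ θ = 0 := by
    intro θ hθ
    have h1 := hΘ i0 θ
    rw [hsupp i0 θ hθ, if_neg (fun h : θ = a i0 => hθ (by rw [h]; exact haB i0))] at h1
    linarith
  have hstar : ∀ θ ∈ B0, ∀ t : ℕ, ¬ p ∣ t → ∀ y : G, y * z = z * y → ¬ p ∣ orderOf y →
      (θ : G → ℂ) (z ^ t * y) = (θ : G → ℂ) (z ^ t) :=
    fun θ hθ t ht y hy hyp => prin_star p M hM P hP z hz hz1 θ hθ t ht y hy hyp
  have hp1 : (1 : ℤ) < p := by exact_mod_cast hp.one_lt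
  -- (F2) the non-exceptional characters
  have hX : ∀ θ ∈ B0, θ ∉ Set.range a → (Δ θ = 1 ∨ Δ θ = -1) ∧
      ∀ T : ℕ, ¬ p ∣ T → (θ : G → ℂ) (z ^ T) = -(Δ θ : ℂ) := by
    intro θ hθ hθa
    have hΘθ : ∀ i, Θ i θ = Δ θ := by
      intro i
      rw [hΘ i θ, if_neg (fun h => hθa ⟨i, h.symm⟩), add_zero]
    have hv : ∀ T : ℕ, ¬ p ∣ T → (θ : G → ℂ) (z ^ T) = -(Δ θ : ℂ) := by
      intro T hT
      rw [← hΘθ i0]
      exact hN3 θ hθ (fun i j => by rw [hΘθ i, hΘθ j]) i0 T hT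
    have hΔne : Δ θ ≠ 0 := by
      obtain ⟨i, hi⟩ := hne θ hθ
      rwa [hΘθ i] at hi
    refine ⟨?_, hv⟩
    have hs : ((((p : ℤ) - 1) * (-Δ θ) : ℤ) : ℂ) = ∑ t ∈ Finset.Ico 1 p, (θ : G → ℂ) (z ^ t) := by
      have h1 : ∀ t ∈ Finset.Ico 1 p, (θ : G → ℂ) (z ^ t) = -(Δ θ : ℂ) := by
        intro t ht
        rw [Finset.mem_Ico] at ht
        apply hv
        intro h
        exact absurd (Nat.le_of_dvd (by omega) h) (by omega)
      rw [Finset.sum_congr rfl h1, Finset.sum_const, Nat.card_Ico, nsmul_eq_mul,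
        Nat.cast_sub hp.one_le]
      push_cast
      ring
    have hdvd := Cfsg.Agent.Lib.Helper22.TH.thompson_char p M hM z hzo hp2 θ (hstar θ hθ) _ hs
      (mul_ne_zero (by linarith) (neg_ne_zero.2 hΔne))
    obtain ⟨q, hq⟩ := hdvd
    have h2 : (-Δ θ) * q = 1 := by
      have : ((p : ℤ) - 1) * ((-Δ θ) * q) = ((p : ℤ) - 1) * 1 := by linarith
      exact mul_left_cancel₀ (by linarith) this
    have h3 : IsUnit (Δ θ) := IsUnit.of_mul_eq_one (-q) (by linarith)
    exact Int.isUnit_iff.1 h3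
  -- (F3) the exceptional characters
  have hsumΘ : ∀ i, ∑ j, Θ j (a i) = ε i * ((m : ℤ) * (ε i * Δ (a i)) + 1) := by
    intro i
    have h1 : ∀ j, Θ j (a i) = Δ (a i) + if j = i then ε j else 0 := by
      intro j
      rw [hΘ j (a i)]
      congr 1
      by_cases hji : j = i
      · rw [if_pos hji, if_pos (by rw [hji])]
      · rw [if_neg hji, if_neg (fun h => hji (hainj h).symm)]
    rw [Finset.sum_congr rfl (fun j _ => h1 j), Finset.sum_add_distrib, Finset.sum_const,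
      Finset.card_univ, Fintype.card_fin, Finset.sum_ite_eq' Finset.univ i ε, if_pos (Finset.mem_univ _),
      nsmul_eq_mul]
    have := hεsq i
    linear_combination (-(m : ℤ) * Δ (a i)) * this
  have hpm : (p : ℤ) - 1 = (e' : ℤ) * m := by
    rw [hpem]; push_cast; ring
  have he0 : (e' : ℤ) ≠ 0 := by
    have : e' ≠ 0 := by omega
    exact_mod_cast this
  have hY : ∀ i, (m : ℤ) * (ε i * Δ (a i)) + 1 = 1 ∨ (m : ℤ) * (ε i * Δ (a i)) + 1 = -1 := by
    intro i
    set n := (m : ℤ) * (ε i * Δ (a i)) + 1 with hn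
    have hs : ((-((e' : ℤ) * (ε i * n)) : ℤ) : ℂ) =
        ∑ t ∈ Finset.Ico 1 p, ((a i : IrrCharacter G) : G → ℂ) (z ^ t) := by
      rw [hN2 (a i) (haB i)]
      have := hsumΘ i
      have h2 : ∑ j, (Θ j (a i) : ℂ) = ((ε i * n : ℤ) : ℂ) := by
        rw [← this]; push_cast; rfl
      rw [h2]
      push_cast
      ring
    have hεne : ε i ≠ 0 := by
      rcases hε i with h | h <;> rw [h] <;> norm_num
    have hdvd := Cfsg.Agent.Lib.Helper22.TH.thompson_char p M hM z hzo hp2 (a i)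
      (hstar (a i) (haB i)) _ hs
      (neg_ne_zero.2 (mul_ne_zero he0 (mul_ne_zero hεne (hnz i))))
    obtain ⟨q, hq⟩ := hdvd
    rw [hpm] at hq
    have h2 : (m : ℤ) = n * (-(ε i * q)) := by
      have : (e' : ℤ) * (m : ℤ) = (e' : ℤ) * (n * (-(ε i * q))) := by linarith
      exact mul_left_cancel₀ he0 this
    have h3 : IsUnit n := by
      apply IsUnit.of_mul_eq_one (1 - (-(ε i * q)) * (ε i * Δ (a i)))
      have : n = (m : ℤ) * (ε i * Δ (a i)) + 1 := hn
      linear_combination (ε i * Δ (a i)) * h2 + this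
    exact Int.isUnit_iff.1 h3
  -- (F4) the diagonal Gram relations
  set Q : ℤ := ∑ θ, Δ θ ^ 2 with hQ
  have hdiag : ∀ i, Q + 2 * (ε i * Δ (a i)) = e' := by
    intro i
    have h1 := hgram i i
    rw [if_pos rfl] at h1
    have h2 : ∀ θ, Θ i θ * Θ i θ =
        Δ θ ^ 2 + (if θ = a i then 2 * ε i * Δ θ + ε i * ε i else 0) := by
      intro θ
      rw [hΘ i θ]
      split_ifs <;> ring
    rw [Finset.sum_congr rfl (fun θ _ => h2 θ), Finset.sum_add_distrib,
      Finset.sum_ite_eq' Finset.univ (a i) (fun θ => 2 * ε i * Δ θ + ε i * ε i),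
      if_pos (Finset.mem_univ _), hεsq i] at h1
    linarith
  set x : ℤ := ε i0 * Δ (a i0) with hx
  have hxi : ∀ i, ε i * Δ (a i) = x := by
    intro i
    have h1 := hdiag i
    have h2 := hdiag i0
    linarith
  have hn : (m : ℤ) * x + 1 = 1 ∨ (m : ℤ) * x + 1 = -1 := hY i0
  have hnsq : ((m : ℤ) * x + 1) * ((m : ℤ) * x + 1) = 1 := by
    rcases hn with h | h <;> rw [h] <;> norm_num
  -- the two sets
  set X : Set (IrrCharacter G) := {θ | θ ∈ B0 ∧ θ ∉ Set.range a} with hXdef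
  set Xf : Finset (IrrCharacter G) :=
    Finset.univ.filter (fun θ => θ ∈ B0 ∧ θ ∉ Set.range a) with hXf
  have hXfmem : ∀ θ, θ ∈ Xf ↔ θ ∈ B0 ∧ θ ∉ Set.range a := by
    intro θ
    rw [hXf, Finset.mem_filter]
    exact ⟨fun h => h.2, fun h => ⟨Finset.mem_univ _, h⟩⟩
  -- (F5), (F6) the number of non-exceptional characters
  have hQsplit : Q = (m : ℤ) * x ^ 2 + (Xf.card : ℤ) := by
    rw [hQ, sum_split a hainj B0 (fun θ => Δ θ ^ 2) (fun θ hθ => by rw [hΔ0 θ hθ]; ring)]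
    congr 1
    · have h1 : ∀ i ∈ (Finset.univ : Finset (Fin m)), Δ (a i) ^ 2 = x ^ 2 := by
        intro i _
        rw [← hxi i]
        have := hεsq i
        linear_combination (-(Δ (a i)) ^ 2) * this
      rw [Finset.sum_congr rfl h1, Finset.sum_const, Finset.card_univ, Fintype.card_fin,
        nsmul_eq_mul]
    · have h1 : ∀ θ ∈ Xf, Δ θ ^ 2 = 1 := by
        intro θ hθ
        rw [hXfmem] at hθ
        rcases (hX θ hθ.1 hθ.2).1 with h | h <;> rw [h] <;> norm_num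
      rw [Finset.sum_congr rfl h1, Finset.sum_const, nsmul_eq_mul, mul_one]
  have hm0 : (m : ℤ) ≠ 0 := by
    have : m ≠ 0 := by omega
    exact_mod_cast this
  have hcardX : Xf.card = e' := by
    have h1 := hdiag i0
    rw [← hx] at h1
    have h2 : (m : ℤ) * (Xf.card : ℤ) = (m : ℤ) * (e' : ℤ) := by
      linear_combination (m : ℤ) * h1 - (m : ℤ) * hQsplit - hnsq
    exact_mod_cast mul_left_cancel₀ hm0 h2
  -- (F7) the relations on p-regular elements
  have hR : ∀ g : G, ¬ p ∣ orderOf g → ∀ i,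
      (∑ θ, (Δ θ : ℂ) * (θ : G → ℂ) g) + (ε i : ℂ) * ((a i : IrrCharacter G) : G → ℂ) g = 0 := by
    intro g hg i
    have h1 := hreg g hg i
    have h2 : ∀ θ : IrrCharacter G, (Θ i θ : ℂ) * (θ : G → ℂ) g = (Δ θ : ℂ) * (θ : G → ℂ) g +
        (if θ = a i then (ε i : ℂ) * (θ : G → ℂ) g else 0) := by
      intro θ
      rw [hΘ i θ]
      split_ifs <;> push_cast <;> ring
    rw [Finset.sum_congr rfl (fun θ _ => h2 θ), Finset.sum_add_distrib,
      Finset.sum_ite_eq' Finset.univ (a i) (fun θ => (ε i : ℂ) * (θ : G → ℂ) g),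
      if_pos (Finset.mem_univ _)] at h1
    exact h1
  have hreg1 : ¬ p ∣ orderOf (1 : G) := by
    rw [orderOf_one]
    intro h
    exact hp.one_lt.ne' (Nat.dvd_one.1 h)
  have hdeg : ∀ θ : IrrCharacter G, (θ : G → ℂ) 1 = ((charDegree (θ : G → ℂ) : ℤ) : ℂ) ∧
      (0 : ℤ) < (charDegree (θ : G → ℂ) : ℤ) := by
    intro θ
    obtain ⟨h1, h2⟩ := Cfsg.Agent.Lib.Helper82.irr_charDegree θ
    refine ⟨by rw [← h1]; push_cast; rfl, ?_⟩
    exact_mod_cast Nat.pos_of_ne_zero h2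
  have hεeq : ∀ i, ε i = ε i0 := by
    intro i
    have h1 := hR 1 hreg1 i
    have h2 := hR 1 hreg1 i0
    rw [(hdeg (a i)).1] at h1
    rw [(hdeg (a i0)).1] at h2
    have h3 : ((ε i * (charDegree ((a i : IrrCharacter G) : G → ℂ) : ℤ) : ℤ) : ℂ) =
        ((ε i0 * (charDegree ((a i0 : IrrCharacter G) : G → ℂ) : ℤ) : ℤ) : ℂ) := by
      push_cast
      linear_combination h1 - h2
    have h4 := Int.cast_injective h3
    have h5 := (hdeg (a i)).2
    have h6 := (hdeg (a i0)).2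
    rcases hε i with hi | hi <;> rcases hε i0 with hj | hj <;> rw [hi, hj] at h4 ⊢ <;>
      first | rfl | (exfalso; linarith)
  have hε0ne : (ε i0 : ℂ) ≠ 0 := by
    rcases hε i0 with h | h <;> rw [h] <;> norm_num
  have hagree : ∀ i j, ∀ g : G, ¬ p ∣ orderOf g →
      ((a i : IrrCharacter G) : G → ℂ) g = ((a j : IrrCharacter G) : G → ℂ) g := by
    intro i j g hg
    have h1 := hR g hg i
    have h2 := hR g hg j
    rw [hεeq i] at h1
    rw [hεeq j] at h2
    apply mul_left_cancel₀ hε0ne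
    linear_combination h1 - h2
  have hΔa : ∀ i, Δ (a i) = ε i0 * x := by
    intro i
    rw [← hxi i, hεeq i, ← mul_assoc, ← hεeq i, hεsq i, one_mul]
  have hformula : ∀ k, ∀ g : G, ¬ p ∣ orderOf g →
      ((ε i0 * ((m : ℤ) * x + 1) : ℤ) : ℂ) * ((a k : IrrCharacter G) : G → ℂ) g =
        ∑ χ ∈ Xf, ((-Δ χ : ℤ) : ℂ) * (χ : G → ℂ) g := by
    intro k g hg
    have h1 := hR g hg k
    rw [sum_split a hainj B0 (fun θ => (Δ θ : ℂ) * (θ : G → ℂ) g)
      (fun θ hθ => by rw [hΔ0 θ hθ]; push_cast; ring), hεeq k] at h1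
    have h2 : ∀ i ∈ (Finset.univ : Finset (Fin m)),
        (Δ (a i) : ℂ) * ((a i : IrrCharacter G) : G → ℂ) g =
          ((ε i0 * x : ℤ) : ℂ) * ((a k : IrrCharacter G) : G → ℂ) g := by
      intro i _
      rw [hΔa i, hagree i k g hg]
    rw [Finset.sum_congr rfl h2, Finset.sum_const, Finset.card_univ, Fintype.card_fin,
      nsmul_eq_mul] at h1
    have h3 : ∑ χ ∈ Xf, ((-Δ χ : ℤ) : ℂ) * (χ : G → ℂ) g =
        -∑ χ ∈ Xf, (Δ χ : ℂ) * (χ : G → ℂ) g := by
      rw [← Finset.sum_neg_distrib]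
      apply Finset.sum_congr rfl
      intro χ _
      push_cast
      ring
    rw [h3]
    push_cast at h1 ⊢
    linear_combination h1
  -- (F8) degrees
  have hdegX : ∀ χ ∈ B0, χ ∉ Set.range a →
      (charDegree (χ : G → ℂ) : ℤ) ≡ -Δ χ [ZMOD p] := by
    intro χ hχ hχa
    have h1 := Cfsg.Agent.Lib.Helper22.char_ppart_mul_congr hM χ z 1 (Commute.one_right z) 1
      (by rw [pow_one]; exact hzp) hreg1
    rw [mul_one] at h1
    have h2 := (hX χ hχ hχa).2 1 (fun h => hp.one_lt.ne' (Nat.dvd_one.1 h))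
    rw [pow_one] at h2
    rw [h2, (hdeg χ).1] at h1
    have h3 : MemLocalIdeal M (((-Δ χ - (charDegree (χ : G → ℂ) : ℤ) : ℤ)) : ℂ) := by
      push_cast
      exact h1
    have h4 := (Cfsg.Agent.Lib.Helper22.memLocalIdeal_intCast_iff hM _).1 h3
    exact (Int.modEq_iff_dvd).2 h4
  have hεn : (ε i0 * ((m : ℤ) * x + 1)) * (ε i0 * ((m : ℤ) * x + 1)) = 1 := by
    have := hεsq i0
    linear_combination (((m : ℤ) * x + 1) * ((m : ℤ) * x + 1)) * this + hnsq
  have hdegY : ∀ k, (charDegree ((a k : IrrCharacter G) : G → ℂ) : ℤ) ≡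
      (ε i0 * ((m : ℤ) * x + 1)) * (e' : ℤ) [ZMOD p] := by
    intro k
    have h1 := hformula k 1 hreg1
    rw [(hdeg (a k)).1] at h1
    have h2 : (ε i0 * ((m : ℤ) * x + 1)) * (charDegree ((a k : IrrCharacter G) : G → ℂ) : ℤ) =
        ∑ χ ∈ Xf, (-Δ χ) * (charDegree (χ : G → ℂ) : ℤ) := by
      apply Int.cast_injective (α := ℂ)
      rw [Int.cast_mul, h1, Int.cast_sum]
      apply Finset.sum_congr rfl
      intro χ _
      rw [(hdeg χ).1, Int.cast_mul]
    have h3 : (p : ℤ) ∣ (∑ χ ∈ Xf, (-Δ χ) * (charDegree (χ : G → ℂ) : ℤ)) - (Xf.card : ℤ) := by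
      have h4 : (Xf.card : ℤ) = ∑ χ ∈ Xf, (-Δ χ) * (-Δ χ) := by
        have h5 : ∀ χ ∈ Xf, (-Δ χ) * (-Δ χ) = 1 := by
          intro χ hχ
          rw [hXfmem] at hχ
          rcases (hX χ hχ.1 hχ.2).1 with h | h <;> rw [h] <;> norm_num
        rw [Finset.sum_congr rfl h5, Finset.sum_const, nsmul_eq_mul, mul_one]
      rw [h4, ← Finset.sum_sub_distrib]
      apply Finset.dvd_sum
      intro χ hχ
      rw [hXfmem] at hχ
      rw [← mul_sub]
      apply Dvd.dvd.mul_left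
      exact (Int.modEq_iff_dvd.1 (hdegX χ hχ.1 hχ.2).symm)
    rw [Int.modEq_iff_dvd]
    have h4 : (ε i0 * ((m : ℤ) * x + 1)) * (e' : ℤ) -
        (charDegree ((a k : IrrCharacter G) : G → ℂ) : ℤ) =
        -(ε i0 * ((m : ℤ) * x + 1)) *
          ((∑ χ ∈ Xf, (-Δ χ) * (charDegree (χ : G → ℂ) : ℤ)) - (Xf.card : ℤ)) := by
      rw [← h2, hcardX]
      linear_combination (charDegree ((a k : IrrCharacter G) : G → ℂ) : ℤ) * hεn
    rw [h4]
    exact Dvd.dvd.mul_left h3 _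
  -- packaging
  have hcardX' : Nat.card X = e' := by
    rw [← hcardX, Nat.card_eq_fintype_card, Fintype.card_subtype]
    apply congrArg
    ext θ
    rw [Finset.mem_filter, hXfmem]
    simp only [hXdef, Set.mem_setOf_eq, Finset.mem_univ, true_and]
  refine ⟨X, Set.range a, ?_, ?_, hcardX', ?_, fun χ => -Δ χ, ε i0 * ((m : ℤ) * x + 1),
    ?_, ?_, ?_, ?_, ?_⟩
  · ext θ
    simp only [hXdef, Set.mem_union, Set.mem_setOf_eq]
    constructor
    · intro h
      by_cases hθ : θ ∈ Set.range a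
      · exact Or.inr hθ
      · exact Or.inl ⟨h, hθ⟩
    · rintro (h | ⟨i, rfl⟩)
      · exact h.1
      · exact haB i
  · rw [Set.disjoint_left]
    intro θ h1 h2
    exact h1.2 h2
  · rw [Nat.card_congr (Equiv.ofInjective a hainj).symm, Nat.card_fin, hpem,
      Nat.add_sub_cancel_left, Nat.mul_div_cancel_left m (by omega : 0 < e')]
  · intro χ hχ
    obtain ⟨hχB, hχa⟩ := hχ
    refine ⟨?_, hdegX χ hχB hχa, ?_⟩
    · rcases (hX χ hχB hχa).1 with h | h
      · right; show -Δ χ = -1; rw [h]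
      · left; show -Δ χ = 1; rw [h]; norm_num
    · intro x' hx' hx1 y hy hyp
      rw [hPz] at hx'
      obtain ⟨s, rfl⟩ := Cfsg.Agent.Lib.Helper92.DO.cf_exists p z hzo x' hx' hx1
      have hT : ¬ p ∣ (s : ZMod p).val := by
        intro h
        have := Nat.eq_zero_of_dvd_of_lt h (ZMod.val_lt _)
        exact Units.ne_zero s ((ZMod.val_eq_zero _).1 this)
      have hyz : y * z = z * y := ((Subgroup.mem_centralizer_iff.1 hy) z hz).symm
      rw [hstar χ hχB _ hT y hyz hyp, (hX χ hχB hχa).2 _ hT]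
      push_cast
      rfl
  · rcases hε i0 with h | h <;> rcases hn with h' | h' <;> rw [h, h'] <;> norm_num
  · rintro θ ⟨k, rfl⟩
    exact hdegY k
  · rintro θ ⟨i, rfl⟩ θ' ⟨j, rfl⟩ g hg
    exact hagree i j g hg
  · rintro θ ⟨k, rfl⟩ g hg
    rw [hformula k g hg, finsum_mem_eq_sum_ite X, hXf, Finset.sum_filter]
    apply Finset.sum_congr rfl
    intro χ _
    simp only [hXdef, Set.mem_setOf_eq]

end

end Cfsg.Agent.Lib.Helper22.DOne
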