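import Mathlib

/-!
# The integral lattice `latt c` inside the integral group ring (functions `G → ℤ`)

For `c : G → ℤ` the lattice `latt c = {u : G → ℤ | u ⋆ c = |G| • u}` (`⋆` = convolution `convZ`)
with `G` acting by left translation (`lrep c`).  When `c = |G| • e` for a central idempotent `e`
of the rational group algebra this is the lattice `ℤG ∩ ℚG e`.
-/

namespace Cfsg.Agent.Lib.Helper22.TB

variable {G : Type*} [Group G] [Fintype G]

/-- integer convolution on `G → ℤ` (the product of the integral group ring) -/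
def convZ (a b : G → ℤ) : G → ℤ := fun g => ∑ h, a h * b (h⁻¹ * g)

theorem convZ_apply (a b : G → ℤ) (g : G) : convZ a b g = ∑ h, a h * b (h⁻¹ * g) := rfl

/-- left translation by `g` on `G → ℤ` -/
def ltr (g : G) : (G → ℤ) →ₗ[ℤ] (G → ℤ) where
  toFun u := fun x => u (g⁻¹ * x)
  map_add' _ _ := rfl
  map_smul' _ _ := rfl

theorem ltr_apply (g : G) (u : G → ℤ) (x : G) : ltr g u x = u (g⁻¹ * x) := rfl

theorem ltr_one : ltr (1 : G) = 1 := by
  ext u x
  simp [ltr_apply]

theorem ltr_mul (g h : G) : ltr (g * h) = ltr g * ltr h := by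
  ext u x
  simp [ltr_apply, mul_assoc]

theorem convZ_ltr (g : G) (u c : G → ℤ) : convZ (ltr g u) c = ltr g (convZ u c) := by
  funext x
  rw [ltr_apply, convZ_apply, convZ_apply]
  refine Fintype.sum_equiv (Equiv.mulLeft g⁻¹) _ _ ?_
  intro h
  simp [ltr_apply, mul_assoc]

/-- the lattice `{u | u ⋆ c = |G| • u}` -/
def latt (c : G → ℤ) : Submodule ℤ (G → ℤ) where
  carrier := {u | convZ u c = (Nat.card G : ℤ) • u}
  add_mem' := by
    intro u v hu hv
    simp only [Set.mem_setOf_eq] at hu hv ⊢
    funext g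
    have h1 := congrFun hu g
    have h2 := congrFun hv g
    simp only [convZ_apply, Pi.smul_apply, Pi.add_apply, smul_eq_mul] at h1 h2 ⊢
    rw [mul_add, ← h1, ← h2, ← Finset.sum_add_distrib]
    exact Finset.sum_congr rfl fun h _ => by ring
  zero_mem' := by
    simp only [Set.mem_setOf_eq]
    funext g
    simp [convZ_apply]
  smul_mem' := by
    intro a u hu
    simp only [Set.mem_setOf_eq] at hu ⊢
    funext g
    have h1 := congrFun hu g
    simp only [convZ_apply, Pi.smul_apply, smul_eq_mul] at h1 ⊢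
    rw [mul_left_comm, ← h1, Finset.mul_sum]
    exact Finset.sum_congr rfl fun h _ => by ring

theorem mem_latt {c u : G → ℤ} : u ∈ latt c ↔ convZ u c = (Nat.card G : ℤ) • u := Iff.rfl

theorem ltr_mem_latt (c : G → ℤ) (g : G) {u : G → ℤ} (hu : u ∈ latt c) : ltr g u ∈ latt c := by
  rw [mem_latt] at hu ⊢
  rw [convZ_ltr, hu, map_smul]

/-- the left regular action of `G` on `latt c` -/
def lrep (c : G → ℤ) : G →* (↥(latt c) →ₗ[ℤ] ↥(latt c)) where
  toFun g := (ltr g).restrict (fun _ hu => ltr_mem_latt c g hu)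
  map_one' := by
    ext u x
    simp [ltr_one]
  map_mul' g h := by
    ext u x
    simp [ltr_mul]

theorem lrep_apply (c : G → ℤ) (g : G) (u : ↥(latt c)) (x : G) :
    ((lrep c g u : ↥(latt c)) : G → ℤ) x = (u : G → ℤ) (g⁻¹ * x) := rfl

example (c : G → ℤ) : Module.Free ℤ ↥(latt c) := inferInstance
example (c : G → ℤ) : Module.Finite ℤ ↥(latt c) := inferInstance

end Cfsg.Agent.Lib.Helper22.TB
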