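import Mathlib
import Cfsg.Agent.Lib.Helper80.Galois
import Cfsg.Agent.Lib.Helper80.Cyclo3
import Cfsg.Agent.Lib.Helper20.DetChar

/-!
# Galois twists of characters and descent to a cyclotomic field (helper22)

* `sum_coprime_pow_rat`: Ramanujan sums at prime power roots of unity are rational.
* `mem_adjoin_of_pow_invariant`: a character value fixed by all the twists `g ↦ g ^ k`
  with `k ≡ 1` modulo the `p'`-part lies in the `p'`-cyclotomic field.
* `character_pow_eq_of_mem_adjoin`: conversely a value in `ℚ(ζ_m)` is fixed by the twists with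
  `k ≡ 1 [MOD m]`.
* `detChar_twist`, `detOrder_twist_dvd`, `not_dvd_detOrder_of_twist_inv`.
* `exists_twist_exponent`.
-/

set_option autoImplicit false

namespace Cfsg.Agent.Lib.Helper22.PRat

open Cfsg
open Cfsg.Agent.Lib

theorem sum_coprime_pow_rat (p a : ℕ) (hp : p.Prime) (ξ : ℂ) (hξ : ξ ^ (p ^ a) = 1) :
    ∃ q : ℚ, ∑ u ∈ (Finset.range (p ^ a)).filter (fun u => Nat.Coprime u (p ^ a)), ξ ^ u
      = (q : ℂ) := by
  classical
  rcases Nat.eq_zero_or_pos a with rfl | ha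
  · refine ⟨1, ?_⟩
    have h0 : (Finset.range (p ^ 0)).filter (fun u => Nat.Coprime u (p ^ 0)) = {0} := by
      ext u; simp
    rw [h0]; simp
  · obtain ⟨m, rfl⟩ : ∃ m, a = m + 1 := ⟨a - 1, by omega⟩
    have hfil : (Finset.range (p ^ (m + 1))).filter (fun u => Nat.Coprime u (p ^ (m + 1))) =
        (Finset.range (p ^ (m + 1))).filter (fun u => ¬ p ∣ u) := by
      apply Finset.filter_congr
      intro u _
      rw [Nat.coprime_pow_right_iff (Nat.succ_pos m), Nat.coprime_comm, hp.coprime_iff_not_dvd]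
    rw [hfil]
    have h2 : ∑ i ∈ (Finset.range (p ^ (m + 1))).filter (fun i => p ∣ i), ξ ^ i =
        ∑ j ∈ Finset.range (p ^ m), (ξ ^ p) ^ j := by
      symm
      refine Finset.sum_bij (fun j _ => p * j) ?_ ?_ ?_ ?_
      · intro j hj
        rw [Finset.mem_range] at hj
        rw [Finset.mem_filter, Finset.mem_range, pow_succ, mul_comm (p ^ m) p]
        exact ⟨Nat.mul_lt_mul_of_pos_left hj hp.pos, dvd_mul_right p j⟩
      · intro j _ j' _ H
        exact Nat.eq_of_mul_eq_mul_left hp.pos H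
      · intro i hi
        rw [Finset.mem_filter, Finset.mem_range] at hi
        obtain ⟨j, rfl⟩ := hi.2
        refine ⟨j, ?_, rfl⟩
        rw [Finset.mem_range]
        have h3 := hi.1
        rw [pow_succ, mul_comm (p ^ m) p] at h3
        exact Nat.lt_of_mul_lt_mul_left h3
      · intro j _
        rw [← pow_mul]
    have h3 := Finset.sum_filter_add_sum_filter_not (Finset.range (p ^ (m + 1)))
      (fun i => p ∣ i) (fun i => ξ ^ i)
    have h4 := Helper80.Cyclo.geom_sum_root ξ (p ^ (m + 1)) hξ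
    have h5 : (ξ ^ p) ^ (p ^ m) = 1 := by
      rw [← pow_mul, ← pow_succ']
      exact hξ
    have h6 := Helper80.Cyclo.geom_sum_root (ξ ^ p) (p ^ m) h5
    rw [h2, h6, h4] at h3
    refine ⟨((p ^ (m + 1) : ℕ) : ℚ) * (if ξ = 1 then 1 else 0) -
      ((p ^ m : ℕ) : ℚ) * (if ξ ^ p = 1 then 1 else 0), ?_⟩
    have h7 : ∑ x ∈ (Finset.range (p ^ (m + 1))).filter (fun u => ¬ p ∣ u), ξ ^ x =
        ((p ^ (m + 1) : ℕ) : ℂ) * (if ξ = 1 then 1 else 0) -
          ((p ^ m : ℕ) : ℂ) * (if ξ ^ p = 1 then 1 else 0) := by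
      linear_combination h3
    rw [h7]
    split_ifs <;> push_cast <;> ring

/-- a character value fixed by all the twists `g ↦ g ^ k`, `k ≡ 1 [MOD n]`, lies in the `n`-th
cyclotomic field, when `g ^ (p ^ a * n) = 1` and `p ∤ n` -/
theorem mem_adjoin_of_pow_invariant {G : Type*} [Group G] {V : Type*} [AddCommGroup V]
    [Module ℂ V] [FiniteDimensional ℂ V] (ρ : Representation ℂ G V) (g : G) (p a n : ℕ)
    (hp : p.Prime) (hn : 0 < n) (hpn : ¬ p ∣ n) (hg : g ^ (p ^ a * n) = 1)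
    (hinv : ∀ k : ℕ, Nat.Coprime k (p ^ a * n) → k ≡ 1 [MOD n] →
      ρ.character (g ^ k) = ρ.character g) :
    ρ.character g ∈ IntermediateField.adjoin ℚ
      ({Complex.exp (2 * Real.pi * Complex.I / (n : ℂ))} : Set ℂ) := by
  classical
  obtain ⟨L, hLdef⟩ : ∃ L, L = p ^ a * n := ⟨_, rfl⟩
  have hL : 0 < L := by rw [hLdef]; exact Nat.mul_pos (pow_pos hp.pos a) hn
  obtain ⟨ζ, hζdef⟩ : ∃ ζ : ℂ, ζ = Complex.exp (2 * Real.pi * Complex.I / (L : ℂ)) := ⟨_, rfl⟩
  have hζ : IsPrimitiveRoot ζ L := by rw [hζdef]; exact Complex.isPrimitiveRoot_exp L hL.ne'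
  rw [← hLdef] at hg hinv
  obtain ⟨c, hc⟩ := Helper80.character_pow_eq ρ g L hL hg ζ hζ
  have hcop : Nat.Coprime (p ^ a) n :=
    Nat.Coprime.pow_left a ((Nat.Prime.coprime_iff_not_dvd hp).mpr hpn)
  obtain ⟨e₁, he₁a, he₁n⟩ := Nat.chineseRemainder hcop 1 0
  obtain ⟨e₂, he₂a, he₂n⟩ := Nat.chineseRemainder hcop 0 1
  obtain ⟨f₁, hf₁⟩ : n ∣ e₁ := (Nat.modEq_zero_iff_dvd).mp he₁n
  obtain ⟨f₂, hf₂⟩ : p ^ a ∣ e₂ := (Nat.modEq_zero_iff_dvd).mp he₂a
  have hη : ζ ^ (p ^ a) = Complex.exp (2 * Real.pi * Complex.I / (n : ℂ)) := by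
    rw [hζdef, ← Complex.exp_nat_mul, hLdef]
    congr 1
    have h1 : (n : ℂ) ≠ 0 := by exact_mod_cast hn.ne'
    have h2 : ((p : ℂ) ^ a) ≠ 0 := by exact_mod_cast (pow_pos hp.pos a).ne'
    push_cast
    field_simp
  obtain ⟨F, hF⟩ : ∃ F : IntermediateField ℚ ℂ, F = IntermediateField.adjoin ℚ
      ({Complex.exp (2 * Real.pi * Complex.I / (n : ℂ))} : Set ℂ) := ⟨_, rfl⟩
  rw [← hF]
  have hηF : ζ ^ (p ^ a) ∈ F := by
    rw [hη, hF]
    exact IntermediateField.subset_adjoin ℚ _ (Set.mem_singleton _)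
  obtain ⟨V, hV⟩ : ∃ V : Finset ℕ,
      V = (Finset.range (p ^ a)).filter (fun u => Nat.Coprime u (p ^ a)) := ⟨_, rfl⟩
  have hk : ∀ u ∈ V, ρ.character (g ^ (e₁ * u + e₂)) = ρ.character g := by
    intro u hu
    rw [hV, Finset.mem_filter] at hu
    have h1 : e₁ * u + e₂ ≡ u [MOD p ^ a] := by
      have h := (he₁a.mul_right u).add he₂a
      simpa using h
    have h2 : e₁ * u + e₂ ≡ 1 [MOD n] := by
      have h := (he₁n.mul_right u).add he₂n
      simpa using h
    apply hinv _ _ h2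
    rw [hLdef]
    apply Nat.Coprime.mul_right
    · have h := h1.gcd_eq
      unfold Nat.Coprime
      rw [h]
      exact hu.2
    · have h := h2.gcd_eq
      unfold Nat.Coprime
      rw [h]
      exact Nat.gcd_one_left n
  have hVne : (V.card : ℂ) ≠ 0 := by
    have h1 : (1 % p ^ a) ∈ V := by
      rw [hV, Finset.mem_filter, Finset.mem_range]
      refine ⟨Nat.mod_lt _ (pow_pos hp.pos a), ?_⟩
      exact (Nat.gcd_rec (p ^ a) 1).symm.trans (Nat.gcd_one_right _)
    have h2 : 0 < V.card := Finset.card_pos.mpr ⟨_, h1⟩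
    exact_mod_cast h2.ne'
  have hsum : (V.card : ℂ) * ρ.character g = ∑ j ∈ Finset.range L,
      (c j : ℂ) * ((ζ ^ (p ^ a)) ^ (f₂ * j) * ∑ u ∈ V, ((ζ ^ j) ^ e₁) ^ u) := by
    calc (V.card : ℂ) * ρ.character g = ∑ u ∈ V, ρ.character (g ^ (e₁ * u + e₂)) := by
          rw [Finset.sum_congr rfl hk, Finset.sum_const, nsmul_eq_mul]
      _ = ∑ u ∈ V, ∑ j ∈ Finset.range L, (c j : ℂ) * (ζ ^ j) ^ (e₁ * u + e₂) :=
          Finset.sum_congr rfl (fun u _ => hc _)
      _ = ∑ j ∈ Finset.range L, ∑ u ∈ V, (c j : ℂ) * (ζ ^ j) ^ (e₁ * u + e₂) := Finset.sum_comm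
      _ = _ := by
          refine Finset.sum_congr rfl (fun j _ => ?_)
          rw [Finset.mul_sum, Finset.mul_sum]
          refine Finset.sum_congr rfl (fun u _ => ?_)
          rw [hf₂]
          ring
  have hmem : (V.card : ℂ) * ρ.character g ∈ F := by
    rw [hsum]
    refine sum_mem (fun j _ => mul_mem (natCast_mem F _) (mul_mem (pow_mem hηF _) ?_))
    have hξ : ((ζ ^ j) ^ e₁) ^ (p ^ a) = 1 := by
      rw [hf₁, ← pow_mul, ← pow_mul]
      have h1 : j * (n * f₁ * p ^ a) = L * (j * f₁) := by rw [hLdef]; ring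
      rw [h1, pow_mul, hζ.pow_eq_one, one_pow]
    obtain ⟨q, hq⟩ := sum_coprime_pow_rat p a hp _ hξ
    rw [hV, hq]
    exact SubfieldClass.ratCast_mem F q
  have h9 : ρ.character g = (V.card : ℂ)⁻¹ * ((V.card : ℂ) * ρ.character g) := by
    field_simp
  rw [h9]
  exact mul_mem (inv_mem (natCast_mem F _)) hmem

/-- an automorphism of `ℂ` acting as `ζ ↦ ζ ^ k` on the `L`-th roots of unity twists character
values at elements of order dividing `L` -/
theorem tau_character (τ : ℂ ≃+* ℂ) (L k : ℕ) (hL : 0 < L)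
    (hτ : τ (Complex.exp (2 * Real.pi * Complex.I / (L : ℂ))) =
      (Complex.exp (2 * Real.pi * Complex.I / (L : ℂ))) ^ k)
    {G : Type*} [Group G] {V : Type*} [AddCommGroup V] [Module ℂ V] [FiniteDimensional ℂ V]
    (ρ : Representation ℂ G V) (g : G) (hg : g ^ L = 1) :
    τ (ρ.character g) = ρ.character (g ^ k) := by
  have hζ := Complex.isPrimitiveRoot_exp L hL.ne'
  obtain ⟨mult, hm⟩ := Helper80.character_pow_eq ρ g L hL hg _ hζ
  have h1 := hm 1
  have hk' := hm k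
  rw [pow_one] at h1
  rw [h1, hk', map_sum]
  refine Finset.sum_congr rfl fun j _ => ?_
  rw [map_mul, map_natCast, pow_one, map_pow, hτ]
  ring

/-- a ring automorphism of `ℂ` fixing `η` fixes `ℚ(η)` pointwise -/
theorem tau_fix_adjoin (τ : ℂ ≃+* ℂ) (η : ℂ) (hη : τ η = η) (z : ℂ)
    (hz : z ∈ IntermediateField.adjoin ℚ ({η} : Set ℂ)) : τ z = z := by
  induction hz using IntermediateField.adjoin_induction with
  | mem x hx =>
    rw [Set.mem_singleton_iff] at hx
    rw [hx]; exact hη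
  | algebraMap q =>
    rw [eq_ratCast (algebraMap ℚ ℂ) q]
    exact map_ratCast τ q
  | add x y _ _ hx hy => rw [map_add, hx, hy]
  | inv x _ hx => rw [map_inv₀, hx]
  | mul x y _ _ hx hy => rw [map_mul, hx, hy]

/-- a character value in `ℚ(ζ_m)` is fixed by the twists `g ↦ g ^ k` with `k ≡ 1 [MOD m]` -/
theorem character_pow_eq_of_mem_adjoin {G : Type*} [Group G] [Finite G] {V : Type*}
    [AddCommGroup V] [Module ℂ V] [FiniteDimensional ℂ V] (ρ : Representation ℂ G V) (g : G)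
    (m k : ℕ) (hm : 0 < m) (hk : Nat.Coprime k (Nat.card G * m)) (hk1 : k ≡ 1 [MOD m])
    (hmem : ρ.character g ∈ IntermediateField.adjoin ℚ
      ({Complex.exp (2 * Real.pi * Complex.I / (m : ℂ))} : Set ℂ)) :
    ρ.character (g ^ k) = ρ.character g := by
  obtain ⟨L, hLdef⟩ : ∃ L, L = Nat.card G * m := ⟨_, rfl⟩
  have hL : 0 < L := by rw [hLdef]; exact Nat.mul_pos Nat.card_pos hm
  rw [← hLdef] at hk
  have hζ := Complex.isPrimitiveRoot_exp L hL.ne'
  obtain ⟨τ, hτ⟩ := Helper80.exists_ringEquiv_pow L k hL hk _ hζ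
  have hgL : g ^ L = 1 := by rw [hLdef, pow_mul, pow_card_eq_one', one_pow]
  rw [← tau_character τ L k hL hτ ρ g hgL]
  apply tau_fix_adjoin τ _ _ _ hmem
  have hη : Complex.exp (2 * Real.pi * Complex.I / (m : ℂ)) =
      (Complex.exp (2 * Real.pi * Complex.I / (L : ℂ))) ^ (Nat.card G) := by
    rw [← Complex.exp_nat_mul, hLdef]
    congr 1
    have h1 : (m : ℂ) ≠ 0 := by exact_mod_cast hm.ne'
    have h2 : (Nat.card G : ℂ) ≠ 0 := by exact_mod_cast (Nat.card_pos (α := G)).ne'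
    push_cast
    field_simp
  have hηm : Complex.exp (2 * Real.pi * Complex.I / (m : ℂ)) ^ m = 1 :=
    (Complex.isPrimitiveRoot_exp m hm.ne').pow_eq_one
  conv_lhs => rw [hη]
  rw [map_pow, hτ, ← pow_mul, mul_comm k (Nat.card G), pow_mul, ← hη]
  rw [pow_eq_pow_mod k hηm, hk1, ← pow_eq_pow_mod 1 hηm, pow_one]

theorem detChar_twist {G : Type*} [Group G] [Finite G] {n : ℕ} (τ : ℂ →+* ℂ)
    (ρ : Representation ℂ G (Fin n → ℂ)) (g : G) :
    detChar (fun g => τ (ρ.character g)) g = τ (detChar ρ.character g) := by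
  have h1 : (fun g => τ (ρ.character g)) = (Helper80.twistRep τ ρ).character :=
    funext fun g => (Helper80.twistRep_character τ ρ g).symm
  rw [h1, Helper20.detChar_eq, Helper20.detChar_eq]
  have h2 : Helper80.twistRep τ ρ g = Matrix.toLin' ((LinearMap.toMatrix' (ρ g)).map τ) := rfl
  rw [h2, LinearMap.det_toLin', ← RingHom.mapMatrix_apply, ← RingHom.map_det,
    LinearMap.det_toMatrix']

theorem detOrder_twist_dvd {G : Type*} [Group G] [Finite G] (τ : ℂ →+* ℂ) {χ : G → ℂ}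
    (hχ : IsCharacter G χ) : detOrder (fun g => τ (χ g)) ∣ detOrder χ := by
  obtain ⟨n, ρ, rfl⟩ := hχ
  unfold detOrder
  apply orderOf_dvd_of_pow_eq_one
  funext g
  rw [Pi.pow_apply, detChar_twist, ← map_pow]
  have h1 := congrFun (pow_orderOf_eq_one (detChar ρ.character)) g
  rw [Pi.pow_apply, Pi.one_apply] at h1
  rw [h1, map_one]
  rfl

theorem detChar_pow_card {G : Type*} [Group G] [Finite G] (χ : G → ℂ) (g : G) :
    detChar χ g ^ Nat.card G = 1 := by
  obtain ⟨f, hf⟩ := Helper20.exists_detHom χ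
  rw [← hf, ← Units.val_pow_eq_pow_val, ← map_pow, pow_card_eq_one', map_one, Units.val_one]

theorem detOrder_pos {G : Type*} [Group G] [Finite G] (χ : G → ℂ) : 0 < detOrder χ := by
  unfold detOrder
  apply orderOf_pos_iff.mpr
  apply isOfFinOrder_iff_pow_eq_one.mpr
  refine ⟨Nat.card G, Nat.card_pos, ?_⟩
  funext g
  rw [Pi.pow_apply]
  exact detChar_pow_card χ g

theorem detChar_pow_detOrder {G : Type*} [Group G] (χ : G → ℂ) (g : G) :
    detChar χ g ^ detOrder χ = 1 := by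
  have h1 := congrFun (pow_orderOf_eq_one (detChar χ)) g
  rw [Pi.pow_apply, Pi.one_apply] at h1
  exact h1

/-- a character fixed by the twist `g ↦ g ^ k` has determinantal order dividing `k - 1` -/
theorem not_dvd_detOrder_of_twist_inv {G : Type*} [Group G] [Finite G] (p k : ℕ)
    (hk : Nat.Coprime k (Nat.card G)) (hk1 : 1 ≤ k) (hkp : ¬ p ∣ (k - 1)) {χ : G → ℂ}
    (hχ : IsCharacter G χ) (hinv : ∀ g, χ (g ^ k) = χ g) : ¬ p ∣ detOrder χ := by
  obtain ⟨n, ρ, rfl⟩ := hχ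
  have hL : 0 < Nat.card G := Nat.card_pos
  have hζ := Complex.isPrimitiveRoot_exp (Nat.card G) hL.ne'
  obtain ⟨τ, hτ⟩ := Helper80.exists_ringEquiv_pow (Nat.card G) k hL hk _ hζ
  have h1 : (fun g => (τ : ℂ →+* ℂ) (ρ.character g)) = ρ.character := by
    funext g
    show τ (ρ.character g) = ρ.character g
    rw [tau_character τ (Nat.card G) k hL hτ ρ g pow_card_eq_one', hinv]
  have h2 : ∀ g, detChar ρ.character g ^ (k - 1) = 1 := by
    intro g
    have h3 := detChar_twist (τ : ℂ →+* ℂ) ρ g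
    rw [h1] at h3
    have h4 := detChar_pow_card ρ.character g
    have : NeZero (Nat.card G) := ⟨hL.ne'⟩
    obtain ⟨i, -, hi⟩ := hζ.eq_pow_of_pow_eq_one h4
    have h5 : detChar ρ.character g ^ k = detChar ρ.character g := by
      conv_rhs => rw [h3]
      rw [← hi]
      show _ = τ _
      rw [map_pow, hτ, ← pow_mul, ← pow_mul, mul_comm i k]
    have h6 : detChar ρ.character g ≠ 0 := by
      intro h0
      rw [h0, zero_pow hL.ne'] at h4
      exact zero_ne_one h4
    have h7 : detChar ρ.character g ^ (k - 1) * detChar ρ.character g =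
        1 * detChar ρ.character g := by
      rw [← pow_succ, Nat.sub_add_cancel hk1, h5, one_mul]
    exact mul_right_cancel₀ h6 h7
  intro hdvd
  apply hkp
  refine dvd_trans hdvd ?_
  unfold detOrder
  apply orderOf_dvd_of_pow_eq_one
  funext g
  rw [Pi.pow_apply]
  exact h2 g

/-- a twisting exponent: `k ≡ 1` modulo every `p'`-divisor of `c`, `k` coprime to `c` and
`k ≢ 1 [MOD p]` (for `p` odd) -/
theorem exists_twist_exponent (p : ℕ) (hp : p.Prime) (hp2 : p ≠ 2) (c : ℕ) (hc : 0 < c) :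
    ∃ k : ℕ, 1 ≤ k ∧ Nat.Coprime k c ∧ ¬ p ∣ (k - 1) ∧
      ∀ m, m ∣ c → ¬ p ∣ m → k ≡ 1 [MOD m] := by
  obtain ⟨c', hc'⟩ : ∃ c', c' = c / p ^ c.factorization p := ⟨_, rfl⟩
  have hcop : Nat.Coprime c' p := by
    rw [hc']
    exact (Nat.coprime_ordCompl hp hc.ne').symm
  have hmul : p ^ c.factorization p * c' = c := by
    rw [hc']
    exact Nat.ordProj_mul_ordCompl_eq_self c p
  obtain ⟨k, hk1, hk2⟩ := Nat.chineseRemainder hcop 1 2
  have hkpos : 1 ≤ k := by
    rcases Nat.eq_zero_or_pos k with h0 | h0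
    · exfalso
      rw [h0] at hk2
      have h1 : p ∣ 2 := (Nat.modEq_zero_iff_dvd).mp hk2.symm
      exact hp2 ((Nat.prime_dvd_prime_iff_eq hp Nat.prime_two).mp h1)
    · exact h0
  have hkp : Nat.Coprime k p := by
    have h := hk2.gcd_eq
    unfold Nat.Coprime
    rw [h]
    have h2 : Nat.Coprime p 2 := (Nat.coprime_primes hp Nat.prime_two).mpr hp2
    exact h2.symm
  refine ⟨k, hkpos, ?_, ?_, ?_⟩
  · rw [← hmul]
    apply Nat.Coprime.mul_right
    · exact Nat.Coprime.pow_right _ hkp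
    · have h := hk1.gcd_eq
      unfold Nat.Coprime
      rw [h]
      exact Nat.gcd_one_left c'
  · intro hdvd
    have h1 : k ≡ 1 [MOD p] := ((Nat.modEq_iff_dvd' hkpos).mpr hdvd).symm
    have h2 : 1 ≡ 2 [MOD p] := h1.symm.trans hk2
    have h3 : p ∣ 2 - 1 := (Nat.modEq_iff_dvd' (by norm_num)).mp h2
    exact hp.one_lt.ne' (Nat.dvd_one.mp h3)
  · intro m hm hpm
    have h1 : m ∣ c' := by
      rw [← hmul] at hm
      have hcop' : Nat.Coprime m (p ^ c.factorization p) :=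
        Nat.Coprime.pow_right _ ((Nat.Prime.coprime_iff_not_dvd hp).mpr hpm).symm
      exact hcop'.dvd_of_dvd_mul_left hm
    exact hk1.of_dvd h1

end Cfsg.Agent.Lib.Helper22.PRat
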