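import Mathlib
import Cfsg.Agent.S0908
import Cfsg.Agent.S0914
import Cfsg.Agent.Lib.Helper22.Cover
import Cfsg.Agent.Lib.Helper22.Defect2
import Cfsg.Agent.Lib.Helper82.CharCore

/-!
# Blocks with defect groups of order `p`: degrees (helper22)

* `blockOf_eq_of_mem`: a block is the block of each of its members;
* `factorization_degree_of_defect_one`: in a block whose defect groups have order `p`, every
  member `χ` has `ν_p(χ(1)) + 1 = ν_p(|G|)`.
-/

set_option autoImplicit false

namespace Cfsg.Agent.Lib.Helper22

open Cfsg Cfsg.Agent.Lib.Helper4 Cfsg.Agent.Lib.Helper21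
open scoped ComplexConjugate

variable {G : Type*} [Group G] {p : ℕ} {M : Ideal AlgInt}

/-- A block is the block of each of its members. -/
theorem blockOf_eq_of_mem (hM : IsPModular p M) (B : Set (IrrCharacter G)) (hB : IsPBlock M B)
    (χ : IrrCharacter G) (hχ : χ ∈ B) : B = blockOf M (χ : G → ℂ) := by
  obtain ⟨χ₀, rfl⟩ := hB
  exact (blockOf_eq_of_sameBlock hM hχ).symm

/-- In a block whose defect groups have order `p`, every member has degree with `p`-exponent one
less than that of the group order. -/
theorem factorization_degree_of_defect_one [Finite G] [Fact p.Prime] (hM : IsPModular p M)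
    (B : Set (IrrCharacter G)) (hB : IsPBlock M B) (D : Subgroup G)
    (hD : IsDefectGroup p M B D) (hcard : Nat.card D = p) (χ : IrrCharacter G) (hχ : χ ∈ B) :
    (charDegree (χ : G → ℂ)).factorization p + 1 = (Nat.card G).factorization p := by
  have hp : p.Prime := Fact.out
  have h1 := Cfsg.Agent.S0908.result p M hM B hB D hD
  rw [hcard] at h1
  have hbd : blockDefect p B = 1 := by
    have h2 : p ^ 1 = p ^ blockDefect p B := by rw [pow_one]; exact h1
    exact (Nat.pow_right_injective hp.two_le h2).symm
  set S : Set ℕ := (fun χ : IrrCharacter G => (charDegree (χ : G → ℂ)).factorization p) '' B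
    with hS
  have hbd' : (Nat.card G).factorization p - sInf S = 1 := hbd
  have hχS : (charDegree (χ : G → ℂ)).factorization p ∈ S := ⟨χ, hχ, rfl⟩
  have hle := Nat.sInf_le hχS
  have hdvd := Cfsg.Agent.Lib.Helper82.irr_degree_dvd_card χ
  have hne := (Cfsg.Agent.Lib.Helper82.irr_charDegree χ).2
  have hG0 : Nat.card G ≠ 0 := Nat.card_pos.ne'
  have hle2 : (charDegree (χ : G → ℂ)).factorization p ≤ (Nat.card G).factorization p :=
    (Nat.factorization_le_iff_dvd hne hG0).mpr hdvd p
  by_cases heq : (charDegree (χ : G → ℂ)).factorization p = (Nat.card G).factorization p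
  · exfalso
    have h3 : ¬ p ∣ Nat.card G / charDegree (χ : G → ℂ) := by
      intro hdiv
      have h4 : (Nat.card G / charDegree (χ : G → ℂ)).factorization p = 0 := by
        rw [Nat.factorization_div hdvd]
        simp [heq]
      have h5 : Nat.card G / charDegree (χ : G → ℂ) ≠ 0 := by
        intro h0
        have := Nat.div_mul_cancel hdvd
        rw [h0, zero_mul] at this
        exact hG0 this.symm
      have h6 := (hp.dvd_iff_one_le_factorization h5).mp hdiv
      omega
    have h7 := (Cfsg.Agent.S0914.result p M hM χ).mp h3
    have h8 : B = {χ} := by rw [blockOf_eq_of_mem hM B hB χ hχ, h7]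
    have h9 : S = {(charDegree (χ : G → ℂ)).factorization p} := by
      rw [hS, h8, Set.image_singleton]
    rw [h9, csInf_singleton, heq] at hbd'
    omega
  · omega

end Cfsg.Agent.Lib.Helper22
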