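import Mathlib
import Cfsg.Agent.S0919
import Cfsg.Agent.S0920
import Cfsg.Agent.S4653
import Cfsg.Agent.Lib.Helper22.FMT
import Cfsg.Agent.Lib.Helper22.NilIdem
import Cfsg.Agent.Lib.Helper22.DefectTwoA
import Cfsg.Agent.Lib.Helper81.BrStable
import Cfsg.Agent.Lib.Helper81.BrNormal
import Cfsg.Agent.Lib.Helper82.Sect

/-!
# The First Main Theorem in idempotent form (helper22)

* `fmt_blockCoeff_congr`: if `B` is a block of `G` with defect group `D` and `b` the block of
  `N_G(D)` inducing `B`, then the idempotents of `B` and `b` agree modulo the local ideal on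
  `C_G(D)` (the Brauer map sends the idempotent of `B` to that of `b`).
* `block_eq_of_blockCoeff_congr_on_centralizer`: blocks of a group with a normal `p`-subgroup
  `D` are determined by their idempotents modulo the local ideal on `C(D)`.
-/

set_option autoImplicit false

namespace Cfsg.Agent.Lib.Helper22

open Cfsg Cfsg.Agent.Lib.Helper4 Cfsg.Agent.Lib.Helper21
open scoped ComplexConjugate

variable {G : Type*} [Group G] {p : ℕ} {M : Ideal AlgInt}

theorem exists_mem_of_isPBlock (hM : IsPModular p M) {B : Set (IrrCharacter G)}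
    (hB : IsPBlock M B) : ∃ χ, χ ∈ B := by
  obtain ⟨χ, rfl⟩ := hB
  exact ⟨χ, mem_blockOf_self hM χ⟩

theorem block_eq_of_mem_of_mem (hM : IsPModular p M) {B B' : Set (IrrCharacter G)}
    (hB : IsPBlock M B) (hB' : IsPBlock M B') (χ : IrrCharacter G) (h : χ ∈ B) (h' : χ ∈ B') :
    B = B' := by
  rw [blockOf_eq_of_mem hM B hB χ h, blockOf_eq_of_mem hM B' hB' χ h']

/-- The Brauer map with respect to a defect group `D` of `B` sends the idempotent of `B` to the
idempotent of its Brauer correspondent in `N_G(D)`. -/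
theorem fmt_blockCoeff_congr [Fintype G] [Fact p.Prime] (hM : IsPModular p M) (D : Subgroup G)
    [Fintype (Subgroup.normalizer (D : Set G))] (hD : IsPGroup p D)
    (B : Set (IrrCharacter G)) (hDB : IsDefectGroup p M B D)
    (b : Set (IrrCharacter (Subgroup.normalizer (D : Set G))))
    (hind : IsInducedBlock M (Subgroup.normalizer (D : Set G)) b B)
    (k : Subgroup.normalizer (D : Set G)) (hk : (k : G) ∈ Subgroup.centralizer (D : Set G)) :
    MemLocalIdeal M (blockCoeff B (k : G) - blockCoeff b k) := by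
  classical
  have hB := hind.2.1
  have ha := isLocClass_blockCoeff hM B hB
  have hCH : Subgroup.centralizer (D : Set G) ≤ Subgroup.normalizer (D : Set G) :=
    Subgroup.centralizer_le_normalizer _
  obtain ⟨c, hcdef⟩ : ∃ c : Subgroup.normalizer (D : Set G) → ℂ,
      c = brRes D (Subgroup.normalizer (D : Set G)) (blockCoeff B) := ⟨_, rfl⟩
  have hc : IsLocClass M c := by
    rw [hcdef]; exact isLocClass_brRes hM D _ le_rfl ha
  have hid : ∀ k, MemLocalIdeal M (conv c c k - c k) := by
    intro k
    have h2 := brRes_conv hM D (Subgroup.normalizer (D : Set G)) hD hCH ha ha k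
    rw [blockCoeff_conv, ← hcdef] at h2
    have h3 := locIdeal_neg h2
    rwa [neg_sub] at h3
  have hdb := fmt_defectGroup_of_induced hM D hD B hDB b hind
  have hω : ∀ f : Set (IrrCharacter (Subgroup.normalizer (D : Set G))), IsPBlock M f → f ≠ b →
      ∀ η ∈ f, MemLocalIdeal M (omega (η : Subgroup.normalizer (D : Set G) → ℂ) c) := by
    intro f hf hfb η hη
    obtain ⟨B', hB'⟩ := Cfsg.Agent.S0919.result p M hM D (Subgroup.normalizer (D : Set G)) hD
      Subgroup.le_normalizer hCH le_rfl f hf
    obtain ⟨χ', hχ'⟩ := exists_mem_of_isPBlock hM hB'.2.1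
    have h1 := omega_brRes_sub_locIdeal hM D (Subgroup.normalizer (D : Set G)) hD
      Subgroup.le_normalizer hCH le_rfl f B' hB' η hη χ' hχ' (blockCoeff B) ha
    rw [omega_blockCoeff, ← hcdef] at h1
    by_cases hχB : χ' ∈ B
    · exfalso
      have hBB' : B' = B := block_eq_of_mem_of_mem hM hB'.2.1 hB χ' hχ' hχB
      rw [hBB'] at hB'
      exact hfb (fmt_unique hM D hD B f b hB' hind
        (fmt_defectGroup_of_induced hM D hD B hDB f hB') hdb)
    · rwa [if_neg hχB, sub_zero] at h1
  have hω1 : ∀ η ∈ b, MemLocalIdeal M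
      (omega (η : Subgroup.normalizer (D : Set G) → ℂ) c - 1) := by
    intro η hη
    obtain ⟨χ, hχ⟩ := exists_mem_of_isPBlock hM hB
    have h1 := omega_brRes_sub_locIdeal hM D (Subgroup.normalizer (D : Set G)) hD
      Subgroup.le_normalizer hCH le_rfl b B hind η hη χ hχ (blockCoeff B) ha
    rwa [omega_blockCoeff, if_pos hχ, ← hcdef] at h1
  haveI := irr_finite (G := Subgroup.normalizer (D : Set G))
  letI : Fintype (Set (IrrCharacter (Subgroup.normalizer (D : Set G)))) := Fintype.ofFinite _
  have hsum : ∀ k : Subgroup.normalizer (D : Set G), c k =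
      ∑ f : Set (IrrCharacter (Subgroup.normalizer (D : Set G))),
        (if IsPBlock M f then conv c (blockCoeff f) k else 0) := by
    intro k
    have h2 : classInd (1 : Subgroup.normalizer (D : Set G)) = fun k =>
        ∑ f : Set (IrrCharacter (Subgroup.normalizer (D : Set G))),
          (if IsPBlock M f then blockCoeff f k else 0) := by
      funext k
      rw [Cfsg.Agent.Lib.Helper81.sum_blocks_blockCoeff hM k, classInd_apply]
      by_cases hk1 : k = 1
      · rw [if_pos hk1, if_pos (by rw [hk1])]
      · rw [if_neg hk1, if_neg]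
        intro hcj
        exact hk1 (isConj_one_left.mp hcj)
    have h3 : c k = conv c (classInd (1 : Subgroup.normalizer (D : Set G))) k := by
      rw [conv_classInd_one]
    rw [h3, h2, conv_apply]
    simp only [Finset.mul_sum]
    rw [Finset.sum_comm]
    refine Finset.sum_congr rfl fun f _ => ?_
    by_cases hf : IsPBlock M f
    · simp only [if_pos hf, conv_apply]
    · simp only [if_neg hf, mul_zero, Finset.sum_const_zero]
  have hck : blockCoeff B (k : G) = c k := by
    rw [hcdef, brRes_apply, if_pos hk]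
  rw [hck, hsum k, ← Finset.add_sum_erase Finset.univ _ (Finset.mem_univ b), if_pos hind.1]
  have e : ∀ s : ℂ, conv c (blockCoeff b) k + s - blockCoeff b k =
      (conv c (blockCoeff b) k - blockCoeff b k) + s := fun s => by ring
  rw [e]
  refine locIdeal_add hM
    (Cfsg.Agent.Lib.Helper81.conv_blockCoeff_sub_locIdeal hM hc hid b hind.1 hω1 k)
    (locIdeal_sum hM _ _ fun f hf => ?_)
  by_cases hfb : IsPBlock M f
  · rw [if_pos hfb]
    exact Cfsg.Agent.Lib.Helper81.conv_blockCoeff_locIdeal hM hc hid f hfb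
      (hω f hfb (Finset.ne_of_mem_erase hf)) k
  · rw [if_neg hfb]
    exact locIdeal_zero hM

/-- Two blocks whose idempotents agree modulo the local ideal at every element are equal. -/
theorem block_eq_of_blockCoeff_congr [Fintype G] (hM : IsPModular p M)
    (b₁ b₂ : Set (IrrCharacter G)) (h₁ : IsPBlock M b₁) (h₂ : IsPBlock M b₂)
    (h : ∀ g : G, MemLocalIdeal M (blockCoeff b₁ g - blockCoeff b₂ g)) : b₁ = b₂ := by
  classical
  obtain ⟨ψ, hψ⟩ := exists_mem_of_isPBlock hM h₁
  have hcf : IsClassFunction G (fun g => blockCoeff b₁ g - blockCoeff b₂ g) := by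
    intro x y
    simp only [blockCoeff_isClassFunction b₁ x y, blockCoeff_isClassFunction b₂ x y]
  have h1 := Cfsg.Agent.Lib.Helper82.omega_locIdeal hM ψ hcf h
  have e : (fun g => blockCoeff b₁ g - blockCoeff b₂ g) = blockCoeff b₁ - blockCoeff b₂ := rfl
  rw [e, omega_sub, omega_blockCoeff, omega_blockCoeff, if_pos hψ] at h1
  by_cases hψ2 : ψ ∈ b₂
  · exact block_eq_of_mem_of_mem hM h₁ h₂ ψ hψ hψ2
  · rw [if_neg hψ2, sub_zero] at h1
    exact absurd h1 (locIdeal_one_not hM)

/-- Blocks of a group with a normal `p`-subgroup `D` are determined by their idempotents modulo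
the local ideal on `C(D)`. -/
theorem block_eq_of_blockCoeff_congr_on_centralizer [Fintype G] [Fact p.Prime]
    (hM : IsPModular p M) (D : Subgroup G) [D.Normal] (hD : IsPGroup p D)
    (b₁ b₂ : Set (IrrCharacter G)) (h₁ : IsPBlock M b₁) (h₂ : IsPBlock M b₂)
    (h : ∀ g : G, g ∈ Subgroup.centralizer (D : Set G) →
      MemLocalIdeal M (blockCoeff b₁ g - blockCoeff b₂ g)) : b₁ = b₂ := by
  refine block_eq_of_blockCoeff_congr hM b₁ b₂ h₁ h₂ fun g => ?_
  by_cases hg : g ∈ Subgroup.centralizer (D : Set G)
  · exact h g hg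
  · rw [Cfsg.Agent.S4653.result p M hM D hD b₁ h₁ g hg,
      Cfsg.Agent.S4653.result p M hM D hD b₂ h₂ g hg, sub_zero]
    exact locIdeal_zero hM

end Cfsg.Agent.Lib.Helper22
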