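import Mathlib
import Cfsg.Agent.Lib.Helper22.SylowAux
import Cfsg.Agent.Lib.Helper81.IrrEquiv

/-!
# Transport of defect groups along group isomorphisms; the normalizer inside a subgroup
(helper22)

* `isDefectGroup_image_irrMap`: defect groups are transported by `Helper81.irrMap`;
* `normEquiv P H h`: for `N_G(P) ≤ H`, the isomorphism `N_H(P ∩ H) ≃* N_G(P)`.
-/

set_option autoImplicit false

namespace Cfsg.Agent.Lib.Helper22

open Cfsg Cfsg.Agent.Lib.Helper4 Cfsg.Agent.Lib.Helper21 Cfsg.Agent.Lib.Helper81
open scoped ComplexConjugate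

section Transport

variable {K K' : Type*} [Group K] [Group K'] {p : ℕ} {M : Ideal AlgInt}

theorem centralizer_singleton_map_equiv (φ : K ≃* K') (g : K) :
    (Subgroup.centralizer ({g} : Set K)).map φ.toMonoidHom =
      Subgroup.centralizer ({φ g} : Set K') := by
  ext y
  rw [Subgroup.mem_map_equiv, Subgroup.mem_centralizer_iff, Subgroup.mem_centralizer_iff]
  constructor
  · intro h z hz
    rw [Set.mem_singleton_iff.mp hz]
    have h1 := h g rfl
    have h2 := congrArg φ h1
    rwa [map_mul, map_mul, MulEquiv.apply_symm_apply] at h2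
  · intro h z hz
    rw [Set.mem_singleton_iff.mp hz]
    have h1 := h (φ g) rfl
    have h2 := congrArg φ.symm h1
    rwa [map_mul, map_mul, MulEquiv.symm_apply_apply] at h2

/-- Defect groups are transported along group isomorphisms. -/
theorem isDefectGroup_image_irrMap [Finite K] [Fact p.Prime] (φ : K ≃* K')
    (e : Set (IrrCharacter K)) (D : Subgroup K) (h : IsDefectGroup p M e D) :
    IsDefectGroup p M (irrMap φ '' e) (D.map φ.toMonoidHom) := by
  haveI : Finite K' := Finite.of_equiv K φ.toEquiv
  obtain ⟨g, hg, P, rfl⟩ := h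
  refine ⟨φ g, ⟨?_, ?_, ?_⟩, ?_⟩
  · rw [blockCoeff_image_irrMap, MulEquiv.symm_apply_apply]; exact hg.1
  · rw [blockCoeff_image_irrMap, MulEquiv.symm_apply_apply]; exact hg.2.1
  · rintro _ ⟨θ, hθ, rfl⟩
    rw [centralChar_irrMap, MulEquiv.symm_apply_apply]
    exact hg.2.2 θ hθ
  · have hS : IsSylowOf p (Subgroup.centralizer ({g} : Set K))
        ((P : Subgroup (Subgroup.centralizer ({g} : Set K))).map
          (Subgroup.centralizer ({g} : Set K)).subtype) := ⟨P, rfl⟩
    have h1 := (isSylowOf_iff _ _).mp hS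
    have h2 : IsSylowOf p (Subgroup.centralizer ({φ g} : Set K'))
        (((P : Subgroup (Subgroup.centralizer ({g} : Set K))).map
          (Subgroup.centralizer ({g} : Set K)).subtype).map φ.toMonoidHom) := by
      rw [isSylowOf_iff]
      refine ⟨?_, ?_⟩
      · rw [← centralizer_singleton_map_equiv]
        exact Subgroup.map_mono h1.1
      · rw [Subgroup.card_map_of_injective φ.injective, h1.2, ← centralizer_singleton_map_equiv,
          Subgroup.card_map_of_injective φ.injective]
    obtain ⟨S, hS'⟩ := h2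
    exact ⟨S, hS'.symm⟩

end Transport

section Norm

variable {G : Type*} [Group G]

theorem mem_centralizer_subgroupOf_iff {P H : Subgroup G} (hPH : P ≤ H) (h : H) :
    h ∈ Subgroup.centralizer ((P.subgroupOf H : Subgroup H) : Set H) ↔
      (h : G) ∈ Subgroup.centralizer (P : Set G) := by
  rw [Subgroup.mem_centralizer_iff, Subgroup.mem_centralizer_iff]
  constructor
  · intro hh q hq
    have h1 := hh ⟨q, hPH hq⟩ (by
      show (⟨q, hPH hq⟩ : H) ∈ P.subgroupOf H
      rw [Subgroup.mem_subgroupOf]; exact hq)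
    exact congrArg (Subtype.val : H → G) h1
  · intro hh k hk
    have hk' : (k : G) ∈ P := Subgroup.mem_subgroupOf.mp hk
    exact Subtype.ext (hh (k : G) hk')

theorem mem_normalizer_subgroupOf_iff {P H : Subgroup G} (hPH : P ≤ H) (h : H) :
    h ∈ Subgroup.normalizer ((P.subgroupOf H : Subgroup H) : Set H) ↔
      (h : G) ∈ Subgroup.normalizer (P : Set G) := by
  rw [Subgroup.mem_normalizer_iff, Subgroup.mem_normalizer_iff]
  constructor
  · intro hh q
    constructor
    · intro hq
      have h1 := (hh ⟨q, hPH hq⟩).mp (Subgroup.mem_subgroupOf.mpr hq)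
      exact Subgroup.mem_subgroupOf.mp h1
    · intro hq
      have hqH : q ∈ H := by
        have h1 : (h : G)⁻¹ * ((h : G) * q * (h : G)⁻¹) * (h : G) ∈ H :=
          H.mul_mem (H.mul_mem (H.inv_mem h.2) (hPH hq)) h.2
        have e : (h : G)⁻¹ * ((h : G) * q * (h : G)⁻¹) * (h : G) = q := by group
        rwa [e] at h1
      have h1 := (hh ⟨q, hqH⟩).mpr (Subgroup.mem_subgroupOf.mpr hq)
      exact Subgroup.mem_subgroupOf.mp h1
  · intro hh k
    rw [Subgroup.mem_subgroupOf, Subgroup.mem_subgroupOf]
    exact hh (k : G)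

/-- For `N_G(P) ≤ H`: the normalizer of `P` in `H` is isomorphic to `N_G(P)`. -/
noncomputable def normEquiv (P H : Subgroup G) (hNH : Subgroup.normalizer (P : Set G) ≤ H) :
    Subgroup.normalizer ((P.subgroupOf H : Subgroup H) : Set H) ≃*
      Subgroup.normalizer (P : Set G) :=
  MulEquiv.ofBijective
    ((H.subtype.comp (Subgroup.normalizer ((P.subgroupOf H : Subgroup H) : Set H)).subtype).codRestrict
      (Subgroup.normalizer (P : Set G))
      (fun n => (mem_normalizer_subgroupOf_iff (Subgroup.le_normalizer.trans hNH) (n : H)).mp n.2))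
    ⟨fun a b hab => by
        have h1 := congrArg (Subtype.val : Subgroup.normalizer (P : Set G) → G) hab
        exact Subtype.ext (Subtype.ext h1),
      fun y => ⟨⟨⟨(y : G), hNH y.2⟩,
        (mem_normalizer_subgroupOf_iff (Subgroup.le_normalizer.trans hNH) _).mpr y.2⟩,
        Subtype.ext rfl⟩⟩

theorem normEquiv_apply_coe (P H : Subgroup G) (hNH : Subgroup.normalizer (P : Set G) ≤ H)
    (n : Subgroup.normalizer ((P.subgroupOf H : Subgroup H) : Set H)) :
    ((normEquiv P H hNH n : Subgroup.normalizer (P : Set G)) : G) = ((n : H) : G) := rfl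

theorem normEquiv_symm_coe (P H : Subgroup G) (hNH : Subgroup.normalizer (P : Set G) ≤ H)
    (y : Subgroup.normalizer (P : Set G)) :
    ((((normEquiv P H hNH).symm y : Subgroup.normalizer ((P.subgroupOf H : Subgroup H) : Set H)) : H) : G)
      = (y : G) := by
  have h1 := normEquiv_apply_coe P H hNH ((normEquiv P H hNH).symm y)
  rw [MulEquiv.apply_symm_apply] at h1
  exact h1.symm

theorem map_normEquiv (P H : Subgroup G) (hNH : Subgroup.normalizer (P : Set G) ≤ H) :
    ((P.subgroupOf H).subgroupOf
      (Subgroup.normalizer ((P.subgroupOf H : Subgroup H) : Set H))).map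
        (normEquiv P H hNH).toMonoidHom = P.subgroupOf (Subgroup.normalizer (P : Set G)) := by
  ext y
  rw [Subgroup.mem_map_equiv, Subgroup.mem_subgroupOf, Subgroup.mem_subgroupOf,
    Subgroup.mem_subgroupOf, normEquiv_symm_coe]

theorem map_normEquiv_symm (P H : Subgroup G) (hNH : Subgroup.normalizer (P : Set G) ≤ H) :
    (P.subgroupOf (Subgroup.normalizer (P : Set G))).map (normEquiv P H hNH).symm.toMonoidHom =
      (P.subgroupOf H).subgroupOf (Subgroup.normalizer ((P.subgroupOf H : Subgroup H) : Set H)) := by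
  ext y
  rw [Subgroup.mem_map_equiv, Subgroup.mem_subgroupOf, Subgroup.mem_subgroupOf,
    Subgroup.mem_subgroupOf, MulEquiv.symm_symm, normEquiv_apply_coe]

end Norm

end Cfsg.Agent.Lib.Helper22
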