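import Mathlib
import Cfsg.Prelude.Def_BrauerPairs
import Cfsg.Agent.Lib.Helper22.BrCorrA
import Cfsg.Agent.Lib.Helper22.BrCorrB
import Cfsg.Agent.Lib.Helper79.Prin

/-!
# The Brauer correspondence over a subgroup containing `N_G(P)` (helper22)
-/

set_option autoImplicit false

namespace Cfsg.Agent.Lib.Helper22

open Cfsg Cfsg.Agent.Lib.Helper4 Cfsg.Agent.Lib.Helper21 Cfsg.Agent.Lib.Helper81
open scoped ComplexConjugate

variable {G : Type*} [Group G] {p : ℕ} {M : Ideal AlgInt}

/-- First Main Theorem, from `G` down to `N_G(D)`, with the congruence of idempotents. -/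
theorem fmt_down [Fintype G] [Fact p.Prime] (hM : IsPModular p M) (D : Subgroup G)
    (hD : IsPGroup p D) (B : Set (IrrCharacter G)) (hB : IsPBlock M B)
    (hDB : IsDefectGroup p M B D) :
    ∃ b : Set (IrrCharacter (Subgroup.normalizer (D : Set G))), IsPBlock M b ∧
      IsDefectGroup p M b (D.subgroupOf (Subgroup.normalizer (D : Set G))) ∧
      IsInducedBlock M (Subgroup.normalizer (D : Set G)) b B ∧
      ∀ k : Subgroup.normalizer (D : Set G), (k : G) ∈ Subgroup.centralizer (D : Set G) →
        MemLocalIdeal M (blockCoeff B (k : G) - blockCoeff b k) := by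
  classical
  letI : Fintype (Subgroup.normalizer (D : Set G)) := Fintype.ofFinite _
  obtain ⟨b, ⟨hb, hbD, hind⟩, -⟩ := (Cfsg.Agent.S0920.result p M hM D hD).2 B hB hDB
  exact ⟨b, hb, hbD, hind, fun k hk => fmt_blockCoeff_congr hM D hD B hDB b hind k hk⟩

/-- First Main Theorem, from `N_G(D)` up to `G`, with the congruence of idempotents. -/
theorem fmt_up [Fintype G] [Fact p.Prime] (hM : IsPModular p M) (D : Subgroup G)
    (hD : IsPGroup p D) (b : Set (IrrCharacter (Subgroup.normalizer (D : Set G))))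
    (hb : IsPBlock M b)
    (hbD : IsDefectGroup p M b (D.subgroupOf (Subgroup.normalizer (D : Set G)))) :
    ∃ B : Set (IrrCharacter G), IsPBlock M B ∧ IsDefectGroup p M B D ∧
      IsInducedBlock M (Subgroup.normalizer (D : Set G)) b B ∧
      ∀ k : Subgroup.normalizer (D : Set G), (k : G) ∈ Subgroup.centralizer (D : Set G) →
        MemLocalIdeal M (blockCoeff B (k : G) - blockCoeff b k) := by
  classical
  letI : Fintype (Subgroup.normalizer (D : Set G)) := Fintype.ofFinite _
  obtain ⟨B, hB, hBD, hind⟩ := (Cfsg.Agent.S0920.result p M hM D hD).1 b hb hbD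
  exact ⟨B, hB, hBD, hind, fun k hk => fmt_blockCoeff_congr hM D hD B hBD b hind k hk⟩

/-- Blocks of `N_G(D)` are determined by their idempotents modulo the local ideal on
`C_G(D)`. -/
theorem normalizer_block_eq_of_congr [Fintype G] [Fact p.Prime] (hM : IsPModular p M)
    (D : Subgroup G) (hD : IsPGroup p D)
    (b₁ b₂ : Set (IrrCharacter (Subgroup.normalizer (D : Set G)))) (h₁ : IsPBlock M b₁)
    (h₂ : IsPBlock M b₂)
    (h : ∀ k : Subgroup.normalizer (D : Set G), (k : G) ∈ Subgroup.centralizer (D : Set G) →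
      MemLocalIdeal M (blockCoeff b₁ k - blockCoeff b₂ k)) : b₁ = b₂ := by
  classical
  letI : Fintype (Subgroup.normalizer (D : Set G)) := Fintype.ofFinite _
  haveI : (D.subgroupOf (Subgroup.normalizer (D : Set G))).Normal :=
    Subgroup.normal_in_normalizer
  refine block_eq_of_blockCoeff_congr_on_centralizer hM
    (D.subgroupOf (Subgroup.normalizer (D : Set G))) hD.comap_subtype b₁ b₂ h₁ h₂ fun k hk => ?_
  exact h k ((mem_centralizer_subgroupOf_iff Subgroup.le_normalizer k).mp hk)

/-- **The Brauer correspondence over a subgroup `H ⊇ N_G(P)`.** -/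
theorem brauer_corr_over [Fintype G] [Fact p.Prime] (hM : IsPModular p M) (P H : Subgroup G)
    (hP : IsPGroup p P) (hH : Subgroup.normalizer (P : Set G) ≤ H) :
    (∀ B : Set (IrrCharacter G), IsPBlock M B → IsDefectGroup p M B P →
      ∃! c : Set (IrrCharacter H), IsPBlock M c ∧ IsDefectGroup p M c (P.subgroupOf H) ∧
        ∀ x : G, x ∈ Subgroup.centralizer (P : Set G) →
          MemLocalIdeal M (blockCoeff B x - subgroupBlockCoeff H c x)) ∧
    (∀ c : Set (IrrCharacter H), IsPBlock M c → IsDefectGroup p M c (P.subgroupOf H) →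
      ∃! B : Set (IrrCharacter G), IsPBlock M B ∧ IsDefectGroup p M B P ∧
        ∀ x : G, x ∈ Subgroup.centralizer (P : Set G) →
          MemLocalIdeal M (blockCoeff B x - subgroupBlockCoeff H c x)) := by
  classical
  letI : Fintype H := Fintype.ofFinite _
  have hPH : P ≤ H := Subgroup.le_normalizer.trans hH
  have hCN : Subgroup.centralizer (P : Set G) ≤ Subgroup.normalizer (P : Set G) :=
    Subgroup.centralizer_le_normalizer _
  have hPH' : IsPGroup p (P.subgroupOf H) := hP.comap_subtype
  -- the congruence on the `H` side, read in `G`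
  have hH1 : ∀ c : Set (IrrCharacter H), IsPBlock M c → IsDefectGroup p M c (P.subgroupOf H) →
      ∃ b' : Set (IrrCharacter (Subgroup.normalizer ((P.subgroupOf H : Subgroup H) : Set H))),
        IsPBlock M b' ∧
        IsDefectGroup p M b' ((P.subgroupOf H).subgroupOf
          (Subgroup.normalizer ((P.subgroupOf H : Subgroup H) : Set H))) ∧
        IsInducedBlock M (Subgroup.normalizer ((P.subgroupOf H : Subgroup H) : Set H)) b' c ∧
        ∀ y : Subgroup.normalizer (P : Set G), (y : G) ∈ Subgroup.centralizer (P : Set G) →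
          MemLocalIdeal M (subgroupBlockCoeff H c (y : G) -
            blockCoeff b' ((normEquiv P H hH).symm y)) := by
    intro c hc hcP
    obtain ⟨b', hb', hb'D, hind, hcong⟩ := fmt_down hM (P.subgroupOf H) hPH' c hc hcP
    refine ⟨b', hb', hb'D, hind, fun y hy => ?_⟩
    have h1 := hcong ((normEquiv P H hH).symm y) (by
      rw [mem_centralizer_subgroupOf_iff hPH, normEquiv_symm_coe]; exact hy)
    have h2 : subgroupBlockCoeff H c (y : G) =
        blockCoeff c (((normEquiv P H hH).symm y :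
          Subgroup.normalizer ((P.subgroupOf H : Subgroup H) : Set H)) : H) := by
      rw [subgroupBlockCoeff_mem H c (hH y.2)]
      congr 1
      exact Subtype.ext (normEquiv_symm_coe P H hH y).symm
    rw [h2]
    exact h1
  have hH2 : ∀ b' : Set (IrrCharacter (Subgroup.normalizer ((P.subgroupOf H : Subgroup H) : Set H))),
      IsPBlock M b' →
      IsDefectGroup p M b' ((P.subgroupOf H).subgroupOf
          (Subgroup.normalizer ((P.subgroupOf H : Subgroup H) : Set H))) →
      ∃ c : Set (IrrCharacter H), IsPBlock M c ∧ IsDefectGroup p M c (P.subgroupOf H) ∧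
        ∀ y : Subgroup.normalizer (P : Set G), (y : G) ∈ Subgroup.centralizer (P : Set G) →
          MemLocalIdeal M (subgroupBlockCoeff H c (y : G) -
            blockCoeff b' ((normEquiv P H hH).symm y)) := by
    intro b' hb' hb'D
    obtain ⟨c, hc, hcP, hind, hcong⟩ := fmt_up hM (P.subgroupOf H) hPH' b' hb' hb'D
    refine ⟨c, hc, hcP, fun y hy => ?_⟩
    have h1 := hcong ((normEquiv P H hH).symm y) (by
      rw [mem_centralizer_subgroupOf_iff hPH, normEquiv_symm_coe]; exact hy)
    have h2 : subgroupBlockCoeff H c (y : G) =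
        blockCoeff c (((normEquiv P H hH).symm y :
          Subgroup.normalizer ((P.subgroupOf H : Subgroup H) : Set H)) : H) := by
      rw [subgroupBlockCoeff_mem H c (hH y.2)]
      congr 1
      exact Subtype.ext (normEquiv_symm_coe P H hH y).symm
    rw [h2]
    exact h1
  -- a block of `H` satisfying the congruence with `B` is determined
  have hHuniq : ∀ (β : G → ℂ) (c₁ c₂ : Set (IrrCharacter H)), IsPBlock M c₁ →
      IsDefectGroup p M c₁ (P.subgroupOf H) → IsPBlock M c₂ →
      IsDefectGroup p M c₂ (P.subgroupOf H) →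
      (∀ x : G, x ∈ Subgroup.centralizer (P : Set G) →
          MemLocalIdeal M (β x - subgroupBlockCoeff H c₁ x)) →
      (∀ x : G, x ∈ Subgroup.centralizer (P : Set G) →
          MemLocalIdeal M (β x - subgroupBlockCoeff H c₂ x)) → c₁ = c₂ := by
    intro β c₁ c₂ hc₁ hc₁P hc₂ hc₂P hβ₁ hβ₂
    obtain ⟨b₁, hb₁, hb₁D, hind₁, hcong₁⟩ := hH1 c₁ hc₁ hc₁P
    obtain ⟨b₂, hb₂, hb₂D, hind₂, hcong₂⟩ := hH1 c₂ hc₂ hc₂P
    have hbb : b₁ = b₂ := by
      refine normalizer_block_eq_of_congr hM (P.subgroupOf H) hPH' b₁ b₂ hb₁ hb₂ fun k hk => ?_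
      have hkG : (((k : H) : G)) ∈ Subgroup.centralizer (P : Set G) :=
        (mem_centralizer_subgroupOf_iff hPH (k : H)).mp hk
      have e1 := hcong₁ (normEquiv P H hH k) (by rw [normEquiv_apply_coe]; exact hkG)
      have e2 := hcong₂ (normEquiv P H hH k) (by rw [normEquiv_apply_coe]; exact hkG)
      rw [MulEquiv.symm_apply_apply, normEquiv_apply_coe] at e1 e2
      have e3 := hβ₁ _ hkG
      have e4 := hβ₂ _ hkG
      have e5 := locIdeal_add hM (locIdeal_sub hM (locIdeal_sub hM e4 e3) e1) e2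
      have e6 : β ((k : H) : G) - subgroupBlockCoeff H c₂ ((k : H) : G) -
          (β ((k : H) : G) - subgroupBlockCoeff H c₁ ((k : H) : G)) -
          (subgroupBlockCoeff H c₁ ((k : H) : G) - blockCoeff b₁ k) +
          (subgroupBlockCoeff H c₂ ((k : H) : G) - blockCoeff b₂ k) =
          blockCoeff b₁ k - blockCoeff b₂ k := by ring
      rwa [e6] at e5
    rw [hbb] at hind₁
    exact Cfsg.Agent.Lib.Helper79.inducedBlock_unique hM hind₁ hind₂
  -- a block of `G` satisfying the congruence is determined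
  have hGuniq : ∀ (β : G → ℂ) (B₁ B₂ : Set (IrrCharacter G)), IsPBlock M B₁ →
      IsDefectGroup p M B₁ P → IsPBlock M B₂ → IsDefectGroup p M B₂ P →
      (∀ x : G, x ∈ Subgroup.centralizer (P : Set G) →
          MemLocalIdeal M (blockCoeff B₁ x - β x)) →
      (∀ x : G, x ∈ Subgroup.centralizer (P : Set G) →
          MemLocalIdeal M (blockCoeff B₂ x - β x)) → B₁ = B₂ := by
    intro β B₁ B₂ hB₁ hB₁P hB₂ hB₂P hβ₁ hβ₂
    obtain ⟨b₁, hb₁, hb₁D, hind₁, hcong₁⟩ := fmt_down hM P hP B₁ hB₁ hB₁P
    obtain ⟨b₂, hb₂, hb₂D, hind₂, hcong₂⟩ := fmt_down hM P hP B₂ hB₂ hB₂P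
    have hbb : b₁ = b₂ := by
      refine normalizer_block_eq_of_congr hM P hP b₁ b₂ hb₁ hb₂ fun k hk => ?_
      have e1 := hcong₁ k hk
      have e2 := hcong₂ k hk
      have e3 := hβ₁ _ hk
      have e4 := hβ₂ _ hk
      have e5 := locIdeal_add hM (locIdeal_sub hM (locIdeal_sub hM e3 e4) e1) e2
      have e6 : blockCoeff B₁ (k : G) - β (k : G) - (blockCoeff B₂ (k : G) - β (k : G)) -
          (blockCoeff B₁ (k : G) - blockCoeff b₁ k) + (blockCoeff B₂ (k : G) - blockCoeff b₂ k) =
          blockCoeff b₁ k - blockCoeff b₂ k := by ring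
      rwa [e6] at e5
    rw [hbb] at hind₁
    exact Cfsg.Agent.Lib.Helper79.inducedBlock_unique hM hind₁ hind₂
  refine ⟨fun B hB hBP => ?_, fun c hc hcP => ?_⟩
  · obtain ⟨b, hb, hbD, hind, hcong⟩ := fmt_down hM P hP B hB hBP
    have hb' : IsPBlock M (irrMap (normEquiv P H hH).symm '' b) := isPBlock_image_irrMap _ hb
    have hb'D : IsDefectGroup p M (irrMap (normEquiv P H hH).symm '' b)
        ((P.subgroupOf H).subgroupOf
          (Subgroup.normalizer ((P.subgroupOf H : Subgroup H) : Set H))) := by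
      have h1 := isDefectGroup_image_irrMap (normEquiv P H hH).symm b _ hbD
      rwa [map_normEquiv_symm] at h1
    obtain ⟨c, hc, hcP, hcong'⟩ := hH2 _ hb' hb'D
    have hprop : ∀ x : G, x ∈ Subgroup.centralizer (P : Set G) →
        MemLocalIdeal M (blockCoeff B x - subgroupBlockCoeff H c x) := by
      intro x hx
      have e1 := hcong ⟨x, hCN hx⟩ hx
      have e2 := hcong' ⟨x, hCN hx⟩ hx
      rw [blockCoeff_image_irrMap, MulEquiv.symm_symm, MulEquiv.apply_symm_apply] at e2
      have e3 := locIdeal_sub hM e1 e2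
      have e4 : blockCoeff B x - blockCoeff b ⟨x, hCN hx⟩ -
          (subgroupBlockCoeff H c x - blockCoeff b ⟨x, hCN hx⟩) =
          blockCoeff B x - subgroupBlockCoeff H c x := by ring
      rwa [e4] at e3
    refine ⟨c, ⟨hc, hcP, hprop⟩, ?_⟩
    rintro c₂ ⟨hc₂, hc₂P, hprop₂⟩
    exact hHuniq (blockCoeff B) c₂ c hc₂ hc₂P hc hcP hprop₂ hprop
  · obtain ⟨b', hb', hb'D, -, hcong'⟩ := hH1 c hc hcP
    have hb : IsPBlock M (irrMap (normEquiv P H hH) '' b') := isPBlock_image_irrMap _ hb'
    have hbD : IsDefectGroup p M (irrMap (normEquiv P H hH) '' b')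
        (P.subgroupOf (Subgroup.normalizer (P : Set G))) := by
      have h1 := isDefectGroup_image_irrMap (normEquiv P H hH) b' _ hb'D
      rwa [map_normEquiv] at h1
    obtain ⟨B, hB, hBP, -, hcong⟩ := fmt_up hM P hP _ hb hbD
    have hprop : ∀ x : G, x ∈ Subgroup.centralizer (P : Set G) →
        MemLocalIdeal M (blockCoeff B x - subgroupBlockCoeff H c x) := by
      intro x hx
      have e1 := hcong ⟨x, hCN hx⟩ hx
      have e2 := hcong' ⟨x, hCN hx⟩ hx
      rw [blockCoeff_image_irrMap] at e1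
      have e3 := locIdeal_sub hM e1 e2
      have e4 : blockCoeff B x - blockCoeff b' ((normEquiv P H hH).symm ⟨x, hCN hx⟩) -
          (subgroupBlockCoeff H c x - blockCoeff b' ((normEquiv P H hH).symm ⟨x, hCN hx⟩)) =
          blockCoeff B x - subgroupBlockCoeff H c x := by ring
      rwa [e4] at e3
    refine ⟨B, ⟨hB, hBP, hprop⟩, ?_⟩
    rintro B₂ ⟨hB₂, hB₂P, hprop₂⟩
    exact hGuniq (subgroupBlockCoeff H c) B₂ B hB₂ hB₂P hB hBP hprop₂ hprop

end Cfsg.Agent.Lib.Helper22
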