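import Mathlib
import Cfsg.Agent.S4551
import Cfsg.Agent.Lib.Helper82.ResMult
import Cfsg.Agent.Lib.Helper82.Principal
import Cfsg.Agent.Lib.Helper20.Canon

/-!
# Alperin–Dade for intermediate subgroups (helper22)

`N` normal in `G`, `Q` a Sylow `p`-subgroup of `N`, `J` an intermediate subgroup with `[J : N]`
prime to `p` and `J ≤ N C_G(Q)`.  Restriction is a bijection from the principal block of `J` to
the principal block of `N` (`adj`, from `S4551`), compatible with restriction to smaller `J`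
(`adj_restrict`) and with conjugation (`adj_conj_inv`).

Also: `mem_of_pow_mem_coprime`, `le_of_index_pow`, `normal_sup_centralizer` (Frattini),
`exists_normal_pcompl_of_elementary`.
-/

set_option autoImplicit false
set_option linter.style.haveILetI false

namespace Cfsg.Agent.Lib.Helper22.PRat

open Cfsg
open Cfsg.Agent.Lib
open scoped ComplexConjugate

universe u

theorem mem_of_pow_mem_coprime {G : Type*} [Group G] (T : Subgroup G) (j : G) (r s : ℕ)
    (h : Nat.Coprime r s) (hr : j ^ r ∈ T) (hs : j ^ s ∈ T) : j ∈ T := by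
  have hgcd : Nat.gcd r s = 1 := h
  have h1 : (r : ℤ) * Nat.gcdA r s + s * Nat.gcdB r s = 1 := by
    have h0 := Nat.gcd_eq_gcd_ab r s
    rw [hgcd] at h0
    rw [← h0]
    norm_num
  have h2 : j = (j ^ r) ^ (Nat.gcdA r s) * (j ^ s) ^ (Nat.gcdB r s) := by
    rw [← zpow_natCast, ← zpow_natCast, ← zpow_mul, ← zpow_mul, ← zpow_add, h1, zpow_one]
  rw [h2]
  exact T.mul_mem (T.zpow_mem hr _) (T.zpow_mem hs _)

section ADJ

variable {G : Type u} [Group G] [Finite G] {p : ℕ} [hp : Fact p.Prime] {M : Ideal AlgInt}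

theorem le_of_index_pow (N T J : Subgroup G) [N.Normal] [T.Normal] (hNT : N ≤ T) (a : ℕ)
    (hT : T.index = p ^ a) (hNJ : N ≤ J) (hidx : ¬ p ∣ N.relIndex J) : J ≤ T := by
  intro j hj
  have hN' : (N.subgroupOf J).Normal := Subgroup.normal_subgroupOf
  have h1 : j ^ (N.relIndex J) ∈ T := by
    have h0 := Subgroup.pow_index_mem (N.subgroupOf J) (⟨j, hj⟩ : J)
    exact hNT (Subgroup.mem_subgroupOf.mp h0)
  have h2 : j ^ (p ^ a) ∈ T := by
    rw [← hT]
    exact Subgroup.pow_index_mem T j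
  have hcop : Nat.Coprime (N.relIndex J) (p ^ a) :=
    (Nat.Coprime.pow_left a ((Nat.Prime.coprime_iff_not_dvd hp.out).mpr hidx)).symm
  exact mem_of_pow_mem_coprime T j _ _ hcop h1 h2

/-- Frattini: `N C_G(Q)` is normal in `G` for a Sylow subgroup `Q` of the normal subgroup `N` -/
theorem normal_sup_centralizer (N : Subgroup G) [hN : N.Normal] (Q : Sylow p N) :
    (N ⊔ Subgroup.centralizer
      (((Q : Subgroup N).map N.subtype : Subgroup G) : Set G)).Normal := by
  obtain ⟨Qt, hQt⟩ : ∃ Qt : Subgroup G, Qt = (Q : Subgroup N).map N.subtype := ⟨_, rfl⟩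
  rw [← hQt]
  have hfr : Subgroup.normalizer (Qt : Set G) ⊔ N = ⊤ := by
    rw [hQt]
    exact Sylow.normalizer_sup_eq_top Q
  have key : ∀ h ∈ Subgroup.normalizer (Qt : Set G), ∀ t ∈ N ⊔ Subgroup.centralizer (Qt : Set G),
      h * t * h⁻¹ ∈ N ⊔ Subgroup.centralizer (Qt : Set G) := by
    intro h hh t ht
    have h1 : t ∈ ((N ⊔ Subgroup.centralizer (Qt : Set G) : Subgroup G) : Set G) := ht
    rw [Subgroup.normal_mul] at h1
    obtain ⟨n, hn, c, hc, hnc⟩ := Set.mem_mul.mp h1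
    have h2 : h * t * h⁻¹ = (h * n * h⁻¹) * (h * c * h⁻¹) := by rw [← hnc]; group
    rw [h2]
    apply Subgroup.mul_mem_sup (hN.conj_mem n hn h)
    rw [Subgroup.mem_centralizer_iff]
    intro y hy
    have h3 : h⁻¹ * y * h ∈ Qt := (Subgroup.mem_normalizer_iff''.mp hh y).mp hy
    have h4 := Subgroup.mem_centralizer_iff.mp hc _ h3
    calc y * (h * c * h⁻¹) = h * (h⁻¹ * y * h * c) * h⁻¹ := by group
      _ = h * (c * (h⁻¹ * y * h)) * h⁻¹ := by rw [h4]
      _ = h * c * h⁻¹ * y := by group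
  refine ⟨fun t ht g => ?_⟩
  have hg : g ∈ ((Subgroup.normalizer (Qt : Set G) ⊔ N : Subgroup G) : Set G) := by
    rw [hfr]; trivial
  rw [Subgroup.mul_normal] at hg
  obtain ⟨h, hh, n, hn, hhn⟩ := Set.mem_mul.mp hg
  have h5 : g * t * g⁻¹ = h * (n * t * n⁻¹) * h⁻¹ := by rw [← hhn]; group
  rw [h5]
  apply key h hh
  have hnT : n ∈ N ⊔ Subgroup.centralizer (Qt : Set G) := Subgroup.mem_sup_left hn
  exact Subgroup.mul_mem _ (Subgroup.mul_mem _ hnT ht) (Subgroup.inv_mem _ hnT)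

/-- the image of a Sylow subgroup of `N` in an overgroup `J` of index prime to `p` is a Sylow
subgroup -/
theorem exists_sylow_over (N : Subgroup G) (Q : Sylow p N) (J : Subgroup G) (hNJ : N ≤ J)
    (hidx : ¬ p ∣ N.relIndex J) :
    ∃ P : Sylow p J, (P : Subgroup J) = (Q : Subgroup N).map (Subgroup.inclusion hNJ) := by
  have hcard : Nat.card ((Q : Subgroup N).map (Subgroup.inclusion hNJ)) =
      p ^ (Nat.card J).factorization p := by
    rw [Subgroup.card_map_of_injective (Subgroup.inclusion_injective hNJ),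
      Sylow.card_eq_multiplicity]
    congr 1
    have h1 : Nat.card J = Nat.card N * N.relIndex J := by
      rw [← Subgroup.card_mul_index (N.subgroupOf J)]
      congr 1
      exact Nat.card_congr (Subgroup.subgroupOfEquivOfLe hNJ).toEquiv
    have h0 : N.relIndex J ≠ 0 := by
      intro h0
      rw [h0] at hidx
      exact hidx (dvd_zero p)
    rw [h1, Nat.factorization_mul Nat.card_pos.ne' h0, Finsupp.add_apply,
      Nat.factorization_eq_zero_of_not_dvd hidx, add_zero]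
  exact ⟨Sylow.ofCard _ hcard, Sylow.coe_ofCard _ hcard⟩

/-- Alperin–Dade for the pair `(J, N)` -/
theorem adj (hM : IsPModular p M) (N : Subgroup G) [hN : N.Normal] (Q : Sylow p N)
    (J : Subgroup G) (hNJ : N ≤ J) (hidx : ¬ p ∣ N.relIndex J)
    (hJT : J ≤ N ⊔ Subgroup.centralizer
      (((Q : Subgroup N).map N.subtype : Subgroup G) : Set G)) :
    (∀ χ ∈ principalBlock M J, ∃ θ ∈ principalBlock M (N.subgroupOf J),
        ∀ n : N.subgroupOf J, (χ : J → ℂ) n = (θ : N.subgroupOf J → ℂ) n) ∧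
      ∀ θ ∈ principalBlock M (N.subgroupOf J), ∃! χ : IrrCharacter J,
        χ ∈ principalBlock M J ∧
          ∀ n : N.subgroupOf J, (χ : J → ℂ) n = (θ : N.subgroupOf J → ℂ) n := by
  obtain ⟨P, hP⟩ := exists_sylow_over N Q J hNJ hidx
  have hN' : (N.subgroupOf J).Normal := Subgroup.normal_subgroupOf
  refine Cfsg.Agent.S4551.result p M hM (N.subgroupOf J) hidx P ?_
  rw [eq_top_iff]
  intro j _
  have h1 : (j : G) ∈ ((N ⊔ Subgroup.centralizer
      (((Q : Subgroup N).map N.subtype : Subgroup G) : Set G) : Subgroup G) : Set G) := hJT j.2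
  rw [Subgroup.normal_mul] at h1
  obtain ⟨n, hn, c, hc, hnc⟩ := Set.mem_mul.mp h1
  have hcJ : c ∈ J := by
    have h0 : c = n⁻¹ * (j : G) := by rw [← hnc]; group
    rw [h0]; exact J.mul_mem (J.inv_mem (hNJ hn)) j.2
  have hj : j = (⟨n, hNJ hn⟩ : J) * ⟨c, hcJ⟩ := Subtype.ext hnc.symm
  rw [hj]
  apply Subgroup.mul_mem_sup
  · exact Subgroup.mem_subgroupOf.mpr hn
  · rw [Subgroup.mem_centralizer_iff]
    intro y hy
    rw [SetLike.mem_coe, hP] at hy
    obtain ⟨q, hq, rfl⟩ := Subgroup.mem_map.mp hy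
    apply Subtype.ext
    exact Subgroup.mem_centralizer_iff.mp hc (q : G) ⟨q, hq, rfl⟩

theorem adj_exists (hM : IsPModular p M) (N : Subgroup G) [hN : N.Normal] (Q : Sylow p N)
    (J : Subgroup G) (hNJ : N ≤ J) (hidx : ¬ p ∣ N.relIndex J)
    (hJT : J ≤ N ⊔ Subgroup.centralizer
      (((Q : Subgroup N).map N.subtype : Subgroup G) : Set G))
    (θ : IrrCharacter N) (hθ : θ ∈ principalBlock M N) :
    ∃ χ : IrrCharacter J, χ ∈ principalBlock M J ∧
      ∀ (x : J) (hx : (x : G) ∈ N), (χ : J → ℂ) x = (θ : N → ℂ) ⟨x, hx⟩ := by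
  obtain ⟨χ, ⟨hχ, hχN⟩, -⟩ := (adj hM N Q J hNJ hidx hJT).2
    (Helper82.irrComp (Subgroup.subgroupOfEquivOfLe hNJ) θ)
    (Helper82.irrComp_mem_principal M _ θ hθ)
  refine ⟨χ, hχ, fun x hx => ?_⟩
  have h1 := hχN ⟨x, Subgroup.mem_subgroupOf.mpr hx⟩
  rw [show (χ : J → ℂ) x = _ from h1]
  rfl

theorem adj_unique (hM : IsPModular p M) (N : Subgroup G) [hN : N.Normal] (Q : Sylow p N)
    (J : Subgroup G) (hNJ : N ≤ J) (hidx : ¬ p ∣ N.relIndex J)
    (hJT : J ≤ N ⊔ Subgroup.centralizer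
      (((Q : Subgroup N).map N.subtype : Subgroup G) : Set G))
    (θ : IrrCharacter N) (hθ : θ ∈ principalBlock M N) (χ₁ χ₂ : IrrCharacter J)
    (h₁ : χ₁ ∈ principalBlock M J) (h₂ : χ₂ ∈ principalBlock M J)
    (e₁ : ∀ (x : J) (hx : (x : G) ∈ N), (χ₁ : J → ℂ) x = (θ : N → ℂ) ⟨x, hx⟩)
    (e₂ : ∀ (x : J) (hx : (x : G) ∈ N), (χ₂ : J → ℂ) x = (θ : N → ℂ) ⟨x, hx⟩) : χ₁ = χ₂ := by
  obtain ⟨χ, -, huniq⟩ := (adj hM N Q J hNJ hidx hJT).2
    (Helper82.irrComp (Subgroup.subgroupOfEquivOfLe hNJ) θ)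
    (Helper82.irrComp_mem_principal M _ θ hθ)
  have key : ∀ χ' : IrrCharacter J, χ' ∈ principalBlock M J →
      (∀ (x : J) (hx : (x : G) ∈ N), (χ' : J → ℂ) x = (θ : N → ℂ) ⟨x, hx⟩) → χ' = χ := by
    intro χ' h' e'
    apply huniq
    refine ⟨h', fun n => ?_⟩
    rw [e' (n : J) (Subgroup.mem_subgroupOf.mp n.2)]
    rfl
  rw [key χ₁ h₁ e₁, key χ₂ h₂ e₂]

theorem adj_res_irr (hM : IsPModular p M) (N : Subgroup G) [hN : N.Normal] (Q : Sylow p N)
    (J : Subgroup G) (hNJ : N ≤ J) (hidx : ¬ p ∣ N.relIndex J)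
    (hJT : J ≤ N ⊔ Subgroup.centralizer
      (((Q : Subgroup N).map N.subtype : Subgroup G) : Set G))
    (χ : IrrCharacter J) (hχ : χ ∈ principalBlock M J) :
    IsIrrCharacter (N.subgroupOf J) (fun n : N.subgroupOf J => (χ : J → ℂ) n) := by
  obtain ⟨θ, -, hθ⟩ := (adj hM N Q J hNJ hidx hJT).1 χ hχ
  have h1 : (fun n : N.subgroupOf J => (χ : J → ℂ) n) = (θ : N.subgroupOf J → ℂ) := funext hθ
  rw [h1]
  exact θ.2

/-- the extension in the principal block of `K` restricts to the extension in the principal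
block of `J` -/
theorem adj_restrict (hM : IsPModular p M) (N : Subgroup G) [hN : N.Normal] (Q : Sylow p N)
    (J K : Subgroup G) (hNJ : N ≤ J) (hJK : J ≤ K) (hidxK : ¬ p ∣ N.relIndex K)
    (hKT : K ≤ N ⊔ Subgroup.centralizer
      (((Q : Subgroup N).map N.subtype : Subgroup G) : Set G))
    (θ : IrrCharacter N) (hθ : θ ∈ principalBlock M N) (χ : IrrCharacter K)
    (hχ : χ ∈ principalBlock M K)
    (hχN : ∀ (x : K) (hx : (x : G) ∈ N), (χ : K → ℂ) x = (θ : N → ℂ) ⟨x, hx⟩) :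
    ∃ ψ : IrrCharacter J, ψ ∈ principalBlock M J ∧
      ∀ x : J, (ψ : J → ℂ) x = (χ : K → ℂ) (Subgroup.inclusion hJK x) := by
  classical
  have hidxJ : ¬ p ∣ N.relIndex J := fun h =>
    hidxK (dvd_trans h (Dvd.intro _ (Subgroup.relIndex_mul_relIndex N J K hNJ hJK)))
  have hJT := hJK.trans hKT
  have hNK := hNJ.trans hJK
  obtain ⟨χJ, hχJ, hχJN⟩ := adj_exists hM N Q J hNJ hidxJ hJT θ hθ
  letI : Fintype K := Fintype.ofFinite K
  letI : Fintype J := Fintype.ofFinite J
  letI : Fintype (J.subgroupOf K) := Fintype.ofFinite _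
  obtain ⟨e, he⟩ : ∃ e : J.subgroupOf K ≃* J, e = Subgroup.subgroupOfEquivOfLe hJK := ⟨_, rfl⟩
  obtain ⟨ψ, hψ, hres⟩ := Helper82.exists_over_principal (J.subgroupOf K) hM
    (Helper82.irrComp e χJ) (Helper82.irrComp_mem_principal M e χJ hχJ)
  have hφchar : IsCharacter J (fun x : J => (ψ : K → ℂ) (Subgroup.inclusion hJK x)) :=
    Helper20.isCharacter_comp (Subgroup.inclusion hJK) (Helper35.isChar_of_irr ψ.2)
  have hψN := adj_res_irr hM N Q K hNK hidxK hKT ψ hψ
  have hφirr : IsIrrCharacter J (fun x : J => (ψ : K → ℂ) (Subgroup.inclusion hJK x)) := by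
    apply Helper20.irr_of_res_irr (N.subgroupOf J) hφchar
    obtain ⟨e', he'⟩ : ∃ e' : N.subgroupOf J ≃* N.subgroupOf K,
        e' = (Subgroup.subgroupOfEquivOfLe hNJ).trans (Subgroup.subgroupOfEquivOfLe hNK).symm :=
      ⟨_, rfl⟩
    have h1 : (fun l : N.subgroupOf J => (ψ : K → ℂ) (Subgroup.inclusion hJK (l : J))) =
        fun l => (fun n : N.subgroupOf K => (ψ : K → ℂ) n) (e' l) := by
      funext l
      show _ = (ψ : K → ℂ) ((e' l : N.subgroupOf K) : K)
      refine congrArg (ψ : K → ℂ) (Subtype.ext ?_)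
      rw [he']
      rfl
    rw [h1]
    exact Helper20.irr_comp_surjective e'.toMonoidHom e'.surjective hψN
  have hinner : classInner (fun x : J => (ψ : K → ℂ) (Subgroup.inclusion hJK x))
      (χJ : J → ℂ) ≠ 0 := by
    have h2 := Helper82.resMult_spec (J.subgroupOf K) ψ (Helper82.irrComp e χJ)
    have h3 : (fun h : J.subgroupOf K => (ψ : K → ℂ) h) =
        fun h => (fun x : J => (ψ : K → ℂ) (Subgroup.inclusion hJK x)) (e h) := by
      funext h
      show (ψ : K → ℂ) h = (ψ : K → ℂ) (Subgroup.inclusion hJK (e h))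
      refine congrArg (ψ : K → ℂ) (Subtype.ext ?_)
      rw [he]
      rfl
    have h4 : ((Helper82.irrComp e χJ : IrrCharacter (J.subgroupOf K)) : J.subgroupOf K → ℂ) =
        fun h => (χJ : J → ℂ) (e h) := rfl
    rw [h3, h4, Helper20.classInner_comp_equiv e (fun x : J => (ψ : K → ℂ) (Subgroup.inclusion hJK x)) (χJ : J → ℂ)] at h2
    rw [h2]
    exact_mod_cast hres
  have heq : (fun x : J => (ψ : K → ℂ) (Subgroup.inclusion hJK x)) = (χJ : J → ℂ) := by
    have h5 := Helper35.classInner_irr' hφirr χJ.2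
    by_contra hne
    rw [if_neg hne] at h5
    exact hinner h5
  have hψθ : ∀ (x : K) (hx : (x : G) ∈ N), (ψ : K → ℂ) x = (θ : N → ℂ) ⟨x, hx⟩ := by
    intro x hx
    have h6 := congrFun heq ⟨(x : G), hNJ hx⟩
    have h7 : Subgroup.inclusion hJK ⟨(x : G), hNJ hx⟩ = x := Subtype.ext rfl
    simp only [h7] at h6
    rw [h6]
    exact hχJN ⟨(x : G), hNJ hx⟩ hx
  have hψχ : ψ = χ := adj_unique hM N Q K hNK hidxK hKT θ hθ ψ χ hψ hχ hψθ hχN
  refine ⟨χJ, hχJ, fun x => ?_⟩
  rw [← hψχ]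
  exact (congrFun heq x).symm

/-- the extension in the principal block of `J` is invariant under the elements normalizing
`J`, when `θ` is `G`-invariant -/
theorem adj_conj_inv (hM : IsPModular p M) (N : Subgroup G) [hN : N.Normal] (Q : Sylow p N)
    (J : Subgroup G) (hNJ : N ≤ J) (hidx : ¬ p ∣ N.relIndex J)
    (hJT : J ≤ N ⊔ Subgroup.centralizer
      (((Q : Subgroup N).map N.subtype : Subgroup G) : Set G))
    (θ : IrrCharacter N) (hθ : θ ∈ principalBlock M N)
    (hinv : ∀ (g : G) (n n' : N), (n' : G) = g * (n : G) * g⁻¹ →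
      (θ : N → ℂ) n' = (θ : N → ℂ) n)
    (χ : IrrCharacter J) (hχ : χ ∈ principalBlock M J)
    (hχN : ∀ (x : J) (hx : (x : G) ∈ N), (χ : J → ℂ) x = (θ : N → ℂ) ⟨x, hx⟩)
    (g : G) (hg : ∀ x, x ∈ J ↔ g * x * g⁻¹ ∈ J) (x : J) :
    (χ : J → ℂ) ⟨g * x * g⁻¹, (hg x).mp x.2⟩ = (χ : J → ℂ) x := by
  let e : J ≃* J :=
    { toFun := fun y => ⟨g * y * g⁻¹, (hg y).mp y.2⟩
      invFun := fun y => ⟨g⁻¹ * y * g, (hg _).mpr (by
        have h0 : g * (g⁻¹ * (y : G) * g) * g⁻¹ = y := by group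
        rw [h0]; exact y.2)⟩
      left_inv := fun y => Subtype.ext (by
        show g⁻¹ * (g * (y : G) * g⁻¹) * g = y
        group)
      right_inv := fun y => Subtype.ext (by
        show g * (g⁻¹ * (y : G) * g) * g⁻¹ = y
        group)
      map_mul' := fun y z => Subtype.ext (by
        show g * ((y : G) * z) * g⁻¹ = (g * y * g⁻¹) * (g * z * g⁻¹)
        group) }
  have h1 : Helper82.irrComp e χ = χ := by
    refine adj_unique hM N Q J hNJ hidx hJT θ hθ _ _
      (Helper82.irrComp_mem_principal M e χ hχ) hχ ?_ hχN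
    intro y hy
    show (χ : J → ℂ) (e y) = _
    have hmem : ((e y : J) : G) ∈ N := hN.conj_mem _ hy g
    rw [hχN (e y) hmem]
    exact hinv g ⟨y, hy⟩ ⟨_, hmem⟩ rfl
  exact congrFun (congrArg Subtype.val h1) x

end ADJ

/-- an elementary group has a normal `p`-complement, for every prime `p` -/
theorem exists_normal_pcompl_of_elementary {E : Type*} [Group E] [Finite E] (q : ℕ)
    (hE : IsElementary q E) (p : ℕ) [hp : Fact p.Prime] (hq : q.Prime) :
    ∃ D : Subgroup E, D.Normal ∧ ¬ p ∣ Nat.card D ∧ ∃ i : ℕ, D.index = p ^ i := by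
  obtain ⟨x, hx, hxq, k, hk⟩ := hE
  by_cases hqp : q = p
  · subst hqp
    refine ⟨Subgroup.zpowers x, ?_, ?_, k, hk⟩
    · refine ⟨fun n hn g => ?_⟩
      obtain ⟨i, rfl⟩ := Subgroup.mem_zpowers_iff.mp hn
      have h1 : g * x ^ i * g⁻¹ = x ^ i := by
        have h2 : x ^ i ∈ Subgroup.center E := Subgroup.zpow_mem _ hx i
        rw [Subgroup.mem_center_iff] at h2
        rw [h2 g, mul_inv_cancel_right]
      rw [h1]
      exact hn
    · rw [Nat.card_zpowers]
      exact (Nat.Prime.coprime_iff_not_dvd hp.out).mp hxq.symm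
  · have hcdvd : (Subgroup.center E).index ∣ q ^ k := by
      rw [← hk]
      apply Subgroup.index_dvd_of_le
      rw [Subgroup.zpowers_le]
      exact hx
    have hcp : ¬ p ∣ (Subgroup.center E).index := by
      intro h
      have h1 : p ∣ q := hp.out.dvd_of_dvd_pow (dvd_trans h hcdvd)
      exact hqp ((Nat.prime_dvd_prime_iff_eq hp.out hq).mp h1).symm
    obtain ⟨c, hcdef⟩ : ∃ c, c = (Subgroup.center E).index := ⟨_, rfl⟩
    obtain ⟨a, hadef⟩ : ∃ a, a = (Nat.card E).factorization p := ⟨_, rfl⟩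
    obtain ⟨m, hmdef⟩ : ∃ m, m = Nat.card E / p ^ (Nat.card E).factorization p := ⟨_, rfl⟩
    have hcard : p ^ a * m = Nat.card E := by
      rw [hadef, hmdef]
      exact Nat.ordProj_mul_ordCompl_eq_self (Nat.card E) p
    have hpm : ¬ p ∣ m := by
      rw [hmdef]
      exact Nat.not_dvd_ordCompl hp.out Nat.card_pos.ne'
    let ψ : E →* Subgroup.center E :=
      { toFun := fun e => (MonoidHom.transferCenterPow E e) ^ m
        map_one' := by rw [map_one, one_pow]
        map_mul' := fun e₁ e₂ => by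
          rw [map_mul]
          have hcomm : Commute (MonoidHom.transferCenterPow E e₁)
              (MonoidHom.transferCenterPow E e₂) :=
            Subtype.ext (Subgroup.mem_center_iff.mp (MonoidHom.transferCenterPow E e₂).2 _)
          exact hcomm.mul_pow m }
    have hψ : ∀ e : E, ((ψ e : Subgroup.center E) : E) = (e ^ c) ^ m := by
      intro e
      show (((MonoidHom.transferCenterPow E e) ^ m : Subgroup.center E) : E) = _
      rw [Subgroup.coe_pow, MonoidHom.transferCenterPow_apply, hcdef]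
    refine ⟨ψ.ker, MonoidHom.normal_ker ψ, ?_, ?_⟩
    · intro hdvd
      obtain ⟨d, hd⟩ := exists_prime_orderOf_dvd_card' (G := ψ.ker) p hdvd
      have h1 : ((ψ (d : E) : Subgroup.center E) : E) = 1 := by
        have h0 : ψ (d : E) = 1 := d.2
        rw [h0]; rfl
      rw [hψ, ← pow_mul] at h1
      have h2 : orderOf (d : E) ∣ c * m := orderOf_dvd_of_pow_eq_one h1
      rw [Subgroup.orderOf_coe, hd] at h2
      rcases (Nat.Prime.dvd_mul hp.out).mp h2 with h3 | h3
      · exact hcp (hcdef ▸ h3)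
      · exact hpm h3
    · rw [Subgroup.index_ker]
      have hpg : IsPGroup p ψ.range := by
        rintro ⟨z, e, rfl⟩
        refine ⟨a, ?_⟩
        apply Subtype.ext
        apply Subtype.ext
        show ((ψ e : Subgroup.center E) : E) ^ p ^ a = 1
        rw [hψ, ← pow_mul, ← pow_mul]
        have h1 : c * (m * p ^ a) = Nat.card E * c := by rw [← hcard]; ring
        rw [h1, pow_mul, pow_card_eq_one', one_pow]
      exact IsPGroup.exists_card_eq hpg

end Cfsg.Agent.Lib.Helper22.PRat
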