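import Mathlib
import Cfsg.Agent.Lib.Helper22.PRatA
import Cfsg.Agent.Lib.Helper22.PRatB
import Cfsg.Agent.Lib.Helper20.Gallagher
import Cfsg.Agent.Lib.Helper80.Twist
import Cfsg.Agent.Lib.Helper84.AD5
import Cfsg.Agent.S0868

/-!
# Canonical extensions with determinant of order prime to `p` (helper22)

`N` normal in `G`, `θ` an invariant member of the principal block of `N` of degree prime to `p`.
`IsCanR p M N θ H χ`: `χ` is an irreducible extension of `θ` to the intermediate subgroup `H`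
whose determinantal order is prime to `p` and whose restriction to every intermediate subgroup
`J ≤ H` with `[J : N]` prime to `p` lies in the principal block of `J`.

Uniqueness, compatibility with restriction, conjugation and Galois twists.
-/

set_option autoImplicit false
set_option linter.style.haveILetI false

namespace Cfsg.Agent.Lib.Helper22.PRat

open Cfsg
open Cfsg.Agent.Lib
open scoped ComplexConjugate

universe u

section Can

variable {G : Type u} [Group G]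

/-- the canonical extension to an intermediate subgroup -/
def IsCanR (p : ℕ) (M : Ideal AlgInt) (N : Subgroup G) (ϑ : N → ℂ) (H : Subgroup G)
    (χ : H → ℂ) : Prop :=
  IsIrrCharacter H χ ∧ (∀ (x : H) (hx : (x : G) ∈ N), χ x = ϑ ⟨x, hx⟩) ∧ ¬ p ∣ detOrder χ ∧
    ∀ (J : Subgroup G) (hJH : J ≤ H), N ≤ J → ¬ p ∣ N.relIndex J →
      ∃ ψ : IrrCharacter J, ψ ∈ principalBlock M J ∧
        ∀ x : J, (ψ : J → ℂ) x = χ (Subgroup.inclusion hJH x)

/-- the standing hypotheses -/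
structure RSetup (p : ℕ) (M : Ideal AlgInt) (N : Subgroup G) (θ : IrrCharacter N)
    (Q : Sylow p N) (m : ℕ) : Prop where
  hM : IsPModular p M
  inv : ∀ (g : G) (n n' : N), (n' : G) = g * (n : G) * g⁻¹ → (θ : N → ℂ) n' = (θ : N → ℂ) n
  deg : ¬ p ∣ charDegree (θ : N → ℂ)
  mem : θ ∈ principalBlock M N
  le : ∀ J : Subgroup G, N ≤ J → ¬ p ∣ N.relIndex J →
    J ≤ N ⊔ Subgroup.centralizer (((Q : Subgroup N).map N.subtype : Subgroup G) : Set G)
  mpos : 0 < m
  mp : ¬ p ∣ m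
  tw : ∀ k : ℕ, Nat.Coprime k (Nat.card G * m) → k ≡ 1 [MOD m] →
    ∀ n : N, (θ : N → ℂ) (n ^ k) = (θ : N → ℂ) n

variable [Finite G] {p : ℕ} [hp : Fact p.Prime] {M : Ideal AlgInt} {N : Subgroup G}
  [hN : N.Normal] {θ : IrrCharacter N} {Q : Sylow p N} {m : ℕ}

theorem isCanR_unique (S : RSetup p M N θ Q m) {H : Subgroup G} (hNH : N ≤ H)
    {χ₁ χ₂ : H → ℂ} (h₁ : IsCanR p M N (θ : N → ℂ) H χ₁)
    (h₂ : IsCanR p M N (θ : N → ℂ) H χ₂) : χ₁ = χ₂ := by
  classical
  letI : Fintype H := Fintype.ofFinite H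
  letI : Fintype (N.subgroupOf H) := Fintype.ofFinite _
  have hN' : (N.subgroupOf H).Normal := Subgroup.normal_subgroupOf
  have hϑ : IsIrrCharacter (N.subgroupOf H) (Helper20.thetaSub N (θ : N → ℂ) H hNH) :=
    Helper84.AD.thetaSub_irr N θ H hNH
  have hres : ∀ (χ : H → ℂ), IsCanR p M N (θ : N → ℂ) H χ →
      ∀ n : N.subgroupOf H, χ n = Helper20.thetaSub N (θ : N → ℂ) H hNH n := by
    intro χ h n
    rw [h.2.1 (n : H) (Subgroup.mem_subgroupOf.mp n.2), Helper20.thetaSub_apply]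
  obtain ⟨β, hβN, hβ⟩ := Helper20.exists_linear_of_extensions (N.subgroupOf H) hϑ h₁.1 h₂.1
    (hres χ₁ h₁) (hres χ₂ h₂)
  have hβv : ∀ g : H, χ₂ g = ((β g : ℂˣ) : ℂ) * χ₁ g := fun g => congrFun hβ g
  have hreg : ∀ y : H, ¬ p ∣ orderOf y → β y = 1 := by
    intro y hy
    obtain ⟨J, hJ⟩ : ∃ J : Subgroup G, J = N ⊔ Subgroup.zpowers (y : G) := ⟨_, rfl⟩
    have hNJ : N ≤ J := hJ ▸ le_sup_left
    have hJH : J ≤ H := by
      rw [hJ]; exact sup_le hNH (Subgroup.zpowers_le.mpr y.2)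
    have hidx : ¬ p ∣ N.relIndex J := by
      rw [hJ, Subgroup.relIndex_sup_left]
      intro hdvd
      apply hy
      have h1 : N.relIndex (Subgroup.zpowers (y : G)) ∣ Nat.card (Subgroup.zpowers (y : G)) :=
        Subgroup.relIndex_dvd_card _ _
      rw [Nat.card_zpowers, Subgroup.orderOf_coe] at h1
      exact dvd_trans hdvd h1
    obtain ⟨ψ₁, hψ₁, e₁⟩ := h₁.2.2.2 J hJH hNJ hidx
    obtain ⟨ψ₂, hψ₂, e₂⟩ := h₂.2.2.2 J hJH hNJ hidx
    have hψ : ψ₁ = ψ₂ := by
      apply adj_unique S.hM N Q J hNJ hidx (S.le J hNJ hidx) θ S.mem ψ₁ ψ₂ hψ₁ hψ₂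
      · intro x hx
        rw [e₁ x]; exact h₁.2.1 _ hx
      · intro x hx
        rw [e₂ x]; exact h₂.2.1 _ hx
    have heq : ∀ n : N.subgroupOf H, χ₁ ((n : H) * y) = χ₂ ((n : H) * y) := by
      intro n
      have hmem : (((n : H) * y : H) : G) ∈ J := by
        rw [hJ]
        exact Subgroup.mul_mem _ (Subgroup.mem_sup_left (Subgroup.mem_subgroupOf.mp n.2))
          (Subgroup.mem_sup_right (Subgroup.mem_zpowers _))
      have h3 := e₁ ⟨_, hmem⟩
      have h4 := e₂ ⟨_, hmem⟩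
      rw [hψ] at h3
      have h5 : Subgroup.inclusion hJH ⟨(((n : H) * y : H) : G), hmem⟩ = (n : H) * y :=
        Subtype.ext rfl
      rw [h5] at h3 h4
      rw [← h3, ← h4]
    have hχN : IsIrrCharacter (N.subgroupOf H) (fun n : N.subgroupOf H => χ₁ n) := by
      have h0 : (fun n : N.subgroupOf H => χ₁ n) = Helper20.thetaSub N (θ : N → ℂ) H hNH :=
        funext (hres χ₁ h₁)
      rw [h0]; exact hϑ
    have h6 := congrFun (Cfsg.Agent.S0868.eta_self (N.subgroupOf H) h₁.1 hχN) y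
    unfold Cfsg.Agent.S0868.eta at h6
    by_contra hne
    have h7 : ∀ n : N.subgroupOf H, χ₁ ((n : H) * y) = 0 := by
      intro n
      have h8 := heq n
      rw [hβv] at h8
      have h9 : ((β ((n : H) * y) : ℂˣ) : ℂ) = ((β y : ℂˣ) : ℂ) := by
        rw [map_mul, hβN n, one_mul]
      rw [h9] at h8
      by_contra h0
      apply hne
      have h10 : (1 : ℂ) * χ₁ ((n : H) * y) = ((β y : ℂˣ) : ℂ) * χ₁ ((n : H) * y) := by
        rw [one_mul]; exact h8
      exact Units.ext (mul_right_cancel₀ h0 h10).symm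
    rw [Finset.sum_eq_zero (fun n _ => by rw [h7 n, zero_mul]), mul_zero] at h6
    exact zero_ne_one h6
  obtain ⟨d, hd1, hdp⟩ : ∃ d : ℕ, χ₁ 1 = d ∧ ¬ p ∣ d := by
    obtain ⟨-, hdeg⟩ := Helper83.irr_degree θ.2
    refine ⟨charDegree (θ : N → ℂ), ?_, S.deg⟩
    rw [h₁.2.1 1 (N.one_mem)]
    exact hdeg
  have hβ1 : ∀ h : H, β h = 1 := by
    intro h
    obtain ⟨b, s, hs, hbs⟩ := Nat.exists_eq_pow_mul_and_not_dvd (orderOf_pos h).ne' p
      hp.out.ne_one
    have hy : ¬ p ∣ orderOf (h ^ (p ^ b)) := by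
      rw [orderOf_pow_of_dvd (pow_pos hp.out.pos b).ne' (Dvd.intro _ hbs.symm), hbs,
        Nat.mul_div_cancel_left _ (pow_pos hp.out.pos b)]
      exact hs
    have hβp : β h ^ (p ^ b) = 1 := by
      rw [← map_pow]; exact hreg _ hy
    have hdet := Helper20.detChar_linear_mul β (Helper35.isChar_of_irr h₁.1) d hd1 h
    rw [← hβ] at hdet
    have h11 := detChar_pow_detOrder χ₁ h
    have h12 := detChar_pow_detOrder χ₂ h
    have h13 : ((β h : ℂˣ) : ℂ) ^ (d * (detOrder χ₁ * detOrder χ₂)) = 1 := by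
      have h0 : (((β h : ℂˣ) : ℂ) ^ d * detChar χ₁ h) ^ (detOrder χ₁ * detOrder χ₂) = 1 := by
        rw [← hdet, mul_comm, pow_mul, h12, one_pow]
      rw [mul_pow, pow_mul (detChar χ₁ h), h11, one_pow, mul_one, ← pow_mul] at h0
      exact h0
    have h14 : β h ^ (d * (detOrder χ₁ * detOrder χ₂)) = 1 :=
      Units.ext (by rw [Units.val_pow_eq_pow_val]; exact h13)
    have hcop : Nat.Coprime (d * (detOrder χ₁ * detOrder χ₂)) (p ^ b) := by
      apply Nat.Coprime.pow_right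
      apply Nat.Coprime.symm
      rw [Nat.Prime.coprime_iff_not_dvd hp.out]
      intro hdvd
      rcases (Nat.Prime.dvd_mul hp.out).mp hdvd with h | h
      · exact hdp h
      · rcases (Nat.Prime.dvd_mul hp.out).mp h with h | h
        · exact h₁.2.2.1 h
        · exact h₂.2.2.1 h
    have h15 : orderOf (β h) ∣ Nat.gcd (d * (detOrder χ₁ * detOrder χ₂)) (p ^ b) :=
      Nat.dvd_gcd (orderOf_dvd_of_pow_eq_one h14) (orderOf_dvd_of_pow_eq_one hβp)
    have hgcd : Nat.gcd (d * (detOrder χ₁ * detOrder χ₂)) (p ^ b) = 1 := hcop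
    rw [hgcd, Nat.dvd_one, orderOf_eq_one_iff] at h15
    exact h15
  rw [hβ]
  funext g
  rw [hβ1 g, Units.val_one, one_mul]

theorem isCanR_res {K H : Subgroup G} (hNK : N ≤ K) (hKH : K ≤ H) {χ : H → ℂ}
    (h : IsCanR p M N (θ : N → ℂ) H χ) :
    IsCanR p M N (θ : N → ℂ) K (fun k : K => χ (Subgroup.inclusion hKH k)) := by
  have hchar : IsCharacter K (fun k : K => χ (Subgroup.inclusion hKH k)) :=
    Helper20.isCharacter_comp (Subgroup.inclusion hKH) (Helper35.isChar_of_irr h.1)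
  have hNv : ∀ (x : K) (hx : (x : G) ∈ N),
      χ (Subgroup.inclusion hKH x) = (θ : N → ℂ) ⟨x, hx⟩ :=
    fun x hx => h.2.1 (Subgroup.inclusion hKH x) hx
  refine ⟨?_, hNv, ?_, ?_⟩
  · apply Helper20.irr_of_res_irr (N.subgroupOf K) hchar
    have h1 : (fun x : N.subgroupOf K => χ (Subgroup.inclusion hKH (x : K))) =
        Helper20.thetaSub N (θ : N → ℂ) K hNK := by
      funext x
      rw [hNv (x : K) (Subgroup.mem_subgroupOf.mp x.2), Helper20.thetaSub_apply]
    rw [h1]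
    exact Helper84.AD.thetaSub_irr N θ K hNK
  · intro hdvd
    apply h.2.2.1
    refine dvd_trans hdvd ?_
    unfold detOrder
    apply orderOf_dvd_of_pow_eq_one
    funext k
    rw [Pi.pow_apply, Pi.one_apply,
      Helper20.detChar_comp (Subgroup.inclusion hKH) (Helper35.isChar_of_irr h.1)]
    exact detChar_pow_detOrder χ _
  · intro J hJK hNJ hidx
    obtain ⟨ψ, hψ, e⟩ := h.2.2.2 J (hJK.trans hKH) hNJ hidx
    exact ⟨ψ, hψ, fun x => e x⟩

theorem isCanR_conj
    (hinv : ∀ (g : G) (n n' : N), (n' : G) = g * (n : G) * g⁻¹ →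
      (θ : N → ℂ) n' = (θ : N → ℂ) n)
    {H H' : Subgroup G} (e : H' ≃* H) (g : G)
    (he : ∀ x : H', ((e x : H) : G) = g⁻¹ * x * g) {χ : H → ℂ}
    (h : IsCanR p M N (θ : N → ℂ) H χ) :
    IsCanR p M N (θ : N → ℂ) H' (fun x => χ (e x)) := by
  refine ⟨Helper20.irr_comp_surjective e.toMonoidHom e.surjective h.1, fun x hx => ?_, ?_, ?_⟩
  · have hmem : ((e x : H) : G) ∈ N := by
      rw [he]
      have h0 := hN.conj_mem _ hx g⁻¹
      rwa [inv_inv] at h0
    show χ (e x) = (θ : N → ℂ) ⟨↑x, hx⟩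
    rw [h.2.1 (e x) hmem]
    exact hinv g⁻¹ ⟨x, hx⟩ ⟨_, hmem⟩ (by rw [he, inv_inv])
  · intro hdvd
    apply h.2.2.1
    refine dvd_trans hdvd ?_
    unfold detOrder
    apply orderOf_dvd_of_pow_eq_one
    funext k
    rw [Pi.pow_apply, Pi.one_apply]
    have h0 := Helper20.detChar_comp e.toMonoidHom (Helper35.isChar_of_irr h.1) k
    have h1 : detChar (fun x => χ (e x)) k = detChar χ (e k) := h0
    rw [h1]
    exact detChar_pow_detOrder χ _
  · intro J' hJ'H' hNJ' hidx'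
    obtain ⟨c, hc⟩ : ∃ c : G ≃* G, c = MulAut.conj g⁻¹ := ⟨_, rfl⟩
    have hcv : ∀ x : G, c x = g⁻¹ * x * g := by
      intro x
      rw [hc]
      show g⁻¹ * x * g⁻¹⁻¹ = _
      rw [inv_inv]
    obtain ⟨J, hJ⟩ : ∃ J : Subgroup G, J = J'.map c.toMonoidHom := ⟨_, rfl⟩
    have hmemJ : ∀ x : G, x ∈ J' → g⁻¹ * x * g ∈ J := by
      intro x hx
      rw [hJ]
      exact ⟨x, hx, hcv x⟩
    have hJH : J ≤ H := by
      rw [hJ]
      rintro _ ⟨x, hx, rfl⟩
      have h0 := (e ⟨x, hJ'H' hx⟩).2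
      rw [he] at h0
      show c x ∈ H
      rw [hcv]
      exact h0
    have hNJ : N ≤ J := by
      intro n hn
      rw [hJ]
      refine ⟨g * n * g⁻¹, hNJ' (hN.conj_mem n hn g), ?_⟩
      show c (g * n * g⁻¹) = n
      rw [hcv]
      group
    have hNmap : N.map c.toMonoidHom = N := by
      ext x
      constructor
      · rintro ⟨n, hn, rfl⟩
        show c n ∈ N
        rw [hcv]
        have h0 := hN.conj_mem n hn g⁻¹
        rwa [inv_inv] at h0
      · intro hx
        refine ⟨g * x * g⁻¹, hN.conj_mem x hx g, ?_⟩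
        show c (g * x * g⁻¹) = x
        rw [hcv]
        group
    have hidx : ¬ p ∣ N.relIndex J := by
      have h2 : (N.map c.toMonoidHom).relIndex (J'.map c.toMonoidHom) = N.relIndex J' :=
        Subgroup.relIndex_map_map_of_injective N J' c.injective
      rw [hNmap, ← hJ] at h2
      rw [h2]
      exact hidx'
    obtain ⟨ψ, hψ, eψ⟩ := h.2.2.2 J hJH hNJ hidx
    let eJ : J' ≃* J :=
      { toFun := fun x => ⟨g⁻¹ * x * g, hmemJ x x.2⟩
        invFun := fun y => ⟨g * y * g⁻¹, by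
          have hy : (y : G) ∈ J'.map c.toMonoidHom := hJ ▸ y.2
          obtain ⟨x, hx, hxy⟩ := hy
          have h0 : g * (y : G) * g⁻¹ = x := by
            rw [← hxy]
            show g * c x * g⁻¹ = x
            rw [hcv]
            group
          rw [h0]; exact hx⟩
        left_inv := fun x => Subtype.ext (by
          show g * (g⁻¹ * (x : G) * g) * g⁻¹ = x
          group)
        right_inv := fun y => Subtype.ext (by
          show g⁻¹ * (g * (y : G) * g⁻¹) * g = y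
          group)
        map_mul' := fun x y => Subtype.ext (by
          show g⁻¹ * ((x : G) * y) * g = (g⁻¹ * x * g) * (g⁻¹ * y * g)
          group) }
    refine ⟨Helper82.irrComp eJ ψ, Helper82.irrComp_mem_principal M eJ ψ hψ, fun x => ?_⟩
    show (ψ : J → ℂ) (eJ x) = χ (e (Subgroup.inclusion hJ'H' x))
    rw [eψ (eJ x)]
    refine congrArg χ (Subtype.ext ?_)
    rw [he]
    rfl

omit hN in
theorem isCanR_twist {H : Subgroup G} (k : ℕ) (hk : Nat.Coprime k (Nat.card G))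
    (hθk : ∀ n : N, (θ : N → ℂ) (n ^ k) = (θ : N → ℂ) n) {χ : H → ℂ}
    (h : IsCanR p M N (θ : N → ℂ) H χ) :
    IsCanR p M N (θ : N → ℂ) H (fun x => χ (x ^ k)) := by
  classical
  letI : Fintype H := Fintype.ofFinite H
  have hkH : Nat.Coprime k (Nat.card H) :=
    Nat.Coprime.coprime_dvd_right (Subgroup.card_subgroup_dvd_card H) hk
  refine ⟨Helper80.isIrrCharacter_pow_coprime k hkH ⟨χ, h.1⟩, fun x hx => ?_, ?_, ?_⟩
  · have hxk : ((x ^ k : H) : G) ∈ N := by
      rw [Subgroup.coe_pow]; exact N.pow_mem hx k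
    show χ (x ^ k) = _
    rw [h.2.1 (x ^ k) hxk, ← hθk ⟨x, hx⟩]
    exact congrArg _ (Subtype.ext (by simp))
  · obtain ⟨n, ρ, hρ⟩ := Helper35.isChar_of_irr h.1
    have hL : 0 < Nat.card H := Nat.card_pos
    have hζ := Complex.isPrimitiveRoot_exp (Nat.card H) hL.ne'
    obtain ⟨τ, hτ⟩ := Helper80.exists_ringEquiv_pow (Nat.card H) k hL hkH _ hζ
    have h1 : (fun x : H => χ (x ^ k)) = fun x => (τ : ℂ →+* ℂ) (χ x) := by
      funext x
      rw [← hρ]
      exact (tau_character τ (Nat.card H) k hL hτ ρ x pow_card_eq_one').symm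
    rw [h1]
    intro hdvd
    exact h.2.2.1 (dvd_trans hdvd
      (detOrder_twist_dvd (τ : ℂ →+* ℂ) (Helper35.isChar_of_irr h.1)))
  · intro J hJH hNJ hidx
    obtain ⟨ψ, hψ, e⟩ := h.2.2.2 J hJH hNJ hidx
    letI : Fintype J := Fintype.ofFinite J
    have hkJ : Nat.Coprime k (Nat.card J) :=
      Nat.Coprime.coprime_dvd_right (Subgroup.card_subgroup_dvd_card J) hk
    refine ⟨Cfsg.Agent.S4517.tw k hkJ ψ, Helper80.tw_mem_principalBlock k hkJ ψ hψ,
      fun x => ?_⟩
    rw [Cfsg.Agent.S4517.tw_apply, e (x ^ k), map_pow]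

end Can

end Cfsg.Agent.Lib.Helper22.PRat
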