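import Mathlib
import Cfsg.Agent.Lib.Helper22.PRatC
import Cfsg.Agent.S0867

/-!
# Existence of the canonical extension over an elementary subgroup (helper22)

`isCanR_exists`: for `E` an elementary subgroup (for any prime), the canonical extension of `θ`
to `N ⊔ E` exists: with `D` the normal `p`-complement of `E`, extend `θ` to `K = N ⊔ D` inside
the principal block (Alperin–Dade), then to `N ⊔ E` (a `p`-group over `K`) by the
coprime-determinant extension theorem.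
-/

set_option autoImplicit false
set_option linter.style.haveILetI false
set_option linter.unusedSectionVars false

namespace Cfsg.Agent.Lib.Helper22.PRat

open Cfsg
open Cfsg.Agent.Lib
open scoped ComplexConjugate

universe u

section Ex

variable {G : Type u} [Group G] [Finite G] {p : ℕ} [hp : Fact p.Prime] {M : Ideal AlgInt}
  {N : Subgroup G} [hN : N.Normal] {θ : IrrCharacter N} {Q : Sylow p N} {m : ℕ}

theorem isCanR_exists (S : RSetup p M N θ Q m) (hp2 : p ≠ 2) (E : Subgroup G) (q : ℕ)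
    (hq : q.Prime) (hE : IsElementary q E) :
    ∃ χ : (N ⊔ E : Subgroup G) → ℂ, IsCanR p M N (θ : N → ℂ) (N ⊔ E) χ := by
  classical
  obtain ⟨D, hDn, hDp, i, hDi⟩ := exists_normal_pcompl_of_elementary q hE p hq
  obtain ⟨Dt, hDt⟩ : ∃ Dt : Subgroup G, Dt = D.map E.subtype := ⟨_, rfl⟩
  have hDtE : Dt ≤ E := by
    rw [hDt]
    rintro _ ⟨d, -, rfl⟩
    exact d.2
  obtain ⟨K, hK⟩ : ∃ K : Subgroup G, K = N ⊔ Dt := ⟨_, rfl⟩
  obtain ⟨H, hH⟩ : ∃ H : Subgroup G, H = N ⊔ E := ⟨_, rfl⟩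
  rw [← hH]
  have hNK : N ≤ K := hK ▸ le_sup_left
  have hNH : N ≤ H := hH ▸ le_sup_left
  have hEH : E ≤ H := hH ▸ le_sup_right
  have hKH : K ≤ H := by
    rw [hK, hH]
    exact sup_le_sup_left hDtE N
  have hidxK : ¬ p ∣ N.relIndex K := by
    rw [hK, Subgroup.relIndex_sup_left, hDt]
    intro hdvd
    apply hDp
    have h1 : N.relIndex (D.map E.subtype) ∣ Nat.card (D.map E.subtype) :=
      Subgroup.relIndex_dvd_card _ _
    rw [Subgroup.card_map_of_injective E.subtype_injective] at h1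
    exact dvd_trans hdvd h1
  have hKT := S.le K hNK hidxK
  obtain ⟨χK, hχK, hχKN⟩ := adj_exists S.hM N Q K hNK hidxK hKT θ S.mem
  -- `K` is normalized by `H`
  have hEnorm : ∀ e ∈ E, ∀ x ∈ K, e * x * e⁻¹ ∈ K := by
    intro e he x hx
    have h1 : x ∈ ((N ⊔ Dt : Subgroup G) : Set G) := hK ▸ hx
    rw [Subgroup.normal_mul] at h1
    obtain ⟨n, hn, d, hd, hnd⟩ := Set.mem_mul.mp h1
    have h2 : e * x * e⁻¹ = (e * n * e⁻¹) * (e * d * e⁻¹) := by rw [← hnd]; group
    rw [h2, hK]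
    apply Subgroup.mul_mem_sup (hN.conj_mem n hn e)
    rw [hDt] at hd ⊢
    obtain ⟨d', hd', rfl⟩ := hd
    exact ⟨(⟨e, he⟩ : E) * d' * (⟨e, he⟩ : E)⁻¹, hDn.conj_mem d' hd' _, rfl⟩
  have hHnorm : H ≤ Subgroup.normalizer (K : Set G) := by
    rw [hH]
    apply sup_le
    · exact hNK.trans Subgroup.le_normalizer
    · intro e he
      rw [Subgroup.mem_normalizer_iff]
      intro x
      constructor
      · exact hEnorm e he x
      · intro hx
        have h1 := hEnorm e⁻¹ (E.inv_mem he) _ hx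
        have h2 : e⁻¹ * (e * x * e⁻¹) * e⁻¹⁻¹ = x := by group
        rwa [h2] at h1
  have hconj : ∀ h ∈ H, ∀ x, x ∈ K ↔ h * x * h⁻¹ ∈ K := fun h hh =>
    Subgroup.mem_normalizer_iff.mp (hHnorm hh)
  have hK₁ : (K.subgroupOf H).Normal := by
    refine ⟨fun x hx h => ?_⟩
    rw [Subgroup.mem_subgroupOf] at hx ⊢
    exact (hconj h h.2 x).mp hx
  -- the quotient is a `p`-group
  have hpow : ∀ h : H, (h ^ (p ^ i) : H) ∈ K.subgroupOf H := by
    intro h
    have h1 : (h : G) ∈ ((N ⊔ E : Subgroup G) : Set G) := hH ▸ h.2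
    rw [Subgroup.normal_mul] at h1
    obtain ⟨n, hn, e, he, hne⟩ := Set.mem_mul.mp h1
    have h2 : h = (⟨n, hNH hn⟩ : H) * ⟨e, hEH he⟩ := Subtype.ext hne.symm
    have h3 : (⟨n, hNH hn⟩ : H) ∈ K.subgroupOf H := Subgroup.mem_subgroupOf.mpr (hNK hn)
    have h4 : ((⟨e, hEH he⟩ : H) ^ (p ^ i) : H) ∈ K.subgroupOf H := by
      rw [Subgroup.mem_subgroupOf, Subgroup.coe_pow, hK]
      apply Subgroup.mem_sup_right
      rw [hDt]
      have h5 := Subgroup.pow_index_mem D (⟨e, he⟩ : E)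
      rw [hDi] at h5
      exact ⟨_, h5, rfl⟩
    rw [← QuotientGroup.eq_one_iff] at h3 h4 ⊢
    rw [h2, QuotientGroup.mk_pow, QuotientGroup.mk_mul, h3, one_mul, ← QuotientGroup.mk_pow]
    exact h4
  have hpg : IsPGroup p (H ⧸ K.subgroupOf H) := by
    intro x
    induction x using QuotientGroup.induction_on with
    | H h =>
      refine ⟨i, ?_⟩
      rw [← QuotientGroup.mk_pow]
      exact (QuotientGroup.eq_one_iff _).mpr (hpow h)
  obtain ⟨j, hj⟩ := IsPGroup.exists_card_eq hpg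
  have hidxH : (K.subgroupOf H).index = p ^ j := by
    rw [Subgroup.index_eq_card]; exact hj
  -- the twisting exponent
  have hcpos : 0 < Nat.card G * m := Nat.mul_pos Nat.card_pos S.mpos
  obtain ⟨k, hk1, hkc, hkp, hkm⟩ := exists_twist_exponent p hp.out hp2 _ hcpos
  have hkG : Nat.Coprime k (Nat.card G) := Nat.Coprime.coprime_dvd_right (Dvd.intro _ rfl) hkc
  have hθk := S.tw k hkc (hkm m (Dvd.intro_left _ rfl) S.mp)
  letI : Fintype K := Fintype.ofFinite K
  have hkK : Nat.Coprime k (Nat.card K) :=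
    Nat.Coprime.coprime_dvd_right (Subgroup.card_subgroup_dvd_card K) hkG
  have htw : Cfsg.Agent.S4517.tw k hkK χK = χK := by
    refine adj_unique S.hM N Q K hNK hidxK hKT θ S.mem _ _
      (Helper80.tw_mem_principalBlock k hkK χK hχK) hχK ?_ hχKN
    intro x hx
    have hxk : ((x ^ k : K) : G) ∈ N := by
      rw [Subgroup.coe_pow]; exact N.pow_mem hx k
    rw [Cfsg.Agent.S4517.tw_apply, hχKN (x ^ k) hxk, ← hθk ⟨x, hx⟩]
    exact congrArg _ (Subtype.ext (by simp))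
  have hχKk : ∀ x : K, (χK : K → ℂ) (x ^ k) = (χK : K → ℂ) x := fun x =>
    congrFun (congrArg Subtype.val htw) x
  -- the character on `K.subgroupOf H`
  obtain ⟨ϑ, hϑdef⟩ : ∃ ϑ : K.subgroupOf H → ℂ, ϑ = Helper20.thetaSub K (χK : K → ℂ) H hKH :=
    ⟨_, rfl⟩
  have hϑv : ∀ x : K.subgroupOf H,
      ϑ x = (χK : K → ℂ) ⟨((x : H) : G), Subgroup.mem_subgroupOf.mp x.2⟩ := by
    intro x
    rw [hϑdef, Helper20.thetaSub_apply]
  have hϑirr : IsIrrCharacter (K.subgroupOf H) ϑ := by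
    rw [hϑdef]; exact Helper84.AD.thetaSub_irr K χK H hKH
  have hϑinv : ∀ (h : H) (n : K.subgroupOf H),
      ϑ ⟨h * n * h⁻¹, hK₁.conj_mem (n : H) n.2 h⟩ = ϑ n := by
    intro h n
    rw [hϑv, hϑv]
    exact adj_conj_inv S.hM N Q K hNK hidxK hKT θ S.mem S.inv χK hχK hχKN (h : G)
      (hconj h h.2) ⟨((n : H) : G), Subgroup.mem_subgroupOf.mp n.2⟩
  obtain ⟨-, hdeg⟩ := Helper83.irr_degree θ.2
  have hϑ1 : ϑ 1 = (charDegree (θ : N → ℂ) : ℂ) := by
    rw [hϑv, ← hdeg]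
    exact hχKN _ N.one_mem
  have hϑk : ∀ x : K.subgroupOf H, ϑ (x ^ k) = ϑ x := by
    intro x
    rw [hϑv, hϑv]
    have h0 := hχKk ⟨((x : H) : G), Subgroup.mem_subgroupOf.mp x.2⟩
    rw [← h0]
    exact congrArg _ (Subtype.ext (by simp))
  have hkK₁ : Nat.Coprime k (Nat.card (K.subgroupOf H)) := by
    have h1 : Nat.card (K.subgroupOf H) = Nat.card K :=
      Nat.card_congr (Subgroup.subgroupOfEquivOfLe hKH).toEquiv
    rw [h1]; exact hkK
  have hdetϑ : ¬ p ∣ detOrder ϑ :=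
    not_dvd_detOrder_of_twist_inv p k hkK₁ hk1 hkp (Helper35.isChar_of_irr hϑirr) hϑk
  have hcop : Nat.Coprime (K.subgroupOf H).index (detOrder ϑ * charDegree (θ : N → ℂ)) := by
    rw [hidxH]
    apply Nat.Coprime.pow_left
    rw [Nat.Prime.coprime_iff_not_dvd hp.out]
    intro hdvd
    rcases (Nat.Prime.dvd_mul hp.out).mp hdvd with h | h
    · exact hdetϑ h
    · exact S.deg h
  obtain ⟨Ξ, ⟨hΞirr, hΞres, hΞdet⟩, -⟩ := Cfsg.Agent.S0867.result (K.subgroupOf H) ϑ hϑirr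
    hϑinv (charDegree (θ : N → ℂ)) hϑ1 hcop
  refine ⟨Ξ, hΞirr, fun x hx => ?_, ?_, ?_⟩
  · have h1 := hΞres ⟨x, Subgroup.mem_subgroupOf.mpr (hNK hx)⟩
    rw [show Ξ x = _ from h1, hϑv]
    exact hχKN _ hx
  · rw [hΞdet]; exact hdetϑ
  · intro J hJH hNJ hidx
    have hJK : J ≤ K := by
      intro y hy
      have hN' : (N.subgroupOf J).Normal := Subgroup.normal_subgroupOf
      have h1 : y ^ (N.relIndex J) ∈ K := by
        have h0 := Subgroup.pow_index_mem (N.subgroupOf J) (⟨y, hy⟩ : J)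
        exact hNK (Subgroup.mem_subgroupOf.mp h0)
      have h2 : y ^ (p ^ j) ∈ K := by
        have h0 := Subgroup.pow_index_mem (K.subgroupOf H) (⟨y, hJH hy⟩ : H)
        rw [hidxH] at h0
        exact Subgroup.mem_subgroupOf.mp h0
      have hcop' : Nat.Coprime (N.relIndex J) (p ^ j) :=
        (Nat.Coprime.pow_left j ((Nat.Prime.coprime_iff_not_dvd hp.out).mpr hidx)).symm
      exact mem_of_pow_mem_coprime K y _ _ hcop' h1 h2
    obtain ⟨ψ, hψ, eψ⟩ := adj_restrict S.hM N Q J K hNJ hJK hidxK hKT θ S.mem χK hχK hχKN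
    refine ⟨ψ, hψ, fun x => ?_⟩
    rw [eψ x]
    have h1 := hΞres ⟨Subgroup.inclusion hJH x, Subgroup.mem_subgroupOf.mpr (hJK x.2)⟩
    rw [show Ξ (Subgroup.inclusion hJH x) = _ from h1, hϑv]
    rfl

end Ex

end Cfsg.Agent.Lib.Helper22.PRat
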