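import Mathlib
import Cfsg.Agent.Lib.Helper20.Glue
import Cfsg.Agent.Lib.Helper4.BrArtin

/-!
# Gluing canonical extensions, elementary version (helper22)

A variant of `Helper84.AD.GlueData` (itself a generic form of `Helper20.Glue`) in which the
canonical extensions are only required to exist over the subgroups `N ⊔ E` with `E` elementary:
this is all that the Brauer characterization of characters needs.
-/

set_option autoImplicit false
set_option linter.style.haveILetI false

namespace Cfsg.Agent.Lib.Helper22.PRat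

open Cfsg
open Cfsg.Agent.Lib
open scoped ComplexConjugate

universe u

section Glue

variable {G : Type u} [Group G] [Finite G] (N : Subgroup G) [hN : N.Normal] (ϑ : N → ℂ)
  (Can : (H : Subgroup G) → (H → ℂ) → Prop)

/-- the standing hypotheses of the gluing argument -/
structure GlueDataE : Prop where
  irr : IsIrrCharacter N ϑ
  can_irr : ∀ (H : Subgroup G) (χ : H → ℂ), Can H χ → IsIrrCharacter H χ
  can_res : ∀ (H : Subgroup G) (χ : H → ℂ), Can H χ →
    ∀ (x : H) (hx : (x : G) ∈ N), χ x = ϑ ⟨x, hx⟩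
  uniq : ∀ (H : Subgroup G), N ≤ H → ∀ χ₁ χ₂ : H → ℂ, Can H χ₁ → Can H χ₂ → χ₁ = χ₂
  ex : ∀ (E : Subgroup G) (q : ℕ), q.Prime → IsElementary q E →
    ∃ χ : (N ⊔ E : Subgroup G) → ℂ, Can (N ⊔ E) χ
  res : ∀ (K H : Subgroup G), N ≤ K → ∀ (hKH : K ≤ H) (χ : H → ℂ), Can H χ →
    Can K (fun k : K => χ (Subgroup.inclusion hKH k))
  cnj : ∀ (H H' : Subgroup G) (e : H' ≃* H) (g : G),
    (∀ x : H', ((e x : H) : G) = g⁻¹ * x * g) → ∀ χ : H → ℂ, Can H χ →
    Can H' (fun x => χ (e x))

/-- the canonical extension to `H`, extended by zero to a function on `G` (zero when there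
is none) -/
noncomputable def canonE (H : Subgroup G) : G → ℂ :=
  haveI := Classical.propDecidable (∃ χ : H → ℂ, Can H χ)
  if h : ∃ χ : H → ℂ, Can H χ then
    fun y => haveI := Classical.propDecidable (y ∈ H)
      if hy : y ∈ H then Classical.choose h ⟨y, hy⟩ else 0
  else 0

/-- the glueEd function: at `g` the value of the canonical extension to `N ⊔ ⟨g⟩` -/
noncomputable def glueE : G → ℂ := fun g => canonE Can (N ⊔ Subgroup.zpowers g) g

variable {N ϑ Can}

theorem canonE_spec (S : GlueDataE N ϑ Can) {H : Subgroup G} (hNH : N ≤ H)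
    {χ : H → ℂ} (h : Can H χ) (y : H) : canonE Can H y = χ y := by
  have hex : ∃ χ : H → ℂ, Can H χ := ⟨χ, h⟩
  have h1 : Classical.choose hex = χ := S.uniq H hNH _ _ (Classical.choose_spec hex) h
  unfold canonE
  rw [dif_pos hex, dif_pos y.2, h1]

theorem canonE_le (S : GlueDataE N ϑ Can) {K H : Subgroup G} (hNK : N ≤ K)
    (hKH : K ≤ H) (hex : ∃ χ : H → ℂ, Can H χ) {y : G} (hy : y ∈ K) :
    canonE Can K y = canonE Can H y := by
  obtain ⟨χ, hχ⟩ := hex
  have h1 := canonE_spec S hNK (S.res K H hNK hKH χ hχ) ⟨y, hy⟩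
  have h2 := canonE_spec S (hNK.trans hKH) hχ ⟨y, hKH hy⟩
  rw [show canonE Can K y = _ from h1, show canonE Can H y = _ from h2]
  rfl

theorem glueE_eq (S : GlueDataE N ϑ Can) {H : Subgroup G} (hNH : N ≤ H)
    (hex : ∃ χ : H → ℂ, Can H χ) {g : G} (hg : g ∈ H) :
    glueE N Can g = canonE Can H g :=
  canonE_le S le_sup_left (sup_le hNH (Subgroup.zpowers_le.mpr hg)) hex
    (Subgroup.mem_sup_right (Subgroup.mem_zpowers g))

theorem glueE_eq_canon (S : GlueDataE N ϑ Can) {H : Subgroup G} (hNH : N ≤ H)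
    {χ : H → ℂ} (hχ : Can H χ) (y : H) : glueE N Can y = χ y := by
  rw [glueE_eq S hNH ⟨χ, hχ⟩ y.2]
  exact canonE_spec S hNH hχ y

theorem exists_canonE_zpowers (S : GlueDataE N ϑ Can) (g : G) :
    ∃ χ : (N ⊔ Subgroup.zpowers g : Subgroup G) → ℂ, Can (N ⊔ Subgroup.zpowers g) χ :=
  S.ex (Subgroup.zpowers g) 2 Nat.prime_two
    (Helper4.isElementary_of_isCyclic 2 Nat.prime_two _)

theorem glueE_res (S : GlueDataE N ϑ Can) (n : N) : glueE N Can n = ϑ n := by
  obtain ⟨χ, hχ⟩ := exists_canonE_zpowers S (n : G)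
  have h1 := glueE_eq_canon S le_sup_left hχ ⟨(n : G), Subgroup.mem_sup_left n.2⟩
  rw [show glueE N Can (n : G) = _ from h1]
  exact S.can_res _ χ hχ _ n.2

theorem glueE_res_char (S : GlueDataE N ϑ Can) (E : Subgroup G) (q : ℕ) (hq : q.Prime)
    (hE : IsElementary q E) : IsCharacter E (fun e : E => glueE N Can e) := by
  obtain ⟨χ, hχ⟩ := S.ex E q hq hE
  have h1 : (fun e : E => glueE N Can e) =
      fun e : E => χ (Subgroup.inclusion le_sup_right e) := by
    funext e
    exact glueE_eq_canon S le_sup_left hχ (Subgroup.inclusion le_sup_right e)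
  rw [h1]
  exact Helper20.isCharacter_comp (Subgroup.inclusion le_sup_right)
    (Helper35.isChar_of_irr (S.can_irr _ χ hχ))

theorem glueE_classFunction (S : GlueDataE N ϑ Can) : IsClassFunction G (glueE N Can) := by
  intro a g
  obtain ⟨H, hH⟩ : ∃ H : Subgroup G, H = N ⊔ Subgroup.zpowers a := ⟨_, rfl⟩
  obtain ⟨χ, hχ⟩ : ∃ χ : H → ℂ, Can H χ := by
    rw [hH]; exact exists_canonE_zpowers S a
  have hNH : N ≤ H := hH ▸ le_sup_left
  have haH : a ∈ H := hH ▸ Subgroup.mem_sup_right (Subgroup.mem_zpowers a)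
  let c : G ≃* G := MulAut.conj g
  let e : H.map c.toMonoidHom ≃* H := (c.subgroupMap H).symm
  have he : ∀ x : H.map c.toMonoidHom, ((e x : H) : G) = g⁻¹ * x * g := by
    intro x
    have h1 : ((c.subgroupMap H (e x) : H.map c.toMonoidHom) : G) = c ((e x : H) : G) :=
      MulEquiv.coe_subgroupMap_apply c H (e x)
    have h2 : c.subgroupMap H (e x) = x := (c.subgroupMap H).apply_symm_apply x
    rw [h2] at h1
    rw [h1]
    show _ = g⁻¹ * (g * ((e x : H) : G) * g⁻¹) * g
    group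
  have hχ' := S.cnj H (H.map c.toMonoidHom) e g he χ hχ
  have hNH' : N ≤ H.map c.toMonoidHom := by
    intro n hn
    refine ⟨g⁻¹ * n * g, hNH ?_, ?_⟩
    · have := hN.conj_mem n hn g⁻¹
      rwa [inv_inv] at this
    · show g * (g⁻¹ * n * g) * g⁻¹ = n
      group
  have hmem : g * a * g⁻¹ ∈ H.map c.toMonoidHom := ⟨a, haH, rfl⟩
  have h1 := glueE_eq_canon S hNH' hχ' ⟨g * a * g⁻¹, hmem⟩
  have h2 := glueE_eq_canon S hNH hχ ⟨a, haH⟩
  rw [show glueE N Can (g * a * g⁻¹) = _ from h1, show glueE N Can a = _ from h2]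
  congr 1
  apply Subtype.ext
  rw [he]
  show g⁻¹ * (g * a * g⁻¹) * g = a
  group

theorem canE_res_irr (S : GlueDataE N ϑ Can) {H : Subgroup G} (hNH : N ≤ H) {χ : H → ℂ}
    (hχ : Can H χ) : IsIrrCharacter (N.subgroupOf H) (fun n : N.subgroupOf H => χ n) := by
  have h1 : (fun n : N.subgroupOf H => χ n) = Helper20.thetaSub N ϑ H hNH := by
    funext x
    rw [S.can_res H χ hχ (x : H) (Subgroup.mem_subgroupOf.mp x.2), Helper20.thetaSub_apply]
  rw [h1]
  exact Helper20.irr_comp_surjective (Subgroup.subgroupOfEquivOfLe hNH).toMonoidHom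
    (Subgroup.subgroupOfEquivOfLe hNH).surjective S.irr

theorem canonE_coset_sum (S : GlueDataE N ϑ Can) [Fintype N] {H : Subgroup G}
    (hNH : N ≤ H) {χ : H → ℂ} (hχ : Can H χ) (g : G) (hg : g ∈ H) :
    ∑ n : N, glueE N Can ((n : G) * g) * conj (glueE N Can ((n : G) * g)) =
      (Nat.card N : ℂ) := by
  classical
  let _ : Fintype H := Fintype.ofFinite _
  let _ : Fintype (N.subgroupOf H) := Fintype.ofFinite _
  have hχN : IsIrrCharacter (N.subgroupOf H) (fun n : N.subgroupOf H => χ n) :=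
    canE_res_irr S hNH hχ
  have h2 := congrFun (Cfsg.Agent.S0868.eta_self (N.subgroupOf H) (S.can_irr H χ hχ) hχN) ⟨g, hg⟩
  unfold Cfsg.Agent.S0868.eta at h2
  have hcard : Nat.card (N.subgroupOf H) = Nat.card N :=
    Nat.card_congr (Subgroup.subgroupOfEquivOfLe hNH).toEquiv
  rw [hcard] at h2
  have hN0 : (Nat.card N : ℂ) ≠ 0 := by exact_mod_cast (Nat.card_pos (α := N)).ne'
  have h3 : ∑ n : N.subgroupOf H, χ ((n : H) * ⟨g, hg⟩) * conj (χ ((n : H) * ⟨g, hg⟩)) =
      (Nat.card N : ℂ) := by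
    field_simp at h2
    exact h2
  rw [← h3, ← Equiv.sum_comp (Subgroup.subgroupOfEquivOfLe hNH).toEquiv]
  apply Finset.sum_congr rfl
  intro n _
  have h4 := glueE_eq_canon S hNH hχ ((n : H) * ⟨g, hg⟩)
  have h5 : (((Subgroup.subgroupOfEquivOfLe hNH).toEquiv n : N) : G) * g =
      (((n : H) * ⟨g, hg⟩ : H) : G) := by
    show ((Subgroup.subgroupOfEquivOfLe hNH n : N) : G) * g = ((n : H) : G) * g
    rw [Subgroup.subgroupOfEquivOfLe_apply_coe]
  rw [h5, h4]

theorem glueE_coset_sum (S : GlueDataE N ϑ Can) [Fintype N] (g : G) :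
    ∑ n : N, glueE N Can ((n : G) * g) * conj (glueE N Can ((n : G) * g)) =
      (Nat.card N : ℂ) := by
  obtain ⟨χ, hχ⟩ := exists_canonE_zpowers S g
  exact canonE_coset_sum S le_sup_left hχ g (Subgroup.mem_sup_right (Subgroup.mem_zpowers g))

theorem glueE_norm (S : GlueDataE N ϑ Can) [Fintype G] :
    classInner (glueE N Can) (glueE N Can) = 1 := by
  classical
  let _ : Fintype N := Fintype.ofFinite _
  unfold classInner
  rw [Cfsg.Agent.S0868.sum_eq_avg N, Finset.sum_comm]
  rw [Finset.sum_congr rfl (fun g _ => glueE_coset_sum S g)]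
  rw [Finset.sum_const, Finset.card_univ, nsmul_eq_mul, Nat.card_eq_fintype_card,
    Nat.card_eq_fintype_card]
  have hG0 : (Fintype.card G : ℂ) ≠ 0 := by exact_mod_cast (Fintype.card_pos (α := G)).ne'
  have hN0 : (Fintype.card N : ℂ) ≠ 0 := by exact_mod_cast (Fintype.card_pos (α := N)).ne'
  field_simp

/-- the glueEd function is an irreducible character extending `ϑ` -/
theorem glueE_irr (S : GlueDataE N ϑ Can) :
    IsIrrCharacter G (glueE N Can) ∧ ∀ n : N, glueE N Can n = ϑ n := by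
  classical
  let _ : Fintype G := Fintype.ofFinite G
  refine ⟨?_, glueE_res S⟩
  have hgen : IsGeneralizedCharacter G (glueE N Can) :=
    Cfsg.Agent.S0164.result (glueE N Can) (glueE_classFunction S) (fun E p hp hE =>
      Helper35.isGenChar_of_char (glueE_res_char S E p hp hE))
  obtain ⟨ψ, hψ, h | h⟩ := Helper36.gen_norm_one hgen (glueE_norm S)
  · rw [h]; exact hψ
  · exfalso
    obtain ⟨hdpos, hd⟩ := Helper83.irr_degree S.irr
    have h1 : glueE N Can 1 = (charDegree ϑ : ℂ) := by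
      have := glueE_res S (1 : N)
      rw [show ((1 : N) : G) = 1 from rfl] at this
      rw [this, hd]
    obtain ⟨hpos, h2⟩ := Helper83.irr_degree hψ
    rw [h] at h1
    have h3 : (-ψ) 1 = -((charDegree ψ : ℕ) : ℂ) := by
      show -(ψ 1) = _
      rw [h2]
    rw [h3] at h1
    have h4 : ((charDegree ψ + charDegree ϑ : ℕ) : ℂ) = 0 := by
      push_cast
      rw [← h1]; ring
    have h5 : charDegree ψ + charDegree ϑ = 0 := by exact_mod_cast h4
    omega

end Glue

end Cfsg.Agent.Lib.Helper22.PRat
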