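import Mathlib
import Cfsg.Agent.Lib.Helper22.PRatD
import Cfsg.Agent.Lib.Helper22.PRatE

/-!
# `p`-rational extension of an invariant character of the principal block (helper22)

`main`: `p` odd, `N` normal in `G`, `θ` a `G`-invariant `p`-rational member of the principal
block of `N` of degree prime to `p`, `Q` a Sylow `p`-subgroup of `N` with `[G : N C_G(Q)]` a
power of `p`.  Then `θ` extends to a `p`-rational member of the principal block of `G`.

The extension is obtained by gluing the canonical extensions `IsCanR` to the subgroups `N ⊔ E`,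
`E` elementary (Brauer's characterization of characters); it lies in the principal block by the
local criterion `Helper84.AD.principal_of_local`, and it is `p`-rational because the canonical
extensions are unique, hence fixed by the Galois twists fixing `θ`.
-/

set_option autoImplicit false
set_option linter.style.haveILetI false
set_option linter.unusedSectionVars false

namespace Cfsg.Agent.Lib.Helper22.PRat

open Cfsg
open Cfsg.Agent.Lib
open scoped ComplexConjugate

universe u

/-- the `p`-part and the `p'`-part of an element as powers -/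
theorem exists_p_decomp {G : Type*} [Group G] [Finite G] (p : ℕ) (hp : p.Prime) (x : G) :
    ∃ c c' : ℕ, (∃ t : ℕ, (x ^ c') ^ (p ^ t) = 1) ∧ ¬ p ∣ orderOf (x ^ c) ∧
      x * (x ^ c')⁻¹ = x ^ c := by
  obtain ⟨b, s, hs, hbs⟩ := Nat.exists_eq_pow_mul_and_not_dvd (orderOf_pos x).ne' p hp.ne_one
  have hcop : Nat.Coprime (p ^ b) s :=
    Nat.Coprime.pow_left b ((Nat.Prime.coprime_iff_not_dvd hp).mpr hs)
  obtain ⟨c, hc1, hc2⟩ := Nat.chineseRemainder hcop 0 1
  obtain ⟨c', hc'1, hc'2⟩ := Nat.chineseRemainder hcop 1 0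
  obtain ⟨f, hf⟩ : p ^ b ∣ c := (Nat.modEq_zero_iff_dvd).mp hc1
  obtain ⟨f', hf'⟩ : s ∣ c' := (Nat.modEq_zero_iff_dvd).mp hc'2
  refine ⟨c, c', ⟨b, ?_⟩, ?_, ?_⟩
  · rw [← pow_mul, ← orderOf_dvd_iff_pow_eq_one, hbs, hf']
    exact ⟨f', by ring⟩
  · intro hdvd
    apply hs
    refine dvd_trans hdvd (orderOf_dvd_of_pow_eq_one ?_)
    rw [← pow_mul, ← orderOf_dvd_iff_pow_eq_one, hbs, hf]
    exact ⟨f, by ring⟩
  · have h1 : c + c' ≡ 1 [MOD orderOf x] := by
      rw [hbs]
      apply (Nat.modEq_and_modEq_iff_modEq_mul hcop).mp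
      constructor
      · have h := hc1.add hc'1
        simpa using h
      · have h := hc2.add hc'2
        simpa using h
    have h2 : x ^ (c + c') = x ^ 1 := pow_eq_pow_iff_modEq.mpr h1
    rw [pow_add, pow_one] at h2
    rw [mul_inv_eq_iff_eq_mul]
    exact h2.symm

section Main

variable {G : Type u} [Group G] [Finite G]

theorem main (p : ℕ) [hp : Fact p.Prime] (hp2 : p ≠ 2) (M : Ideal AlgInt)
    (hM : IsPModular p M) (N : Subgroup G) [hN : N.Normal] (θ : IrrCharacter N)
    (hinv : ∀ g : G, ∀ n n' : N, (n' : G) = g * (n : G) * g⁻¹ →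
      (θ : N → ℂ) n' = (θ : N → ℂ) n)
    (hdeg : ¬ p ∣ charDegree (θ : N → ℂ))
    (hrat : ∃ m : ℕ, ¬ p ∣ m ∧ ∀ n : N, (θ : N → ℂ) n ∈
      IntermediateField.adjoin ℚ ({Complex.exp (2 * Real.pi * Complex.I / m)} : Set ℂ))
    (hB : θ ∈ principalBlock M N) (Q : Sylow p N)
    (hidx : ∃ a : ℕ, (N ⊔ Subgroup.centralizer
      (((Q : Subgroup N).map N.subtype : Subgroup G) : Set G)).index = p ^ a) :
    ∃ χ : IrrCharacter G, χ ∈ principalBlock M G ∧
      (∃ n : ℕ, ¬ p ∣ n ∧ ∀ g : G, (χ : G → ℂ) g ∈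
        IntermediateField.adjoin ℚ ({Complex.exp (2 * Real.pi * Complex.I / n)} : Set ℂ)) ∧
      ∀ n : N, (χ : G → ℂ) n = (θ : N → ℂ) n := by
  classical
  have hpP : p.Prime := hp.out
  obtain ⟨m, hmp, hmrat⟩ := hrat
  have hmpos : 0 < m := Nat.pos_of_ne_zero (fun h => hmp (h ▸ dvd_zero p))
  obtain ⟨a, ha⟩ := hidx
  have hTn := normal_sup_centralizer N Q
  have S : RSetup p M N θ Q m :=
    { hM := hM
      inv := hinv
      deg := hdeg
      mem := hB
      le := fun J hNJ hidxJ => le_of_index_pow N _ J le_sup_left a ha hNJ hidxJ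
      mpos := hmpos
      mp := hmp
      tw := by
        intro k hk hk1 n
        obtain ⟨d, ρ, -, hρ⟩ := θ.2
        rw [← hρ]
        apply character_pow_eq_of_mem_adjoin ρ n m k hmpos ?_ hk1
        · rw [hρ]; exact hmrat n
        · exact Nat.Coprime.coprime_dvd_right
            (Nat.mul_dvd_mul_right (Subgroup.card_subgroup_dvd_card N) m) hk }
  have GD : GlueDataE N (θ : N → ℂ) (IsCanR p M N (θ : N → ℂ)) :=
    { irr := θ.2
      can_irr := fun H χ h => h.1
      can_res := fun H χ h => h.2.1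
      uniq := fun H hNH χ₁ χ₂ h₁ h₂ => isCanR_unique S hNH h₁ h₂
      ex := fun E q hq hE => isCanR_exists S hp2 E q hq hE
      res := fun K H hNK hKH χ h => isCanR_res hNK hKH h
      cnj := fun H H' e g he χ h => isCanR_conj hinv e g he h }
  obtain ⟨hirr, hres⟩ := glueE_irr GD
  obtain ⟨χ, hχdef⟩ : ∃ χ : G → ℂ, χ = glueE N (IsCanR p M N (θ : N → ℂ)) := ⟨_, rfl⟩
  rw [← hχdef] at hirr hres
  have hglue : ∀ {H : Subgroup G} (hNH : N ≤ H) {ψ : H → ℂ}
      (hψ : IsCanR p M N (θ : N → ℂ) H ψ) (y : H), χ y = ψ y := by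
    intro H hNH ψ hψ y
    rw [hχdef]
    exact glueE_eq_canon GD hNH hψ y
  refine ⟨⟨χ, hirr⟩, ?_, ?_, hres⟩
  · -- principal block
    obtain ⟨χtop, hχtop⟩ : ∃ χtop : IrrCharacter (⊤ : Subgroup G),
        χtop = Helper82.irrComp Subgroup.topEquiv ⟨χ, hirr⟩ := ⟨_, rfl⟩
    have hχtopv : ∀ x : (⊤ : Subgroup G), (χtop : (⊤ : Subgroup G) → ℂ) x = χ (x : G) := by
      intro x
      rw [hχtop]
      rfl
    have hmem : χtop ∈ principalBlock M (⊤ : Subgroup G) := by
      apply Helper84.AD.principal_of_local hM (⊤ : Subgroup G) χtop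
      intro x
      obtain ⟨c, c', ⟨t, ht⟩, hreg, hxc⟩ := exists_p_decomp p hpP (x : G)
      obtain ⟨y, hy⟩ : ∃ y : G, y = (x : G) ^ c := ⟨_, rfl⟩
      rw [← hy] at hreg hxc
      obtain ⟨K, hK⟩ : ∃ K : Subgroup G, K = N ⊔ Subgroup.zpowers y := ⟨_, rfl⟩
      have hNK : N ≤ K := hK ▸ le_sup_left
      refine ⟨K, le_top, ?_, ⟨(x : G) ^ c', Subgroup.mem_top _, ?_, ⟨t, ht⟩, ?_⟩, ?_⟩
      · intro g _ hgx k hk
        have h1 : k ∈ ((N ⊔ Subgroup.zpowers y : Subgroup G) : Set G) := hK ▸ hk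
        rw [Subgroup.normal_mul] at h1
        obtain ⟨n, hn, z, hz, hnz⟩ := Set.mem_mul.mp h1
        have hgy : g * y = y * g := by
          rw [hy]
          exact ((Commute.pow_right (show Commute g (x : G) from hgx) c)).eq
        have hgz : g * z * g⁻¹ = z := by
          obtain ⟨i, rfl⟩ := Subgroup.mem_zpowers_iff.mp hz
          have h2 : Commute g (y ^ i) := Commute.zpow_right (show Commute g y from hgy) i
          rw [h2.eq, mul_inv_cancel_right]
        have h3 : g * k * g⁻¹ = (g * n * g⁻¹) * (g * z * g⁻¹) := by rw [← hnz]; group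
        rw [h3, hgz, hK]
        exact Subgroup.mul_mem_sup (hN.conj_mem n hn g) hz
      · exact ((Commute.pow_left (Commute.refl (x : G)) c')).eq
      · rw [hxc, hK]
        exact Subgroup.mem_sup_right (Subgroup.mem_zpowers y)
      · obtain ⟨ψ, hψ⟩ : ∃ ψ : K → ℂ, IsCanR p M N (θ : N → ℂ) K ψ := by
          rw [hK]; exact exists_canonE_zpowers GD y
        have hidxK : ¬ p ∣ N.relIndex K := by
          rw [hK, Subgroup.relIndex_sup_left]
          intro hdvd
          apply hreg
          have h1 : N.relIndex (Subgroup.zpowers y) ∣ Nat.card (Subgroup.zpowers y) :=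
            Subgroup.relIndex_dvd_card _ _
          rw [Nat.card_zpowers] at h1
          exact dvd_trans hdvd h1
        obtain ⟨φ, hφ, eφ⟩ := hψ.2.2.2 K le_rfl hNK hidxK
        refine ⟨φ, hφ, fun k => ?_⟩
        rw [eφ k, hχtopv]
        exact (hglue hNK hψ k).symm
    have h2 := Helper82.irrComp_mem_principal M Subgroup.topEquiv.symm χtop hmem
    have h3 : Helper82.irrComp Subgroup.topEquiv.symm χtop = (⟨χ, hirr⟩ : IrrCharacter G) := by
      rw [hχtop]
      exact Helper82.irrComp_symm Subgroup.topEquiv ⟨χ, hirr⟩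
    rw [h3] at h2
    exact h2
  · -- `p`-rationality
    obtain ⟨r, hrdef⟩ : ∃ r, r = Nat.card G / p ^ (Nat.card G).factorization p := ⟨_, rfl⟩
    obtain ⟨a', ha'⟩ : ∃ a', a' = (Nat.card G).factorization p := ⟨_, rfl⟩
    have hcard : p ^ a' * r = Nat.card G := by
      rw [ha', hrdef]
      exact Nat.ordProj_mul_ordCompl_eq_self (Nat.card G) p
    have hpr : ¬ p ∣ r := by
      rw [hrdef]
      exact Nat.not_dvd_ordCompl hpP Nat.card_pos.ne'
    have hrpos : 0 < r := Nat.pos_of_ne_zero (fun h => hpr (h ▸ dvd_zero p))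
    have hpn : ¬ p ∣ r * m := by
      intro hdvd
      rcases (Nat.Prime.dvd_mul hpP).mp hdvd with h | h
      · exact hpr h
      · exact hmp h
    refine ⟨r * m, hpn, fun g => ?_⟩
    obtain ⟨d, ρ, -, hρ⟩ := hirr
    have hLeq : p ^ a' * (r * m) = Nat.card G * m := by rw [← hcard]; ring
    have key := mem_adjoin_of_pow_invariant ρ g p a' (r * m) hpP (Nat.mul_pos hrpos hmpos) hpn
      (by rw [hLeq, pow_mul, pow_card_eq_one', one_pow]) ?_
    · rw [hρ] at key
      exact key
    · intro k hk hk1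
      rw [hLeq] at hk
      have hkG : Nat.Coprime k (Nat.card G) :=
        Nat.Coprime.coprime_dvd_right (Dvd.intro _ rfl) hk
      have hk1m : k ≡ 1 [MOD m] := hk1.of_dvd (Dvd.intro_left _ rfl)
      have hθk := S.tw k hk hk1m
      obtain ⟨ψ, hψ⟩ := exists_canonE_zpowers GD g
      have hψ' := isCanR_twist k hkG hθk hψ
      have heq := isCanR_unique S le_sup_left hψ' hψ
      have hgm : g ∈ N ⊔ Subgroup.zpowers g := Subgroup.mem_sup_right (Subgroup.mem_zpowers g)
      have h1 := hglue le_sup_left hψ ⟨g, hgm⟩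
      have h2 := hglue le_sup_left hψ ((⟨g, hgm⟩ : (N ⊔ Subgroup.zpowers g : Subgroup G)) ^ k)
      have h3 := congrFun heq ⟨g, hgm⟩
      rw [hρ]
      rw [show χ g = _ from h1, ← h3]
      exact h2

end Main

end Cfsg.Agent.Lib.Helper22.PRat
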