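import Mathlib
import Cfsg.Agent.Lib.Helper22.BFDefs
import Cfsg.Agent.Lib.Helper82.PQ
import Cfsg.Agent.Lib.Helper83.IrrBasic
import Cfsg.Agent.Lib.Helper40.BFCASEA1
import Cfsg.Agent.Lib.Helper40.BFCASEA2
import Cfsg.Agent.Lib.Helper86.BFCASEB
import Cfsg.Agent.Lib.Helper75.BFCOSETS
import Cfsg.Agent.Lib.Helper87.BFFIDX
import Cfsg.Agent.Lib.Helper40.BFFIXA
import Cfsg.Agent.Lib.Helper35.BFFIXB
import Cfsg.Agent.Lib.Helper82.BFGAL
import Cfsg.Agent.Lib.Helper33.BFLOCASM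
import Cfsg.Agent.Lib.Helper16.BFNCL
import Cfsg.Agent.Lib.Helper87.BFNSUM
import Cfsg.Agent.Lib.Helper75.BFPAIR
import Cfsg.Agent.Lib.Helper68.BFPDEC
import Cfsg.Agent.Lib.Helper83.BFRED1
import Cfsg.Agent.Lib.Helper83.BFRED2
import Cfsg.Agent.Lib.Helper77.BFRK1B
import Cfsg.Agent.Lib.Helper68.BFS1A
import Cfsg.Agent.Lib.Helper67.BFS1B
import Cfsg.Agent.Lib.Helper63.BFS1E
import Cfsg.Agent.Lib.Helper64.BFSCONJ
import Cfsg.Agent.Lib.Helper33.BFSTRB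
import Cfsg.Agent.Lib.Helper64.BFSYL
import Cfsg.Agent.Lib.Helper31.BFTCONJ
import Cfsg.Agent.Lib.Helper85.BFTHETA
import Cfsg.Agent.Lib.Helper28.BFTRIB
import Cfsg.Agent.Lib.Helper31.BFTRIZ
import Cfsg.Agent.Lib.Helper21.BFVINV
import Cfsg.Agent.Lib.Helper67.BFZCENT

/-!
# S4503 (helper22): assembly of the pieces

`core`: a finite group `G` with `p ∥ |G|`, generated by the conjugates of an element `z` of order
`p`, having a faithful irreducible character of degree `< (p - 1) / 2`, has order `p`.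
`main`: the statement S4503.
-/

set_option autoImplicit false
set_option linter.style.haveILetI false
set_option maxHeartbeats 1600000

namespace Cfsg.Agent.Lib.Helper22.BFT

open Cfsg Cfsg.Agent.Lib.Helper22.BFD
open Cfsg.Agent.Lib.Helper40.BFT Cfsg.Agent.Lib.Helper86.BFT Cfsg.Agent.Lib.Helper75.BFT Cfsg.Agent.Lib.Helper87.BFT Cfsg.Agent.Lib.Helper35.BFT Cfsg.Agent.Lib.Helper82.BFT Cfsg.Agent.Lib.Helper33.BFT Cfsg.Agent.Lib.Helper16.BFT Cfsg.Agent.Lib.Helper68.BFT Cfsg.Agent.Lib.Helper83.BFT Cfsg.Agent.Lib.Helper77.BFT Cfsg.Agent.Lib.Helper67.BFT Cfsg.Agent.Lib.Helper63.BFT Cfsg.Agent.Lib.Helper64.BFT Cfsg.Agent.Lib.Helper31.BFT Cfsg.Agent.Lib.Helper85.BFT Cfsg.Agent.Lib.Helper28.BFT Cfsg.Agent.Lib.Helper21.BFT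
open scoped ComplexConjugate

universe u

/-! ## assembly (helper22) -/

section

variable {G : Type u} [Group G] [Fintype G]

theorem fix_cent (p : ℕ) [Fact p.Prime] (hsq : ¬ p ^ 2 ∣ Nat.card G) (z : G)
    (hz : orderOf z = p) (φ : G → ℂ) (hφ : IsCharacter G φ) (h0 : sP p z φ = 0) :
    ∑ t : ZMod p, ∑ y ∈ Kf p z, φ (z ^ t.val * y) = 0 := by
  classical
  obtain ⟨m₁, m₂, hle, h1, h2⟩ := fix_le φ hφ (Subgroup.zpowers z)
    (Subgroup.centralizer ({z} : Set G)) (by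
      rw [Subgroup.zpowers_le]
      exact Subgroup.mem_centralizer_iff.mpr (fun h hh => by rw [Set.mem_singleton_iff.mp hh]))
  obtain ⟨e1, e2⟩ := cent_sum p hsq z hz φ
  rw [e1] at h1
  rw [e2] at h2
  have h3 : (sP p z φ) = ((m₁ * Nat.card (Subgroup.zpowers z) : ℕ) : ℂ) := h1
  rw [h0] at h3
  have h4 : m₁ * Nat.card (Subgroup.zpowers z) = 0 := by exact_mod_cast h3.symm
  have h5 : m₁ = 0 := by
    rcases Nat.mul_eq_zero.mp h4 with h | h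
    · exact h
    · exact absurd h Nat.card_pos.ne'
  have h6 : m₂ = 0 := by omega
  rw [h2, h6]
  simp

theorem tri_all (p : ℕ) [Fact p.Prime] (hdiv : p ∣ Nat.card G) (hsq : ¬ p ^ 2 ∣ Nat.card G)
    (φ : IrrCharacter G) (z : G) (hz : orderOf z = p) : Tri p z φ.1 := by
  have hp : p.Prime := Fact.out
  by_cases hφ : p ∣ charDegree φ.1
  · exact tri_defect_zero p hdiv hsq φ hφ z hz
  · obtain ⟨ζ, hζ⟩ : ∃ ζ : ℂ, IsPrimitiveRoot ζ p :=
      ⟨_, Complex.isPrimitiveRoot_exp p hp.ne_zero⟩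
    obtain ⟨P, hloc⟩ := loc_exists p hdiv hsq ζ hζ
      (fun v D hD s h => vinv p ζ hζ v D hD s h)
      (fun P hP θ hθP T hT z hz hz1 => theta_dich p P hP θ hθP T hT z hz hz1) φ hφ
    obtain ⟨g, hg, hg1⟩ := syl_conj p P z hz
    have hz' : orderOf (g * z * g⁻¹) = p := by
      have := (MulAut.conj g).orderOf_eq z
      rw [MulAut.conj_apply] at this
      rw [this, hz]
    have h1 := tri_of_loc p ζ (g * z * g⁻¹) hz' (fidx p _ hz') φ.1 (hloc _ hg hg1)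
    have h2 := tri_conj p (g * z * g⁻¹) g⁻¹ hz' φ.1
      (fun x h => Cfsg.Agent.Lib.Helper83.irr_classFunction φ.2 x h) h1
    have h3 : g⁻¹ * (g * z * g⁻¹) * g⁻¹⁻¹ = z := by group
    rwa [h3] at h2

theorem str_all (p : ℕ) [Fact p.Prime] (hdiv : p ∣ Nat.card G) (hsq : ¬ p ^ 2 ∣ Nat.card G)
    (ζ : ℂ) (hζ : IsPrimitiveRoot ζ p)
    (φ : IrrCharacter G) (hφ : ¬ p ∣ charDegree φ.1) (z : G) (hz : orderOf z = p) :
    Str p ζ z φ.1 ∧ Rk1 p z φ.1 := by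
  classical
  obtain ⟨P, hloc⟩ := loc_exists p hdiv hsq ζ hζ
    (fun v D hD s h => vinv p ζ hζ v D hD s h)
    (fun P hP θ hθP T hT z hz hz1 => theta_dich p P hP θ hθP T hT z hz hz1) φ hφ
  obtain ⟨g, hg, hg1⟩ := syl_conj p P z hz
  have hz' : orderOf (g * z * g⁻¹) = p := by
    have := (MulAut.conj g).orderOf_eq z
    rw [MulAut.conj_apply] at this
    rw [this, hz]
  have hcf : ∀ x h : G, φ.1 (h * x * h⁻¹) = φ.1 x :=
    fun x h => Cfsg.Agent.Lib.Helper83.irr_classFunction φ.2 x h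
  have h3 : g⁻¹ * (g * z * g⁻¹) * g⁻¹⁻¹ = z := by group
  constructor
  · have h1 := str_of_loc p ζ hζ (g * z * g⁻¹) hz' (fidx p _ hz') φ.1 (hloc _ hg hg1)
    have h2 := str_conj p ζ (g * z * g⁻¹) g⁻¹ hz' φ.1 hcf h1
    rwa [h3] at h2
  · have h1 := rk1_of_loc p ζ (g * z * g⁻¹) hz'
      (fun κ hκ F => nsum p (g * z * g⁻¹) hz' κ hκ F) φ.1 (hloc _ hg hg1)
    have h2 := rk1_conj p (g * z * g⁻¹) g⁻¹ hz' φ.1 hcf h1
    rwa [h3] at h2

theorem core (p : ℕ) [Fact p.Prime] (hdiv : p ∣ Nat.card G) (hsq : ¬ p ^ 2 ∣ Nat.card G)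
    (z : G) (hz : orderOf z = p) (hncl : Subgroup.normalClosure ({z} : Set G) = ⊤)
    (χ : IrrCharacter G) (hfaith : ∀ g : G, χ.1 g = χ.1 1 → g = 1)
    (hdeg : 2 * charDegree χ.1 + 1 < p) : Nat.card G = p := by
  have hp : p.Prime := Fact.out
  obtain ⟨ζ, hζ⟩ : ∃ ζ : ℂ, IsPrimitiveRoot ζ p :=
    ⟨_, Complex.isPrimitiveRoot_exp p hp.ne_zero⟩
  obtain ⟨hd1, hd0⟩ := Cfsg.Agent.Lib.Helper82.irr_charDegree χ
  have hzp : z ^ p = 1 := by rw [← hz]; exact pow_orderOf_eq_one z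
  have hcf : ∀ x h : G, χ.1 (h * x * h⁻¹) = χ.1 x :=
    fun x h => Cfsg.Agent.Lib.Helper83.irr_classFunction χ.2 x h
  have hχc : IsCharacter G χ.1 := by
    obtain ⟨n, ρ, -, h⟩ := χ.2
    exact ⟨n, ρ, h⟩
  -- the structure of χ
  have hnd : ¬ p ∣ charDegree χ.1 := by
    intro h
    have := Nat.le_of_dvd (Nat.pos_of_ne_zero hd0) h
    omega
  obtain ⟨hstr, hrk⟩ := str_all p hdiv hsq ζ hζ χ hnd z hz
  obtain ⟨a, ha⟩ := pdec p ζ hζ χ.1 hχc z hzp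
  have hst := a_stable p ζ hζ z hz χ.1 hcf a ha
  obtain ⟨hfn, u₀, hu₀, hW⟩ := step1a p ζ hζ z hz χ hfaith hdeg hstr a ha hst
  rcases step1b p ζ hζ z hz χ.1 (charDegree χ.1) hd1.symm hdeg a ha hfn u₀ hu₀ hW with
    ⟨c, hc, hcz⟩ | ⟨hf, hf2, hZ1⟩
  · exact card_of_central p z hz hncl (central_of_norm χ hfaith z c hc hcz)
  · exfalso
    have htri : ∀ φ : IrrCharacter G, Tri p z φ.1 := fun φ => tri_all p hdiv hsq φ z hz
    have hpdec : ∀ φ : G → ℂ, IsCharacter G φ → ∃ a : ZMod p → ℕ, ∀ t : ZMod p,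
        φ (z ^ t.val) = ∑ u : ZMod p, (a u : ℂ) * ζ ^ (u * t).val :=
      fun φ hφ => pdec p ζ hζ φ hφ z hzp
    have hirrc : ∀ φ : IrrCharacter G, IsCharacter G φ.1 := by
      intro φ
      obtain ⟨n, ρ, -, h⟩ := φ.2
      exact ⟨n, ρ, h⟩
    have hsum0 : ∀ u : ZMod p, ∑ t : ZMod p, ζ ^ (u * t).val = if u = 0 then (p : ℂ) else 0 := by
      intro u
      have h1 : ∀ t : ZMod p, ζ ^ (u * t).val =
          (AddChar.zmodChar p hζ.pow_eq_one) (t * u) := by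
        intro t
        rw [AddChar.zmodChar_apply, mul_comm]
      rw [Finset.sum_congr rfl (fun t _ => h1 t),
        AddChar.sum_mulShift u (AddChar.zmodChar_primitive_of_primitive_root p hζ), ZMod.card]
      split_ifs <;> simp
    have hsP : ∀ φ : G → ℂ, IsCharacter G φ → ∃ m : ℕ, sP p z φ = ((p * m : ℕ) : ℂ) := by
      intro φ hφ
      obtain ⟨b, hb⟩ := hpdec φ hφ
      refine ⟨b 0, ?_⟩
      unfold sP
      rw [Finset.sum_congr rfl (fun t _ => hb t), Finset.sum_comm]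
      simp_rw [← Finset.mul_sum, hsum0]
      simp [mul_comm]
    have hpos : ∀ φ : IrrCharacter G, ∃ m : ℕ, sP p z φ.1 = (m : ℂ) := by
      intro φ
      obtain ⟨m, hm⟩ := hsP φ.1 (hirrc φ)
      exact ⟨p * m, hm⟩
    have hfix : ∀ φ : IrrCharacter G, sP p z φ.1 = 0 →
        ∑ t : ZMod p, ∑ y ∈ Kf p z, φ.1 (z ^ t.val * y) = 0 :=
      fun φ h => fix_cent p hsq z hz φ.1 (hirrc φ) h
    have hineq : ∀ φ : IrrCharacter G, φ.1 ≠ (fun _ => 1) → (∀ y ∈ Kf p z, φ.1 y = φ.1 1) →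
        ∀ m : ℕ, sP p z φ.1 = ((p * m : ℕ) : ℂ) → (p + 1) * m ≤ 2 * charDegree φ.1 :=
      fun φ h1 hK m hm => case_a_ineq p z hz hncl hf φ h1 hK (htri φ) m hm
    have hneg : ∀ a' b' : ZMod p, a' ≠ 0 → b' ≠ 0 → ¬ IsConj (z ^ a'.val) (z ^ b'.val) →
        ∃ F : ℝ, 0 < F ∧
          ∑ y ∈ Kf p z, χ.1 (z ^ a'.val * y) * conj (χ.1 (z ^ b'.val * y)) = -(F : ℂ) := by
      intro a' b' ha' hb' hnc
      obtain ⟨Ξ, hΞ, hΞv⟩ := gal_prod p hdiv hsq z hz χ a' b' ha' hb'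
      rcases pair_step p z hz χ htri hpos hfix Ξ hΞ a' b' hΞv (hZ1 a' b' ha' hb' hnc) with
        ⟨ψ, hψ⟩ | h
      · exact (case_a_sum p ζ hζ z hz hf hf2 hpdec hineq ψ hψ).elim
      · exact h
    obtain ⟨a₁, b₁, c₁, ha₁, hb₁, hc₁, hab, hbc, hac⟩ := three_classes p z hz hf
    exact case_b p z hz χ.1 hrk a₁ b₁ c₁ ha₁ hb₁ hc₁ hab hbc hac hneg

end

theorem main {G : Type u} [Group G] [Finite G] (p : ℕ) (hp : p.Prime) (hdiv : p ∣ Nat.card G)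
    (hsq : ¬ p ^ 2 ∣ Nat.card G) (hnn : ∀ H : Subgroup G, H.Normal → Nat.card H ≠ p)
    (χ : G → ℂ) (hχ : Cfsg.IsCharacter G χ) (hfaith : ∀ g : G, χ g = χ 1 → g = 1) :
    p ≤ 2 * Cfsg.charDegree χ + 1 := by
  refine red_ind p hp (fun H _ _ hd hs z hz hncl χ hχ hf hdeg =>
    red_top p hp (fun H' _ _ hd' hs' z' hz' hncl' χ' hf' hdeg' => ?_) H hd hs z hz hncl χ hχ hf hdeg)
    G hdiv hsq hnn χ hχ hfaith
  letI : Fintype H' := Fintype.ofFinite H'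
  haveI : Fact p.Prime := ⟨hp⟩
  exact core p hd' hs' z' hz' hncl' χ' hf' hdeg'

end Cfsg.Agent.Lib.Helper22.BFT
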