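import Mathlib
import Cfsg.Agent.Lib.Helper22.HPDefs
import Cfsg.Agent.Lib.Helper22.BFMain

/-!
# S4504 (helper22): the piece TYPES (`hp_types`), from `tri_all` of S4503
-/

set_option autoImplicit false
set_option linter.style.haveILetI false

namespace Cfsg.Agent.Lib.Helper22.HPT

open Cfsg Cfsg.Agent.Lib.Helper22.BFD Cfsg.Agent.Lib.Helper22.HPD
open scoped ComplexConjugate

universe u

/-- PIECE TYPES (the five types of an irreducible character; from `tri_all` of S4503) -/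
theorem hp_types {G : Type u} [Group G] [Fintype G] (p : ℕ) [Fact p.Prime]
    (hdiv : p ∣ Nat.card G) (hsq : ¬ p ^ 2 ∣ Nat.card G) (z : G) (hz : orderOf z = p)
    (φ : IrrCharacter G) :
    (∀ t : ZMod p, t ≠ 0 → ∑ y ∈ Kf p z, φ.1 (z ^ t.val * y) = 0) ∨
    ((∀ t : ZMod p, t ≠ 0 → ∀ y ∈ Kf p z, φ.1 (z ^ t.val * y) = 1) ∧
      ∃ m : ℕ, 1 ≤ m ∧ charDegree φ.1 + (p - 1) = p * m) ∨
    ((∀ t : ZMod p, t ≠ 0 → ∀ y ∈ Kf p z, φ.1 (z ^ t.val * y) = -1) ∧
      ∃ m : ℕ, charDegree φ.1 = p * m + (p - 1)) ∨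
    ((∀ t : ZMod p, t ≠ 0 → ∀ y ∈ Kf p z, φ.1 (z ^ t.val * y) = φ.1 (z ^ t.val)) ∧
      ∃ m : ℕ, 1 ≤ m ∧ charDegree φ.1 + (Ef p z).card = p * m ∧
        ∑ t ∈ Finset.univ.filter (fun t : ZMod p => t ≠ 0), φ.1 (z ^ t.val) =
          ((Ef p z).card : ℂ)) ∨
    ((∀ t : ZMod p, t ≠ 0 → ∀ y ∈ Kf p z, φ.1 (z ^ t.val * y) = φ.1 (z ^ t.val)) ∧
      ∃ m : ℕ, charDegree φ.1 = p * m + (Ef p z).card ∧
        ∑ t ∈ Finset.univ.filter (fun t : ZMod p => t ≠ 0), φ.1 (z ^ t.val) =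
          -((Ef p z).card : ℂ)) := by
  classical
  have hp : p.Prime := Fact.out
  have hzp : z ^ p = 1 := by rw [← hz]; exact pow_orderOf_eq_one z
  obtain ⟨ζ, hζ⟩ : ∃ ζ : ℂ, IsPrimitiveRoot ζ p :=
    ⟨_, Complex.isPrimitiveRoot_exp p hp.ne_zero⟩
  have hirrc : IsCharacter G φ.1 := by
    obtain ⟨n, ρ, -, h⟩ := φ.2
    exact ⟨n, ρ, h⟩
  obtain ⟨hd1, hd0⟩ := Cfsg.Agent.Lib.Helper82.irr_charDegree φ
  -- sP φ = p m
  have hsum0 : ∀ u : ZMod p, ∑ t : ZMod p, ζ ^ (u * t).val = if u = 0 then (p : ℂ) else 0 := by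
    intro u
    have h1 : ∀ t : ZMod p, ζ ^ (u * t).val =
        (AddChar.zmodChar p hζ.pow_eq_one) (t * u) := by
      intro t
      rw [AddChar.zmodChar_apply, mul_comm]
    rw [Finset.sum_congr rfl (fun t _ => h1 t),
      AddChar.sum_mulShift u (AddChar.zmodChar_primitive_of_primitive_root p hζ), ZMod.card]
    split_ifs <;> simp
  obtain ⟨m, hm⟩ : ∃ m : ℕ, sP p z φ.1 = ((p * m : ℕ) : ℂ) := by
    obtain ⟨b, hb⟩ := Cfsg.Agent.Lib.Helper68.BFT.pdec p ζ hζ φ.1 hirrc z hzp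
    refine ⟨b 0, ?_⟩
    unfold sP
    rw [Finset.sum_congr rfl (fun t _ => hb t), Finset.sum_comm]
    simp_rw [← Finset.mul_sum, hsum0]
    simp [mul_comm]
  -- sP φ = φ 1 + ∑_{t ≠ 0} φ (z ^ t)
  have hsplit : sP p z φ.1 = (charDegree φ.1 : ℂ) +
      ∑ t ∈ Finset.univ.filter (fun t : ZMod p => t ≠ 0), φ.1 (z ^ t.val) := by
    unfold sP
    rw [Finset.filter_ne',
      ← Finset.add_sum_erase _ (fun t : ZMod p => φ.1 (z ^ t.val)) (Finset.mem_univ 0)]
    simp only [ZMod.val_zero, pow_zero]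
    rw [hd1]
  have hone : (1 : G) ∈ Kf p z := by
    unfold Kf
    simp only [Finset.mem_filter, Finset.mem_univ, true_and, one_mul, mul_one, orderOf_one,
      Nat.dvd_one]
    exact hp.one_lt.ne'
  have hcardne : ((Finset.univ.filter (fun t : ZMod p => t ≠ 0)).card : ℂ) = ((p - 1 : ℕ) : ℂ) := by
    rw [Finset.filter_ne', Finset.card_erase_of_mem (Finset.mem_univ _), Finset.card_univ,
      ZMod.card]
  have hp1 : 1 ≤ p := hp.one_lt.le
  rcases Cfsg.Agent.Lib.Helper22.BFT.tri_all p hdiv hsq φ z hz with h | ⟨ε, hε, h⟩ | ⟨h, hs⟩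
  · exact Or.inl h
  · have hval : ∀ t : ZMod p, t ≠ 0 → φ.1 (z ^ t.val) = ε := by
      intro t ht
      have := h t ht 1 hone
      rwa [mul_one] at this
    have hsum : ∑ t ∈ Finset.univ.filter (fun t : ZMod p => t ≠ 0), φ.1 (z ^ t.val) =
        ((p - 1 : ℕ) : ℂ) * ε := by
      rw [Finset.sum_congr rfl (fun t ht => hval t (Finset.mem_filter.mp ht).2),
        Finset.sum_const, nsmul_eq_mul, hcardne]
    rw [hsplit, hsum] at hm
    rcases hε with rfl | rfl
    · right; left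
      refine ⟨h, m, ?_, ?_⟩
      · have h2 : charDegree φ.1 + (p - 1) = p * m := by
          have : ((charDegree φ.1 + (p - 1) : ℕ) : ℂ) = ((p * m : ℕ) : ℂ) := by
            rw [← hm]; push_cast; ring
          exact_mod_cast this
        rcases Nat.eq_zero_or_pos m with h0 | h0
        · rw [h0] at h2; omega
        · exact h0
      · have : ((charDegree φ.1 + (p - 1) : ℕ) : ℂ) = ((p * m : ℕ) : ℂ) := by
          rw [← hm]; push_cast; ring
        exact_mod_cast this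
    · right; right; left
      refine ⟨h, m, ?_⟩
      have : ((charDegree φ.1 : ℕ) : ℂ) = ((p * m + (p - 1) : ℕ) : ℂ) := by
        have h3 : ((p * m + (p - 1) : ℕ) : ℂ) = ((p * m : ℕ) : ℂ) + ((p - 1 : ℕ) : ℂ) := by
          push_cast; ring
        rw [h3, ← hm]; ring
      exact_mod_cast this
  · rcases hs with hs | hs
    · right; right; right; left
      rw [hsplit, hd1] at hs
      have hsum : ∑ t ∈ Finset.univ.filter (fun t : ZMod p => t ≠ 0), φ.1 (z ^ t.val) =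
          ((Ef p z).card : ℂ) := add_left_cancel hs
      rw [hsplit, hsum] at hm
      have h2 : charDegree φ.1 + (Ef p z).card = p * m := by
        have : ((charDegree φ.1 + (Ef p z).card : ℕ) : ℂ) = ((p * m : ℕ) : ℂ) := by
          rw [← hm]; push_cast; ring
        exact_mod_cast this
      refine ⟨h, m, ?_, h2, hsum⟩
      rcases Nat.eq_zero_or_pos m with h0 | h0
      · rw [h0] at h2; omega
      · exact h0
    · right; right; right; right
      rw [hsplit, hd1] at hs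
      have hsum : ∑ t ∈ Finset.univ.filter (fun t : ZMod p => t ≠ 0), φ.1 (z ^ t.val) =
          -((Ef p z).card : ℂ) := by
        linear_combination hs
      rw [hsplit, hsum] at hm
      refine ⟨h, m, ?_, hsum⟩
      have : ((charDegree φ.1 : ℕ) : ℂ) = ((p * m + (Ef p z).card : ℕ) : ℂ) := by
        have h3 : ((p * m + (Ef p z).card : ℕ) : ℂ) = ((p * m : ℕ) : ℂ) + ((Ef p z).card : ℂ) := by
          push_cast; ring
        rw [h3, ← hm]; ring
      exact_mod_cast this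

end Cfsg.Agent.Lib.Helper22.HPT
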