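import Cfsg.Agent.Lib.Helper22.TA2
import Cfsg.Agent.Lib.Helper82.CharCore

/-!
# Thompson lattice argument: bridge from characters to the abstract lattice theorem
-/

set_option autoImplicit false

namespace Cfsg.Agent.Lib.Helper22.TH

open Cfsg Cfsg.Agent.Lib.Helper22.TA Cfsg.Agent.Lib.Helper22.TB Cfsg.Agent.Lib.Helper22.TAP
open Cfsg.Agent.Lib.Helper80 (galConj galConj_apply)

variable {G : Type*} [Group G] [Fintype G]

/-- the trace of `lrep c g` as a complex number -/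
theorem trace_cast (S : Finset (IrrCharacter G)) (c : G → ℤ)
    (hc : ∀ g, (c g : ℂ) = ∑ ψ ∈ S, (ψ : G → ℂ) 1 * (ψ : G → ℂ) g⁻¹) (g : G) :
    ((LinearMap.trace ℤ ↥(latt c) (lrep c g) : ℤ) : ℂ) =
      ∑ ψ ∈ S, (ψ : G → ℂ) 1 * (ψ : G → ℂ) g := by
  rw [latt_trace S c hc g, hc g⁻¹, inv_inv]

theorem bridge_H3 (p : ℕ) [Fact p.Prime] (z : G) (hz : orderOf z = p) (χ : IrrCharacter G)
    (hstar : ∀ t : ℕ, ¬ p ∣ t → ∀ y : G, y * z = z * y → ¬ p ∣ orderOf y →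
      (χ : G → ℂ) (z ^ t * y) = (χ : G → ℂ) (z ^ t))
    (S : Finset (IrrCharacter G)) (c : G → ℤ)
    (hc : ∀ g, (c g : ℂ) = ∑ ψ ∈ S, (ψ : G → ℂ) 1 * (ψ : G → ℂ) g⁻¹)
    (hS : ∀ ψ ∈ S, ∃ (k : ℕ) (hk : Nat.Coprime k (Nat.card G)), ψ = galConj k hk χ)
    (t : ℕ) (ht : t ∈ Finset.Ico 1 p) (y : G) (hy : y * z = z * y) (hyp : ¬ p ∣ orderOf y) :
    LinearMap.trace ℤ ↥(latt c) (lrep c (z ^ t * y)) =
      LinearMap.trace ℤ ↥(latt c) (lrep c (z ^ t)) := by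
  have hp := (Fact.out : p.Prime)
  apply Int.cast_injective (α := ℂ)
  rw [trace_cast S c hc, trace_cast S c hc]
  apply Finset.sum_congr rfl
  intro ψ hψ
  obtain ⟨k, hk, rfl⟩ := hS ψ hψ
  congr 1
  rw [galConj_apply, galConj_apply]
  have hpk : ¬ p ∣ k := by
    intro h
    have h1 : p ∣ Nat.card G := hz ▸ orderOf_dvd_natCard z
    have := Nat.dvd_gcd h h1
    rw [hk] at this
    exact hp.one_lt.ne' (Nat.dvd_one.1 this)
  have hcz : Commute (z ^ t) y := ((show Commute y z from hy).symm.pow_left t)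
  rw [hcz.mul_pow, ← pow_mul]
  apply hstar (t * k)
  · rw [Finset.mem_Ico] at ht
    intro h
    rcases (Nat.Prime.dvd_mul hp).1 h with h | h
    · exact absurd (Nat.le_of_dvd (by omega) h) (by omega)
    · exact hpk h
  · exact ((show Commute y z from hy).pow_left k).eq
  · intro h; exact hyp (h.trans (orderOf_pow_dvd k))

omit [Fintype G] in
theorem sum_pow_mul_eq (p : ℕ) [Fact p.Prime] (z : G) (hz : orderOf z = p) (F : G → ℂ) (k : ℕ)
    (hk : ¬ p ∣ k) :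
    ∑ t ∈ Finset.Ico 1 p, F (z ^ (t * k)) = ∑ t ∈ Finset.Ico 1 p, F (z ^ t) := by
  have hp := (Fact.out : p.Prime)
  have hmap : ∀ t ∈ Finset.Ico 1 p, t * k % p ∈ Finset.Ico 1 p := by
    intro t ht
    rw [Finset.mem_Ico] at ht ⊢
    refine ⟨?_, Nat.mod_lt _ hp.pos⟩
    by_contra h
    have h0 : t * k % p = 0 := by omega
    have := Nat.dvd_of_mod_eq_zero h0
    rcases (Nat.Prime.dvd_mul hp).1 this with h | h
    · exact absurd (Nat.le_of_dvd (by omega) h) (by omega)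
    · exact hk h
  have hinj : Set.InjOn (fun t => t * k % p) (Finset.Ico 1 p : Set ℕ) := by
    intro t ht t' ht' h
    simp only [Finset.coe_Ico, Set.mem_Ico] at ht ht'
    have h1 : t * k ≡ t' * k [MOD p] := h
    have h2 : t ≡ t' [MOD p] :=
      Nat.ModEq.cancel_right_of_coprime ((Nat.Prime.coprime_iff_not_dvd hp).2 hk) h1
    have h3 : t % p = t' % p := h2
    rwa [Nat.mod_eq_of_lt ht.2, Nat.mod_eq_of_lt ht'.2] at h3
  have himg : (Finset.Ico 1 p).image (fun t => t * k % p) = Finset.Ico 1 p := by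
    apply Finset.eq_of_subset_of_card_le
    · intro u hu
      obtain ⟨t, ht, rfl⟩ := Finset.mem_image.1 hu
      exact hmap t ht
    · rw [Finset.card_image_of_injOn hinj]
  calc ∑ t ∈ Finset.Ico 1 p, F (z ^ (t * k))
      = ∑ t ∈ Finset.Ico 1 p, F (z ^ (t * k % p)) := by
        apply Finset.sum_congr rfl; intro t _; rw [← hz, pow_mod_orderOf]
    _ = ∑ u ∈ (Finset.Ico 1 p).image (fun t => t * k % p), F (z ^ u) :=
        (Finset.sum_image (f := fun u => F (z ^ u)) hinj).symm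
    _ = _ := by rw [himg]

theorem weight_sum {A : Type*} [AddCommGroup A] [DecidableEq G] (p : ℕ) (z : G) (F : G → A) :
    ∑ g, (∑ t ∈ Finset.Ico 1 p, ∑ h : G, if h * z ^ t * h⁻¹ = g then (1 : ℤ) else 0) • F g =
      ∑ t ∈ Finset.Ico 1 p, ∑ h : G, F (h * z ^ t * h⁻¹) := by
  simp only [Finset.sum_smul]
  rw [Finset.sum_comm]
  apply Finset.sum_congr rfl
  intro t _
  rw [Finset.sum_comm]
  apply Finset.sum_congr rfl
  intro h _
  simp [ite_smul]

theorem trace_conj_comm (c : G → ℤ) (lam : ↥(latt c) →ₗ[ℤ] ↥(latt c))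
    (hcomm : ∀ g, lam ∘ₗ lrep c g = lrep c g ∘ₗ lam) (h x : G) :
    LinearMap.trace ℤ ↥(latt c) (lrep c (h * x * h⁻¹) * lam) =
      LinearMap.trace ℤ ↥(latt c) (lrep c x * lam) := by
  have h1 : lam * lrep c h⁻¹ = lrep c h⁻¹ * lam := hcomm h⁻¹
  have h2 : lrep c (h * x * h⁻¹) * lam = lrep c h * (lrep c x * lam * lrep c h⁻¹) := by
    rw [map_mul, map_mul, mul_assoc, mul_assoc, mul_assoc, ← h1]
  rw [h2, LinearMap.trace_mul_comm, mul_assoc, ← map_mul, inv_mul_cancel, map_one, mul_one]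

theorem bridge_H1 (p : ℕ) [Fact p.Prime] (z : G) (S : Finset (IrrCharacter G)) (c : G → ℤ)
    (hc : ∀ g, (c g : ℂ) = ∑ ψ ∈ S, (ψ : G → ℂ) 1 * (ψ : G → ℂ) g⁻¹)
    (d : ℕ) (hd : ∀ ψ ∈ S, (ψ : G → ℂ) 1 = (d : ℂ)) (s : ℤ)
    (hs : ∀ ψ ∈ S, ∑ t ∈ Finset.Ico 1 p, (ψ : G → ℂ) (z ^ t) = (s : ℂ))
    (lam : ↥(latt c) →ₗ[ℤ] ↥(latt c)) (hcomm : ∀ g, lam ∘ₗ lrep c g = lrep c g ∘ₗ lam) :
    (d : ℤ) * ∑ t ∈ Finset.Ico 1 p, LinearMap.trace ℤ ↥(latt c) ((lrep c z ^ t) ∘ₗ lam) =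
      s * LinearMap.trace ℤ ↥(latt c) lam := by
  classical
  set w : G → ℤ := fun g =>
    ∑ t ∈ Finset.Ico 1 p, ∑ h : G, if h * z ^ t * h⁻¹ = g then (1 : ℤ) else 0 with hw
  have hwc : ∀ g h : G, w (h * g * h⁻¹) = w g := by
    intro g x
    simp only [hw]
    apply Finset.sum_congr rfl
    intro t _
    refine Fintype.sum_equiv (Equiv.mulLeft x⁻¹) _ _ ?_
    intro h
    simp only [Equiv.coe_mulLeft]
    have : (h * z ^ t * h⁻¹ = x * g * x⁻¹) ↔ (x⁻¹ * h * z ^ t * (x⁻¹ * h)⁻¹ = g) := by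
      constructor
      · intro e
        calc x⁻¹ * h * z ^ t * (x⁻¹ * h)⁻¹ = x⁻¹ * (h * z ^ t * h⁻¹) * x := by group
          _ = g := by rw [e]; group
      · intro e
        rw [← e]; group
    exact if_congr this rfl rfl
  have hcard : (Nat.card G : ℤ) ≠ 0 := by exact_mod_cast Nat.card_pos.ne'
  have hs' : ∀ ψ ∈ S, ∑ g, (w g : ℂ) * (ψ : G → ℂ) g = (((Nat.card G : ℤ) * s : ℤ) : ℂ) := by
    intro ψ hψ
    have e1 : ∑ g, (w g : ℂ) * (ψ : G → ℂ) g = ∑ g, w g • (ψ : G → ℂ) g := by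
      apply Finset.sum_congr rfl; intro g _; rw [zsmul_eq_mul]
    rw [e1, hw, weight_sum p z (ψ : G → ℂ)]
    have e2 : ∀ t ∈ Finset.Ico 1 p, ∑ h : G, (ψ : G → ℂ) (h * z ^ t * h⁻¹) =
        (Nat.card G : ℂ) * (ψ : G → ℂ) (z ^ t) := by
      intro t _
      rw [Finset.sum_congr rfl
        (fun h _ => Cfsg.Agent.Lib.Helper82.irr_isClassFunction ψ (z ^ t) h),
        Finset.sum_const, Finset.card_univ, Nat.card_eq_fintype_card, nsmul_eq_mul]
    rw [Finset.sum_congr rfl e2, ← Finset.mul_sum, hs ψ hψ]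
    push_cast
    ring
  have hLC := latt_central S c hc d hd w hwc _ hs'
  rw [hw, weight_sum p z (fun g => lrep c g)] at hLC
  have h3 := congrArg (fun F : ↥(latt c) →ₗ[ℤ] ↥(latt c) => LinearMap.trace ℤ ↥(latt c) (F * lam)) hLC
  simp only [smul_mul_assoc, Finset.sum_mul, map_smul, map_sum, one_mul, smul_eq_mul] at h3
  have e3 : ∀ t ∈ Finset.Ico 1 p, ∑ h : G, LinearMap.trace ℤ ↥(latt c) (lrep c (h * z ^ t * h⁻¹) * lam) =
      (Nat.card G : ℤ) * LinearMap.trace ℤ ↥(latt c) ((lrep c z ^ t) ∘ₗ lam) := by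
    intro t _
    rw [Finset.sum_congr rfl (fun h _ => trace_conj_comm c lam hcomm h (z ^ t)),
      Finset.sum_const, Finset.card_univ, Nat.card_eq_fintype_card, nsmul_eq_mul, map_pow]
    rfl
  rw [Finset.sum_congr rfl e3, ← Finset.mul_sum] at h3
  apply mul_left_cancel₀ hcard
  linarith

open TensorProduct in
theorem bridge_H2 (p : ℕ) [Fact p.Prime] (M : Ideal AlgInt) (hM : IsPModular p M)
    (S : Finset (IrrCharacter G)) (c : G → ℤ)
    (hc : ∀ g, (c g : ℂ) = ∑ ψ ∈ S, (ψ : G → ℂ) 1 * (ψ : G → ℂ) g⁻¹)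
    (d : ℕ) (hd : ∀ ψ ∈ S, (ψ : G → ℂ) 1 = (d : ℂ))
    (k : ℕ) (hk : 1 ≤ k) (lam mu : ↥(latt c) →ₗ[ℤ] ↥(latt c))
    (hcomm : ∀ g, lam ∘ₗ lrep c g = lrep c g ∘ₗ lam)
    (hidem : lam ∘ₗ lam - lam = ((p : ℤ) ^ k) • mu) :
    ∃ t : ℕ, d * t ≤ Module.finrank ℤ ↥(latt c) ∧
      LinearMap.trace ℤ ↥(latt c) lam ≡ ((d : ℤ) * t) [ZMOD (p : ℤ) ^ k] := by
  have h1 := tr_approx_idem p k hk lam mu hidem
  have hidem' : lam ∘ₗ lam - lam = (p : ℤ) • (((p : ℤ) ^ (k - 1)) • mu) := by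
    rw [hidem, smul_smul, ← pow_succ']
    congr 2
    omega
  let ρC : Representation ℂ G (ℂ ⊗[ℤ] ↥(latt c)) :=
    MonoidHom.comp (Module.End.baseChangeHom ℤ ℂ ↥(latt c) :
      Module.End ℤ ↥(latt c) →* Module.End ℂ (ℂ ⊗[ℤ] ↥(latt c))) (lrep c)
  have hρC : ∀ g, ρC g = (lrep c g).baseChange ℂ := fun g => rfl
  have hchar : ∀ g, ρC.character g = ∑ ψ ∈ S, (ψ : G → ℂ) 1 * (ψ : G → ℂ) g := by
    intro g
    unfold Representation.character
    rw [hρC, LinearMap.trace_baseChange, ← trace_cast S c hc g]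
    rfl
  have hmult : ∀ θ : ℂ,
      d ∣ ((LinearMap.charpoly lam).map (algebraMap ℤ ℂ)).rootMultiplicity θ := by
    intro θ
    rw [← LinearMap.charpoly_baseChange, ← LinearMap.finrank_maxGenEigenspace_eq]
    apply sub_dim_dvd ρC S (fun ψ => (ψ : G → ℂ) 1) hchar d hd
    intro g v hv
    have hcm : Commute (lam.baseChange ℂ) (ρC g) := by
      show lam.baseChange ℂ * (lrep c g).baseChange ℂ = (lrep c g).baseChange ℂ * lam.baseChange ℂ
      rw [← LinearMap.baseChange_mul, ← LinearMap.baseChange_mul]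
      congr 1
      exact hcomm g
    exact Module.End.mapsTo_maxGenEigenspace_of_comm hcm θ hv
  have h2 := dvd_rank_of_rootMult p M hM lam _ hidem' d hmult
  have h3 : Module.finrank (ZMod p) (LinearMap.range (lam.baseChange (ZMod p))) ≤
      Module.finrank ℤ ↥(latt c) := by
    have := Submodule.finrank_le (LinearMap.range (lam.baseChange (ZMod p)))
    rwa [Module.finrank_baseChange] at this
  obtain ⟨t, ht⟩ := h2
  refine ⟨t, by rw [← ht]; exact h3, ?_⟩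
  rw [ht] at h1
  exact_mod_cast h1

/-- **Thompson's theorem** (character form): if `z` has order `p`, `p ^ 2 ∤ |G|`, and `χ` is an
irreducible character which is constant on the `p`-sections of the non-trivial powers of `z`,
then the integer `s = ∑_{t=1}^{p-1} χ (z ^ t)`, if non-zero, divides `p - 1`. -/
theorem thompson_char (p : ℕ) [Fact p.Prime] (M : Ideal AlgInt) (hM : IsPModular p M)
    (z : G) (hz : orderOf z = p) (hp2 : ¬ p ^ 2 ∣ Nat.card G) (χ : IrrCharacter G)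
    (hstar : ∀ t : ℕ, ¬ p ∣ t → ∀ y : G, y * z = z * y → ¬ p ∣ orderOf y →
      (χ : G → ℂ) (z ^ t * y) = (χ : G → ℂ) (z ^ t))
    (s : ℤ) (hs : (s : ℂ) = ∑ t ∈ Finset.Ico 1 p, (χ : G → ℂ) (z ^ t)) (hs0 : s ≠ 0) :
    s ∣ (p : ℤ) - 1 := by
  have hp := (Fact.out : p.Prime)
  obtain ⟨S, c, hχS, hS, hc⟩ := exists_orbit_fun χ
  obtain ⟨hd1, hd0⟩ := Cfsg.Agent.Lib.Helper82.irr_charDegree χ
  set d := charDegree (χ : G → ℂ) with hdd
  have hpG : p ∣ Nat.card G := hz ▸ orderOf_dvd_natCard z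
  have hd : ∀ ψ ∈ S, (ψ : G → ℂ) 1 = (d : ℂ) := by
    intro ψ hψ
    obtain ⟨k, hk, rfl⟩ := hS ψ hψ
    rw [galConj_apply, one_pow, hd1]
  have hsS : ∀ ψ ∈ S, ∑ t ∈ Finset.Ico 1 p, (ψ : G → ℂ) (z ^ t) = (s : ℂ) := by
    intro ψ hψ
    obtain ⟨k, hk, rfl⟩ := hS ψ hψ
    have hpk : ¬ p ∣ k := by
      intro h
      have := Nat.dvd_gcd h hpG
      rw [hk] at this
      exact hp.one_lt.ne' (Nat.dvd_one.1 this)
    rw [hs, ← sum_pow_mul_eq p z hz (χ : G → ℂ) k hpk]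
    apply Finset.sum_congr rfl
    intro t _
    rw [galConj_apply, ← pow_mul]
  have hfin : (Module.finrank ℤ ↥(latt c) : ℂ) = (S.card : ℂ) * ((d : ℂ) * (d : ℂ)) := by
    have h1 := trace_cast S c hc 1
    rw [map_one, LinearMap.trace_one] at h1
    rw [show ((Module.finrank ℤ ↥(latt c) : ℤ) : ℂ) = (Module.finrank ℤ ↥(latt c) : ℂ) from by
      push_cast; rfl] at h1
    rw [h1, Finset.sum_congr rfl (fun ψ hψ => by rw [hd ψ hψ]), Finset.sum_const, nsmul_eq_mul]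
  have hpos : 0 < Module.finrank ℤ ↥(latt c) := by
    rw [Nat.pos_iff_ne_zero]
    intro h0
    rw [h0] at hfin
    have hS0 : (S.card : ℂ) ≠ 0 := by
      have : S.card ≠ 0 := Finset.card_ne_zero.2 ⟨χ, hχS⟩
      exact_mod_cast this
    have hdc : (d : ℂ) ≠ 0 := by exact_mod_cast hd0
    exact mul_ne_zero hS0 (mul_ne_zero hdc hdc) (by simpa using hfin.symm)
  haveI : Nontrivial ↥(latt c) := Module.nontrivial_of_finrank_pos (R := ℤ) hpos
  exact thompson_abstract p z hz hp2 (lrep c) d (Nat.pos_of_ne_zero hd0) s hs0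
    (fun lam hl => bridge_H1 p z S c hc d hd s hsS lam hl)
    (fun k hk lam mu hl hidem => bridge_H2 p M hM S c hc d hd k hk lam mu hl hidem)
    (fun t ht y hy hyp => bridge_H3 p z hz χ hstar S c hc hS t ht y hy hyp)

end Cfsg.Agent.Lib.Helper22.TH
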