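import Cfsg.Agent.Lib.Helper22.TAP2
import Cfsg.Agent.Lib.Helper22.TH1

/-!
# Principal block with a Sylow subgroup of prime order: the Fourier package
-/

set_option autoImplicit false

namespace Cfsg.Agent.Lib.Helper22.DOne

open Cfsg Cfsg.Agent.Lib.Helper22.TAP
open scoped ComplexConjugate

theorem sum_zmod_val {A : Type*} [AddCommMonoid A] (p : ℕ) [NeZero p] (f : ℕ → A) :
    ∑ a : ZMod p, f a.val = ∑ j ∈ Finset.range p, f j := by
  refine Finset.sum_nbij' (fun a => a.val) (fun j => (j : ZMod p)) ?_ ?_ ?_ ?_ ?_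
  · intro a _; exact Finset.mem_range.2 (ZMod.val_lt a)
  · intro j _; exact Finset.mem_univ _
  · intro a _; exact ZMod.natCast_zmod_val a
  · intro j hj; exact ZMod.val_natCast_of_lt (Finset.mem_range.1 hj)
  · intro a _; rfl

theorem sum_zmod_ne_zero {A : Type*} [AddCommMonoid A] (p : ℕ) [Fact p.Prime] (F : ZMod p → A) :
    ∑ t ∈ Finset.Ico 1 p, F (t : ZMod p) =
      ∑ t ∈ Finset.univ.filter (fun t : ZMod p => t ≠ 0), F t := by
  have hp := (Fact.out : p.Prime)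
  refine Finset.sum_nbij' (fun t : ℕ => (t : ZMod p)) (fun t => t.val) ?_ ?_ ?_ ?_ ?_
  · intro t ht
    rw [Finset.mem_Ico] at ht
    rw [Finset.mem_filter]
    refine ⟨Finset.mem_univ _, ?_⟩
    intro h0
    have := (ZMod.natCast_eq_zero_iff t p).1 h0
    exact absurd (Nat.le_of_dvd (by omega) this) (by omega)
  · intro t ht
    rw [Finset.mem_filter] at ht
    rw [Finset.mem_Ico]
    refine ⟨?_, ZMod.val_lt t⟩
    by_contra h
    have h0 : t.val = 0 := by omega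
    exact ht.2 ((ZMod.val_eq_zero t).1 h0)
  · intro t ht
    rw [Finset.mem_Ico] at ht
    exact ZMod.val_natCast_of_lt ht.2
  · intro t _; exact ZMod.natCast_zmod_val t
  · intro t _; rfl

theorem finsum_mem_eq_sum_ite {ι : Type*} [Fintype ι] (s : Set ι) [DecidablePred (· ∈ s)]
    (f : ι → ℂ) : ∑ᶠ a ∈ s, f a = ∑ a, if a ∈ s then f a else 0 := by
  rw [finsum_mem_def, finsum_eq_sum_of_fintype]
  apply Finset.sum_congr rfl
  intro a _
  rw [Set.indicator_apply]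

section

variable {G : Type*} [Group G] [Fintype G]

omit [Fintype G] in
theorem exists_mult (p : ℕ) [Fact p.Prime] (ζ : ℂ) (hζ : IsPrimitiveRoot ζ p) (z : G)
    (hzp : z ^ p = 1) (θ : IrrCharacter G) :
    ∃ m : ℕ → ℕ, ∀ k : ℕ, (θ : G → ℂ) (z ^ k) =
      ∑ j ∈ Finset.range p, (m j : ℂ) * (ζ ^ j) ^ k := by
  obtain ⟨n, ρ, hρ, hχ⟩ := θ.2
  obtain ⟨m, hm⟩ := Cfsg.Agent.Lib.Helper80.character_pow_eq ρ z p (Fact.out : p.Prime).pos hzp ζ hζ
  exact ⟨m, fun k => by rw [← hχ]; exact hm k⟩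

theorem fourier_pack [Fintype (IrrCharacter G)] (p : ℕ) [Fact p.Prime] (M : Ideal AlgInt)
    (hM : IsPModular p M) (P : Sylow p G) (hP : Nat.card P = p)
    (z : G) (hz : z ∈ (P : Subgroup G)) (hz1 : z ≠ 1) :
    ∃ (m e : ℕ) (Θ : Fin m → IrrCharacter G → ℤ), 1 ≤ m ∧ 1 ≤ e ∧ p = 1 + e * m ∧
      (∀ i θ, θ ∉ principalBlock M G → Θ i θ = 0) ∧
      (∀ i j, ∑ θ, Θ i θ * Θ j θ = (if i = j then 1 else 0) + (e : ℤ)) ∧
      (∀ θ ∈ principalBlock M G, ∃ i, Θ i θ ≠ 0) ∧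
      (∀ g : G, ¬ p ∣ orderOf g → ∀ i, ∑ θ, (Θ i θ : ℂ) * (θ : G → ℂ) g = 0) ∧
      (e = (Subgroup.centralizer ((P : Subgroup G) : Set G)).relIndex
        (Subgroup.normalizer ((P : Subgroup G) : Set G))) ∧
      (∀ θ ∈ principalBlock M G, ∑ t ∈ Finset.Ico 1 p, (θ : G → ℂ) (z ^ t) =
        -((e : ℂ) * ∑ i, (Θ i θ : ℂ))) ∧
      (∀ θ ∈ principalBlock M G, (∀ i j, Θ i θ = Θ j θ) → ∀ (i : Fin m) (T : ℕ), ¬ p ∣ T →
        (θ : G → ℂ) (z ^ T) = -(Θ i θ : ℂ)) := by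
  classical
  have hp := (Fact.out : p.Prime)
  have : Fact (1 < p) := ⟨hp.one_lt⟩
  have hzo : orderOf z = p := Cfsg.Agent.Lib.Helper92.DO.cf_order p P hP z hz hz1
  have hzp : z ^ p = 1 := by rw [← hzo]; exact pow_orderOf_eq_one z
  set ζ : ℂ := Complex.exp (2 * Real.pi * Complex.I / p) with hζdef
  have hζ : IsPrimitiveRoot ζ p := Complex.isPrimitiveRoot_exp p hp.ne_zero
  choose mm hmm using fun θ : IrrCharacter G => exists_mult p ζ hζ z hzp θ
  set B0 := principalBlock M G with hB0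
  set v : ZMod p → IrrCharacter G → ℤ :=
    fun a θ => if θ ∈ B0 then (mm θ a.val : ℤ) else 0 with hv
  set D : ZMod p → IrrCharacter G → ℂ :=
    fun t θ => if θ ∈ B0 then (θ : G → ℂ) (z ^ t.val) else 0 with hDdef
  have hD : ∀ t θ, D t θ = ∑ a : ZMod p, (v a θ : ℂ) * ζ ^ (a * t).val := by
    intro t θ
    simp only [hDdef, hv]
    by_cases hθ : θ ∈ B0
    · rw [if_pos hθ, hmm θ t.val]
      simp only [if_pos hθ]
      rw [← sum_zmod_val p (fun j => (mm θ j : ℂ) * (ζ ^ j) ^ t.val)]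
      apply Finset.sum_congr rfl
      intro a _
      push_cast
      congr 1
      rw [← pow_mul, ZMod.val_mul, ← pow_eq_pow_mod _ hζ.pow_eq_one]
    · simp [hθ]
  have hval : ∀ t : ZMod p, t ≠ 0 → ¬ p ∣ t.val := by
    intro t ht h
    have := Nat.eq_zero_of_dvd_of_lt h (ZMod.val_lt t)
    exact ht ((ZMod.val_eq_zero t).1 this)
  obtain ⟨ho1, ho2, ho3⟩ := prin_orth p M hM P hP z hz hz1
  have hsumB : ∀ f : IrrCharacter G → ℂ, ∑ᶠ θ ∈ B0, f θ = ∑ θ, if θ ∈ B0 then f θ else 0 :=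
    fun f => finsum_mem_eq_sum_ite B0 f
  have hDD : ∀ t t' : ZMod p, ∑ θ, D t θ * conj (D t' θ) =
      ∑ᶠ θ ∈ B0, (θ : G → ℂ) (z ^ t.val) * conj ((θ : G → ℂ) (z ^ t'.val)) := by
    intro t t'
    rw [hsumB]
    apply Finset.sum_congr rfl
    intro θ _
    simp only [hDdef]
    by_cases hθ : θ ∈ B0
    · rw [if_pos hθ, if_pos hθ, if_pos hθ]
    · rw [if_neg hθ, if_neg hθ, if_neg hθ, zero_mul]
  have H2 : ∀ t t' : ZMod p, t ≠ 0 → t' ≠ 0 →
      D t = D t' ∨ ∑ θ, D t θ * conj (D t' θ) = 0 := by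
    intro t t' ht ht'
    by_cases hex : ∃ g : G, g * z ^ t.val * g⁻¹ = z ^ t'.val
    · left
      obtain ⟨g, hg⟩ := hex
      funext θ
      simp only [hDdef]
      by_cases hθ : θ ∈ B0
      · rw [if_pos hθ, if_pos hθ, ← hg]
        exact (Cfsg.Agent.Lib.Helper82.irr_isClassFunction θ (z ^ t.val) g).symm
      · rw [if_neg hθ, if_neg hθ]
    · right
      rw [hDD]
      exact ho1 t.val t'.val (hval t ht) (hval t' ht') hex
  have H3 : ∀ t : ZMod p, t ≠ 0 → ∑ θ, D t θ * conj (D t θ) = (p : ℂ) := by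
    intro t ht
    rw [hDD]
    exact prin_norm p M hM P hP z hz hz1 t.val (hval t ht)
  have hD1 : ∀ θ ∈ B0, D 1 θ = (θ : G → ℂ) z := by
    intro θ hθ
    simp only [hDdef]
    rw [if_pos hθ, ZMod.val_one, pow_one]
  have H4 : ∀ θ ∈ B0, D 1 θ ≠ 0 := by
    intro θ hθ
    rw [hD1 θ hθ]
    exact ho3 θ hθ
  have hsuppv : ∀ a θ, θ ∉ B0 → v a θ = 0 := by
    intro a θ hθ
    simp only [hv]
    rw [if_neg hθ]
  obtain ⟨m, e, Θ, hm, he, hpem, hsupp, hgram, hne, horth, hN1, hN2, hN3⟩ :=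
    fourier_core_ext p ζ hζ B0 v hsuppv D hD H2 H3 H4
  refine ⟨m, e, Θ, hm, he, hpem, hsupp, hgram, hne, ?_, ?_, ?_, ?_⟩
  · -- p-regular relations
    intro g hg i
    have key := (horth (fun θ => conj ((θ : G → ℂ) g⁻¹))).2 (by
      intro t ht
      have := ho2 t.val (hval t ht) g⁻¹ (by rwa [orderOf_inv])
      rw [hsumB] at this
      rw [← this]
      apply Finset.sum_congr rfl
      intro θ _
      simp only [hDdef]
      by_cases hθ : θ ∈ B0
      · rw [if_pos hθ, if_pos hθ, mul_comm]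
      · rw [if_neg hθ, if_neg hθ, mul_zero]) i
    rw [← key]
    apply Finset.sum_congr rfl
    intro θ _
    rw [Cfsg.Agent.Lib.Helper82.irr_inv, Complex.conj_conj, mul_comm]
  · -- the inertial index
    rw [← card_fusion p P hP z hz hz1, ← hN1]
    apply Nat.card_congr
    apply Equiv.subtypeEquivRight
    intro s
    constructor
    · intro hs
      by_contra hne'
      have h1 := ho1 1 (s : ZMod p).val (by
        intro h; exact hp.one_lt.ne' (Nat.dvd_one.1 h)) (hval _ (Units.ne_zero s)) (by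
        rw [pow_one]; exact hne')
      have h2 := prin_norm p M hM P hP z hz hz1 1 (by
        intro h; exact hp.one_lt.ne' (Nat.dvd_one.1 h))
      have h3 : ∑ᶠ θ ∈ B0, (θ : G → ℂ) (z ^ 1) * conj ((θ : G → ℂ) (z ^ (s : ZMod p).val)) =
          ∑ᶠ θ ∈ B0, (θ : G → ℂ) (z ^ 1) * conj ((θ : G → ℂ) (z ^ 1)) := by
        rw [hsumB, hsumB]
        apply Finset.sum_congr rfl
        intro θ _
        by_cases hθ : θ ∈ B0
        · rw [if_pos hθ, if_pos hθ]
          have h4 := congrFun hs θ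
          simp only [hDdef] at h4
          rw [if_pos hθ, if_pos hθ, ZMod.val_one] at h4
          rw [h4]
        · rw [if_neg hθ, if_neg hθ]
      rw [h3, h2] at h1
      exact hp.ne_zero (by exact_mod_cast h1)
    · rintro ⟨g, hg⟩
      funext θ
      simp only [hDdef]
      by_cases hθ : θ ∈ B0
      · rw [if_pos hθ, if_pos hθ, ZMod.val_one, pow_one, ← hg]
        exact Cfsg.Agent.Lib.Helper82.irr_isClassFunction θ z g
      · rw [if_neg hθ, if_neg hθ]
  · intro θ hθ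
    rw [← hN2 θ, ← sum_zmod_ne_zero p (fun t => D t θ)]
    apply Finset.sum_congr rfl
    intro t ht
    rw [Finset.mem_Ico] at ht
    simp only [hDdef]
    rw [if_pos hθ, ZMod.val_natCast_of_lt ht.2]
  · intro θ hθ hall i T hT
    have h1 := hN3 θ hall i (T : ZMod p) (by
      intro h0; exact hT ((ZMod.natCast_eq_zero_iff T p).1 h0))
    simp only [hDdef] at h1
    rw [if_pos hθ, ZMod.val_natCast, ← pow_eq_pow_mod _ hzp] at h1
    exact h1

end

end Cfsg.Agent.Lib.Helper22.DOne
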