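import Mathlib
import Cfsg.Agent.Lib.Helper22.HPDefs
import Cfsg.Agent.Lib.Helper22.HPDefs2
import Cfsg.Agent.Lib.Helper22.HPTYPES
import Cfsg.Agent.Lib.Helper31.HPETA
import Cfsg.Agent.Lib.Helper16.HPDEC
import Cfsg.Agent.Lib.Helper57.HPEXACT
import Cfsg.Agent.Lib.Helper83.HPKFZ
import Cfsg.Agent.Lib.Helper85.HPLAN1a
import Cfsg.Agent.Lib.Helper84.HPSTARSTAR
import Cfsg.Agent.Lib.Helper50.HPZF

/-!
# S4504 (helper22): the piece LAN2 (`hp_lan2`): the constituents of `Pi2 = χ χ̄'`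
-/

set_option autoImplicit false
set_option linter.style.haveILetI false
set_option maxHeartbeats 1600000

namespace Cfsg.Agent.Lib.Helper22.HPT

open Cfsg Cfsg.Agent.Lib.Helper22.BFD Cfsg.Agent.Lib.Helper22.HPD
open scoped ComplexConjugate

universe u

/-- PIECE LAN2: the constituents of `Pi2` -/
theorem hp_lan2 {G : Type u} [Group G] [Fintype G] (p : ℕ) [Fact p.Prime] (hp5 : 5 ≤ p)
    (hdiv : p ∣ Nat.card G) (hsq : ¬ p ^ 2 ∣ Nat.card G)
    (hnn : ∀ H : Subgroup G, H.Normal → Nat.card H ≠ p)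
    (χ : IrrCharacter G) (hfaith : ∀ g : G, χ.1 g = χ.1 1 → g = 1)
    (e : ℕ) (he : charDegree χ.1 = e) (hdeg : 2 * e + 1 = p) (z : G) (ζ : ℂ)
    (hHP : HP p ζ z χ.1) (k : ℕ) (hk : GalExp p G k) (φ : IrrCharacter G)
    (hm : classInner (Pi2 χ.1 k) φ.1 ≠ 0) :
    TrivZ φ.1 ∧ ((IsEm p z φ.1 ∧ charDegree φ.1 = p - 1) ∨
      (IsXm p ζ z k φ.1 ∧ charDegree φ.1 = e)) := by
  classical
  have hp : p.Prime := Fact.out
  have hp2 : p ≠ 2 := by omega
  haveI : Finite (IrrCharacter G) := Cfsg.Agent.Lib.Helper82.finite_irrCharacter G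
  letI : Fintype (IrrCharacter G) := Fintype.ofFinite _
  have hzp : z ^ p = 1 := by rw [← hHP.hz]; exact pow_orderOf_eq_one z
  have hk0 : (k : ZMod p) ≠ 0 := by
    intro h0
    have h2 : p ∣ k := (ZMod.natCast_eq_zero_iff k p).mp h0
    have h3 : p ∣ Nat.gcd k (Nat.card G) := Nat.dvd_gcd h2 hdiv
    rw [hk.cop] at h3
    exact hp.one_lt.ne' (Nat.dvd_one.mp h3)
  obtain ⟨hSqc, hη0, hηs, -, -, hη⟩ := Cfsg.Agent.Lib.Helper31.HPT.eta_facts p hp2 ζ hHP.hζ
  obtain ⟨hηorth, hηk⟩ := hη (k : ZMod p) hk0 hk.nsq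
  have hpe : (p - 1) / 2 = e := by omega
  rw [hpe] at hη0 hSqc
  have hηs' : ∑ t : ZMod p, eta p ζ ((k : ZMod p) * t) = 0 := by
    rw [← hηs]
    exact Equiv.sum_comp (Equiv.mulLeft₀ (k : ZMod p) hk0) (fun t => eta p ζ t)
  have hkfz := Cfsg.Agent.Lib.Helper83.HPT.hp_kfz p hnn χ.1 z ζ hHP
  -- central elements are `p`-regular
  have hreg : ∀ u ∈ Subgroup.center G, u ^ k = u := by
    intro u hu
    have h1 := (hkfz u).2 hu
    unfold Kf at h1
    simp only [Finset.mem_filter, Finset.mem_univ, true_and] at h1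
    exact hk.reg u h1.2
  -- `Pi2` is invariant under the centre
  have hPi2 : ∀ u ∈ Subgroup.center G, ∀ g : G, Pi2 χ.1 k (u * g) = Pi2 χ.1 k g := by
    intro u hu g
    obtain ⟨d, hd1, -, hd⟩ := Cfsg.Agent.Lib.Helper85.HPT.lan1_central χ u hu
    unfold Pi2
    have h1 : (u * g) ^ k = u * g ^ k := by
      have hc : Commute u g := (Subgroup.mem_center_iff.mp hu g).symm
      rw [hc.mul_pow, hreg u hu]
    rw [h1, hd g, hd (g ^ k), map_mul]
    linear_combination (χ.1 g * conj (χ.1 (g ^ k))) * hd1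
  -- `φ` is trivial on the centre
  have hTZ : TrivZ φ.1 := by
    intro u hu
    obtain ⟨c, hc1, hcu, hc⟩ := Cfsg.Agent.Lib.Helper85.HPT.lan1_central φ u hu
    have hS : ∑ g : G, Pi2 χ.1 k g * conj (φ.1 g) =
        conj c * ∑ g : G, Pi2 χ.1 k g * conj (φ.1 g) := by
      conv_lhs => rw [← Equiv.sum_comp (Equiv.mulLeft u)]
      rw [Finset.mul_sum]
      refine Finset.sum_congr rfl fun g _ => ?_
      simp only [Equiv.coe_mulLeft]
      rw [hc g, hPi2 u hu g, map_mul]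
      ring
    have hS0 : ∑ g : G, Pi2 χ.1 k g * conj (φ.1 g) ≠ 0 := by
      intro h0
      apply hm
      unfold classInner
      rw [h0, mul_zero]
    have hcc : conj c = 1 := by
      have h3 : (1 - conj c) * ∑ g : G, Pi2 χ.1 k g * conj (φ.1 g) = 0 := by
        linear_combination hS
      rcases mul_eq_zero.mp h3 with h4 | h4
      · exact (sub_eq_zero.mp h4).symm
      · exact absurd h4 hS0
    have hc' : c = 1 := by
      have h5 := congrArg conj hcc
      rwa [Complex.conj_conj, map_one] at h5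
    rw [hcu, hc', one_mul]
  refine ⟨hTZ, ?_⟩
  -- the decomposition of `Pi2`
  obtain ⟨m₁, m₂, -, hi2, -, hv2, -, -, -, -⟩ :=
    Cfsg.Agent.Lib.Helper16.HPT.hp_dec p χ e he k hk
  have hm2 : m₂ φ ≠ 0 := by
    intro h0
    apply hm
    rw [hi2, h0, Nat.cast_zero]
  -- the exact values
  have hex : ∀ ψ : IrrCharacter G, ∃ γ α β : ℕ, ∀ t : ZMod p, ψ.1 (z ^ t.val) =
      (γ : ℂ) + (α : ℂ) * eta p ζ t + (β : ℂ) * eta p ζ ((k : ZMod p) * t) :=
    fun ψ => Cfsg.Agent.Lib.Helper57.HPT.hp_exact p hdiv χ.1 z ζ hHP k hk ψ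
  choose γ α β hγ using hex
  have hsPψ : ∀ ψ : IrrCharacter G, ∑ t : ZMod p, ψ.1 (z ^ t.val) = ((p * γ ψ : ℕ) : ℂ) := by
    intro ψ
    rw [Finset.sum_congr rfl (fun t _ => hγ ψ t), Finset.sum_add_distrib, Finset.sum_add_distrib,
      ← Finset.mul_sum, ← Finset.mul_sum, hηs, hηs', Finset.sum_const, Finset.card_univ,
      ZMod.card]
    simp
  have hsP2 : ∑ t : ZMod p, Pi2 χ.1 k (z ^ t.val) = 0 := by
    rw [← hηorth]
    refine Finset.sum_congr rfl fun t _ => ?_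
    unfold Pi2
    rw [Cfsg.Agent.Lib.Helper84.HPT.pow_val_mul p z hzp k t, hHP.hval, hHP.hval]
  have hsum : ∑ ψ : IrrCharacter G, m₂ ψ * (p * γ ψ) = 0 := by
    have h0 : ∑ t : ZMod p, Pi2 χ.1 k (z ^ t.val) =
        ∑ ψ : IrrCharacter G, (m₂ ψ : ℂ) * ((p : ℂ) * (γ ψ : ℂ)) := by
      calc ∑ t : ZMod p, Pi2 χ.1 k (z ^ t.val)
          = ∑ t : ZMod p, ∑ ψ : IrrCharacter G, (m₂ ψ : ℂ) * ψ.1 (z ^ t.val) :=
            Finset.sum_congr rfl (fun t _ => hv2 (z ^ t.val))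
        _ = ∑ ψ : IrrCharacter G, ∑ t : ZMod p, (m₂ ψ : ℂ) * ψ.1 (z ^ t.val) := Finset.sum_comm
        _ = ∑ ψ : IrrCharacter G, (m₂ ψ : ℂ) * ((p : ℂ) * (γ ψ : ℂ)) :=
            Finset.sum_congr rfl (fun ψ _ => by
              rw [← Finset.mul_sum, hsPψ ψ]
              push_cast
              ring)
    have h1 : ((∑ ψ : IrrCharacter G, m₂ ψ * (p * γ ψ) : ℕ) : ℂ) = 0 := by
      rw [← hsP2, h0]
      push_cast
      rfl
    exact_mod_cast h1
  have hγ0 : γ φ = 0 := by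
    have h1 := (Finset.sum_eq_zero_iff.mp hsum) φ (Finset.mem_univ _)
    rcases Nat.mul_eq_zero.mp h1 with h2 | h2
    · exact absurd h2 hm2
    · rcases Nat.mul_eq_zero.mp h2 with h3 | h3
      · exact absurd h3 hp.ne_zero
      · exact h3
  have hsPφ : ∑ t : ZMod p, φ.1 (z ^ t.val) = 0 := by
    rw [hsPψ φ, hγ0]
    simp
  obtain ⟨hd1, hd0⟩ := Cfsg.Agent.Lib.Helper82.irr_charDegree φ
  -- `∑_{t ≠ 0} φ (z ^ t) = - φ 1`
  have hsplit : ∑ t ∈ Finset.univ.filter (fun t : ZMod p => t ≠ 0), φ.1 (z ^ t.val) =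
      -(charDegree φ.1 : ℂ) := by
    have h1 : ∑ t : ZMod p, φ.1 (z ^ t.val) = φ.1 (z ^ (0 : ZMod p).val) +
        ∑ t ∈ Finset.univ.filter (fun t : ZMod p => t ≠ 0), φ.1 (z ^ t.val) := by
      rw [Finset.filter_ne']
      exact (Finset.add_sum_erase _ (fun t : ZMod p => φ.1 (z ^ t.val)) (Finset.mem_univ 0)).symm
    rw [hsPφ, ZMod.val_zero, pow_zero, ← hd1] at h1
    linear_combination -h1
  have hone : (1 : G) ∈ Kf p z := (hkfz 1).2 (Subgroup.one_mem _)
  have hcardne : ((Finset.univ.filter (fun t : ZMod p => t ≠ 0)).card : ℂ) = ((p - 1 : ℕ) : ℂ) := by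
    rw [Finset.filter_ne', Finset.card_erase_of_mem (Finset.mem_univ _), Finset.card_univ,
      ZMod.card]
  have hEf : (Ef p z).card = e := by
    rw [← hSqc]
    congr 1
    unfold Ef
    ext a
    simp only [Finset.mem_filter, Finset.mem_univ, true_and]
    exact hHP.hE a
  have hφcent : ∀ g : G, ∀ y ∈ Kf p z, φ.1 (g * y) = φ.1 g := by
    intro g y hy
    have hyc := (hkfz y).1 hy
    rw [Cfsg.Agent.Lib.Helper50.HPT.zf_tau_mul φ y hyc g, hTZ y hyc,
      div_self (Cfsg.Agent.Lib.Helper82.irr_one_ne_zero φ), one_mul]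
  rcases hp_types p hdiv hsq z hHP.hz φ with h | ⟨h, m, hm1, hmd⟩ | ⟨h, m, hmd⟩ |
      ⟨h, m, hm1, hmd, hs⟩ | ⟨h, m, hmd, hs⟩
  · -- flat type: impossible
    exfalso
    have hval : ∀ t : ZMod p, t ≠ 0 → φ.1 (z ^ t.val) = 0 := by
      intro t ht
      have h1 := h t ht
      rw [Finset.sum_congr rfl (fun y hy => hφcent (z ^ t.val) y hy), Finset.sum_const,
        nsmul_eq_mul] at h1
      rcases mul_eq_zero.mp h1 with h2 | h2
      · exfalso
        have h3 : (Kf p z).card ≠ 0 := Finset.card_ne_zero.mpr ⟨1, hone⟩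
        exact h3 (by exact_mod_cast h2)
      · exact h2
    rw [Finset.sum_eq_zero (fun t ht => hval t (Finset.mem_filter.mp ht).2)] at hsplit
    have h4 : (charDegree φ.1 : ℂ) = 0 := by linear_combination hsplit
    exact hd0 (by exact_mod_cast h4)
  · -- value 1: impossible
    exfalso
    have hval : ∀ t : ZMod p, t ≠ 0 → φ.1 (z ^ t.val) = 1 := by
      intro t ht
      have := h t ht 1 hone
      rwa [mul_one] at this
    rw [Finset.sum_congr rfl (fun t ht => hval t (Finset.mem_filter.mp ht).2), Finset.sum_const,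
      nsmul_eq_mul, mul_one, hcardne] at hsplit
    have h4 : ((p - 1 + charDegree φ.1 : ℕ) : ℂ) = 0 := by
      rw [Nat.cast_add]
      linear_combination hsplit
    have h5 : p - 1 + charDegree φ.1 = 0 := by exact_mod_cast h4
    omega
  · -- value -1
    left
    have hval : ∀ t : ZMod p, t ≠ 0 → φ.1 (z ^ t.val) = -1 := by
      intro t ht
      have := h t ht 1 hone
      rwa [mul_one] at this
    refine ⟨hval, ?_⟩
    rw [Finset.sum_congr rfl (fun t ht => hval t (Finset.mem_filter.mp ht).2), Finset.sum_const,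
      nsmul_eq_mul, hcardne] at hsplit
    have h4 : ((charDegree φ.1 : ℕ) : ℂ) = ((p - 1 : ℕ) : ℂ) := by
      linear_combination hsplit
    exact_mod_cast h4
  · -- sum `+|E|`: impossible
    exfalso
    rw [hs] at hsplit
    have h4 : (((Ef p z).card + charDegree φ.1 : ℕ) : ℂ) = 0 := by
      push_cast
      linear_combination hsplit
    have h5 : (Ef p z).card + charDegree φ.1 = 0 := by exact_mod_cast h4
    omega
  · -- sum `-|E|`
    right
    rw [hs] at hsplit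
    have h4 : ((charDegree φ.1 : ℕ) : ℂ) = (((Ef p z).card : ℕ) : ℂ) := by
      linear_combination hsplit
    have h5 : charDegree φ.1 = e := by
      rw [← hEf]
      exact_mod_cast h4
    refine ⟨?_, h5⟩
    -- `α + β = 1`
    have h6 := hγ φ 0
    rw [ZMod.val_zero, pow_zero, mul_zero, hη0, ← hd1, h5, hγ0] at h6
    have h7 : e = (α φ + β φ) * e := by
      have : ((e : ℕ) : ℂ) = (((α φ + β φ) * e : ℕ) : ℂ) := by
        push_cast
        linear_combination h6
      exact_mod_cast this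
    have he0 : 0 < e := by omega
    have h8 : α φ + β φ = 1 := by
      have : 1 * e = (α φ + β φ) * e := by rw [one_mul]; exact h7
      exact (Nat.eq_of_mul_eq_mul_right he0 this).symm
    have h9 : (α φ = 1 ∧ β φ = 0) ∨ (α φ = 0 ∧ β φ = 1) := by omega
    rcases h9 with ⟨ha, hb⟩ | ⟨ha, hb⟩
    · left
      intro t _
      rw [hγ φ t, hγ0, ha, hb]
      simp
    · right
      intro t _
      rw [hγ φ t, hγ0, ha, hb]
      simp

end Cfsg.Agent.Lib.Helper22.HPT
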