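import Mathlib
import Cfsg.Agent.Lib.Helper22.HPDefs
import Cfsg.Agent.Lib.Helper22.HPDefs2
import Cfsg.Agent.Lib.Helper83.HPSTARGLUE
import Cfsg.Agent.Lib.Helper85.HPLAN1
import Cfsg.Agent.Lib.Helper22.HPLAN2

/-!
# S4504 (helper22): the piece STAR (`hp_star`): wrapper of helper83's `hp_star_glue` with
`hp_lan1` (helper85) and `hp_lan2`
-/

set_option autoImplicit false
set_option linter.style.haveILetI false

namespace Cfsg.Agent.Lib.Helper22.HPT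

open Cfsg Cfsg.Agent.Lib.Helper22.BFD Cfsg.Agent.Lib.Helper22.HPD
open scoped ComplexConjugate

universe u

open Classical in
/-- TOP PIECE STAR (the characters trivial on the centre that do not vanish at `z`) -/
theorem hp_star {G : Type u} [Group G] [Fintype G] [Fintype (IrrCharacter G)]
    (p : ℕ) [Fact p.Prime] (hp5 : 5 ≤ p)
    (hirr : ∀ (H : Type u) [Group H] [Finite H], p ∣ Nat.card H → ¬ p ^ 2 ∣ Nat.card H →
      (∀ L : Subgroup H, L.Normal → Nat.card L ≠ p) → ∀ ψ : H → ℂ, IsCharacter H ψ →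
      (∀ g : H, ψ g = ψ 1 → g = 1) → 2 * charDegree ψ + 1 = p → IsIrrCharacter H ψ)
    (hdiv : p ∣ Nat.card G) (hsq : ¬ p ^ 2 ∣ Nat.card G)
    (hnn : ∀ H : Subgroup G, H.Normal → Nat.card H ≠ p)
    (χ : IrrCharacter G) (hfaith : ∀ g : G, χ.1 g = χ.1 1 → g = 1)
    (e : ℕ) (he : charDegree χ.1 = e) (hdeg : 2 * e + 1 = p) (z : G) (ζ : ℂ)
    (hHP : HP p ζ z χ.1) (k : ℕ) (hk : GalExp p G k) (g : G) (hg : ¬ p ∣ orderOf g) :
    ∑ φ ∈ Finset.univ.filter (fun φ : IrrCharacter G => TrivZ φ.1),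
        φ.1 z * (φ.1 z + φ.1 (z ^ k)) * conj (φ.1 g) / φ.1 1 =
      2 + (((‖χ.1 g‖ : ℝ) : ℂ) ^ 2 - 1) / ((e : ℂ) + 1) + ((‖χ.1 g‖ : ℝ) : ℂ) ^ 2 / (e : ℂ) :=
  Cfsg.Agent.Lib.Helper83.HPT.hp_star_glue p hp5 hdiv hsq hnn χ e he hdeg z ζ hHP k hk
    (fun φ h1 hm => Cfsg.Agent.Lib.Helper85.HPT.hp_lan1 p hirr hdiv hsq hnn χ hfaith e he hdeg
      z ζ hHP k hk φ h1 hm)
    (fun φ hm => hp_lan2 p hp5 hdiv hsq hnn χ hfaith e he hdeg z ζ hHP k hk φ hm) g hg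

end Cfsg.Agent.Lib.Helper22.HPT
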