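import Mathlib
import Cfsg.Agent.Lib.Helper22.HPDefs
import Cfsg.Agent.Lib.Helper83.IrrBasic
import Cfsg.Agent.Lib.Helper82.PQ
import Cfsg.Agent.Lib.Helper67.BFZCENT
import Cfsg.Agent.Lib.Helper31.HPETA
import Cfsg.Agent.Lib.Helper34.HPGAL
import Cfsg.Agent.Lib.Helper50.HPZF
import Cfsg.Agent.Lib.Helper22.HPSTAR
import Cfsg.Agent.Lib.Helper84.HPSTARSTAR
import Cfsg.Agent.Lib.Helper58.HPIRR
import Cfsg.Agent.Lib.Helper4.HPLOCAL
import Cfsg.Agent.Lib.Helper19.HPCENTRAL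
import Cfsg.Agent.Lib.Helper64.HPNORM4
import Cfsg.Agent.Lib.Helper31.HPMOMENT
import Cfsg.Agent.Lib.Helper1.HPRECOG

/-!
# S4504 (helper22): assembly of the pieces of the HP project

`hp_abs`: for a finite group `G` with `p ∥ |G|`, no normal subgroup of order `p`, and a faithful
irreducible character `χ` of degree `(p - 1) / 2` (`p ≥ 5`), every `p`-regular non-central `g` has
`‖χ g‖ ≤ 1`.  `main`: the statement S4504: `G / Z(G) ≅ PSL(2, p)`.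
-/

set_option autoImplicit false
set_option linter.style.haveILetI false
set_option maxHeartbeats 1600000

namespace Cfsg.Agent.Lib.Helper22.HPT

open Cfsg Cfsg.Agent.Lib.Helper22.BFD Cfsg.Agent.Lib.Helper22.HPD
open scoped ComplexConjugate

universe u

/-! ## assemblies (helper22) -/

theorem hp_abs {G : Type u} [Group G] [Fintype G] (p : ℕ) [Fact p.Prime] (hp5 : 5 ≤ p)
    (hirr : ∀ (H : Type u) [Group H] [Finite H], p ∣ Nat.card H → ¬ p ^ 2 ∣ Nat.card H →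
      (∀ L : Subgroup H, L.Normal → Nat.card L ≠ p) → ∀ ψ : H → ℂ, IsCharacter H ψ →
      (∀ g : H, ψ g = ψ 1 → g = 1) → 2 * charDegree ψ + 1 = p → IsIrrCharacter H ψ)
    (hdiv : p ∣ Nat.card G) (hsq : ¬ p ^ 2 ∣ Nat.card G)
    (hnn : ∀ H : Subgroup G, H.Normal → Nat.card H ≠ p)
    (χ : IrrCharacter G) (hfaith : ∀ g : G, χ.1 g = χ.1 1 → g = 1)
    (hdeg : 2 * charDegree χ.1 + 1 = p) (z : G) (ζ : ℂ) (hHP : HP p ζ z χ.1) :
    ∀ g : G, ¬ p ∣ orderOf g → g ∉ Subgroup.center G → ‖χ.1 g‖ ≤ 1 := by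
  classical
  have hp : p.Prime := Fact.out
  haveI : Finite (IrrCharacter G) := Cfsg.Agent.Lib.Helper82.finite_irrCharacter G
  letI : Fintype (IrrCharacter G) := Fintype.ofFinite _
  intro g hg hgc
  set e := charDegree χ.1 with he
  have he2 : 2 ≤ e := by omega
  obtain ⟨k, hk⟩ := Cfsg.Agent.Lib.Helper34.HPT.hp_gal (G := G) p (by omega) hdiv hsq
  obtain ⟨r₁, hA₁, hB₁⟩ := Cfsg.Agent.Lib.Helper50.HPT.hp_zf χ z z g
  obtain ⟨r₂, hA₂, hB₂⟩ := Cfsg.Agent.Lib.Helper50.HPT.hp_zf χ z (z ^ k) g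
  have hstar := Cfsg.Agent.Lib.Helper22.HPT.hp_star p hp5 hirr hdiv hsq hnn χ hfaith e rfl hdeg z ζ hHP k hk g hg
  have hss := Cfsg.Agent.Lib.Helper84.HPT.hp_starstar p hdiv hsq hnn χ hfaith e rfl hdeg z ζ hHP k hk g hg
  set x : ℝ := ‖χ.1 g‖ with hx
  have hx0 : 0 ≤ x := norm_nonneg _
  -- the sum of the two structure constants
  have h1 : ((r₁ + r₂ : ℝ) : ℂ) =
      2 + ((x : ℂ) ^ 2 - 1) / ((e : ℂ) + 1) + (x : ℂ) ^ 2 / (e : ℂ) := by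
    rw [← hstar]
    push_cast
    rw [← hA₁, ← hA₂, ← Finset.sum_add_distrib]
    refine Finset.sum_congr rfl fun φ _ => ?_
    ring
  have h1' : r₁ + r₂ = 2 + (x ^ 2 - 1) / ((e : ℝ) + 1) + x ^ 2 / (e : ℝ) := by
    have : ((r₁ + r₂ : ℝ) : ℂ) =
        ((2 + (x ^ 2 - 1) / ((e : ℝ) + 1) + x ^ 2 / (e : ℝ) : ℝ) : ℂ) := by
      rw [h1]; push_cast; ring
    exact_mod_cast this
  -- the difference
  have hks : (k : ZMod p) ≠ 0 := by
    intro h0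
    have h2 : p ∣ k := (ZMod.natCast_eq_zero_iff k p).mp h0
    have h3 : p ∣ Nat.gcd k (Nat.card G) := Nat.dvd_gcd h2 hdiv
    rw [hk.cop] at h3
    exact hp.one_lt.ne' (Nat.dvd_one.mp h3)
  obtain ⟨-, -, -, -, -, hη⟩ := Cfsg.Agent.Lib.Helper31.HPT.eta_facts p (by omega) ζ hHP.hζ
  have hg2 := ((hη (k : ZMod p) hks hk.nsq).2 1 one_ne_zero).2
  rw [mul_one] at hg2
  have h2 : (p : ℝ) * x / (e : ℝ) ≤ r₁ + r₂ := by
    have h3 : ‖(eta p ζ 1 - eta p ζ (k : ZMod p)) ^ 2 * conj (χ.1 g) / (e : ℂ)‖ =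
        (p : ℝ) * x / (e : ℝ) := by
      rw [norm_div, norm_mul, norm_pow, hg2, RCLike.norm_conj, Complex.norm_natCast]
    rw [← h3, ← hss]
    have h4 : ∑ φ ∈ Finset.univ.filter (fun φ : IrrCharacter G => SameZ χ.1 φ.1),
        φ.1 z * (φ.1 z - φ.1 (z ^ k)) * conj (φ.1 g) / φ.1 1 =
        ∑ φ ∈ Finset.univ.filter (fun φ : IrrCharacter G => SameZ χ.1 φ.1),
          φ.1 z * φ.1 z * conj (φ.1 g) / φ.1 1 -
        ∑ φ ∈ Finset.univ.filter (fun φ : IrrCharacter G => SameZ χ.1 φ.1),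
          φ.1 z * φ.1 (z ^ k) * conj (φ.1 g) / φ.1 1 := by
      rw [← Finset.sum_sub_distrib]
      refine Finset.sum_congr rfl fun φ _ => ?_
      ring
    rw [h4]
    exact (norm_sub_le _ _).trans (add_le_add hB₁ hB₂)
  -- the quadratic inequality
  have hpe : (p : ℝ) = 2 * (e : ℝ) + 1 := by
    have : p = 2 * e + 1 := by omega
    rw [this]; push_cast; ring
  have heR : (2 : ℝ) ≤ (e : ℝ) := by exact_mod_cast he2
  have h3 : 0 ≤ (x - 1) * (x - (e : ℝ)) := by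
    rw [h1', hpe] at h2
    have he0 : (0 : ℝ) < (e : ℝ) := by linarith
    have he1 : (0 : ℝ) < (e : ℝ) + 1 := by linarith
    have h5 : (2 * (e : ℝ) + 1) * x / (e : ℝ) * ((e : ℝ) * ((e : ℝ) + 1)) ≤
        (2 + (x ^ 2 - 1) / ((e : ℝ) + 1) + x ^ 2 / (e : ℝ)) * ((e : ℝ) * ((e : ℝ) + 1)) :=
      mul_le_mul_of_nonneg_right h2 (by positivity)
    have h6 : (2 * (e : ℝ) + 1) * x / (e : ℝ) * ((e : ℝ) * ((e : ℝ) + 1)) =
        (2 * (e : ℝ) + 1) * x * ((e : ℝ) + 1) := by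
      field_simp
    have h7 : (2 + (x ^ 2 - 1) / ((e : ℝ) + 1) + x ^ 2 / (e : ℝ)) * ((e : ℝ) * ((e : ℝ) + 1)) =
        2 * (e : ℝ) * ((e : ℝ) + 1) + (x ^ 2 - 1) * (e : ℝ) + x ^ 2 * ((e : ℝ) + 1) := by
      field_simp
    rw [h6, h7] at h5
    have h8 : 0 ≤ (2 * (e : ℝ) + 1) * ((x - 1) * (x - (e : ℝ))) := by nlinarith
    exact nonneg_of_mul_nonneg_right h8 (by linarith)
  have hxe : x ≤ (e : ℝ) := Cfsg.Agent.Lib.Helper83.irr_norm_le χ.2 g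
  by_contra hgt
  push_neg at hgt
  have h4 : (e : ℝ) ≤ x := by
    by_contra hlt
    push_neg at hlt
    nlinarith
  have h5 : x = (e : ℝ) := le_antisymm hxe h4
  obtain ⟨hd1, hd0⟩ := Cfsg.Agent.Lib.Helper82.irr_charDegree χ
  have hχ1 : χ.1 1 = (e : ℂ) := hd1.symm
  have he0 : (e : ℂ) ≠ 0 := by exact_mod_cast hd0
  refine hgc (Cfsg.Agent.Lib.Helper67.BFT.central_of_norm χ hfaith g (χ.1 g / χ.1 1) ?_ ?_)
  · rw [norm_div, hχ1, Complex.norm_natCast, ← hx, h5]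
    exact div_self (by exact_mod_cast hd0)
  · rw [hχ1]; field_simp

theorem main {G : Type u} [Group G] [Finite G] (p : ℕ) (hp : p.Prime) (hdiv : p ∣ Nat.card G)
    (hsq : ¬ p ^ 2 ∣ Nat.card G) (hnn : ∀ H : Subgroup G, H.Normal → Nat.card H ≠ p)
    (χ : G → ℂ) (hχ : Cfsg.IsCharacter G χ) (hfaith : ∀ g : G, χ g = χ 1 → g = 1)
    (hdeg : 2 * Cfsg.charDegree χ + 1 = p) :
    Nonempty ((G ⧸ Subgroup.center G) ≃*
      Matrix.ProjectiveSpecialLinearGroup (Fin 2) (ZMod p)) := by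
  classical
  letI : Fintype G := Fintype.ofFinite G
  haveI : Fact p.Prime := ⟨hp⟩
  obtain ⟨hirr, hp5⟩ := Cfsg.Agent.Lib.Helper58.HPT.hp_irr p hp hdiv hsq hnn χ hχ hfaith hdeg
  obtain ⟨z, ζ, hz, hζ, hE, hval⟩ := Cfsg.Agent.Lib.Helper4.HPT.hp_local p hdiv hsq hnn ⟨χ, hirr⟩ hfaith hdeg
  have hC := Cfsg.Agent.Lib.Helper19.HPT.hp_central p hdiv hsq hnn ⟨χ, hirr⟩ hfaith hdeg z ζ hz hζ hE hval
  have hHP : HP p ζ z χ := ⟨hz, hζ, hE, hval, hC⟩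
  have habs := hp_abs p hp5
    (fun H _ _ hd hs hn ψ hψ hf hdg => (Cfsg.Agent.Lib.Helper58.HPT.hp_irr p hp hd hs hn ψ hψ hf hdg).1)
    hdiv hsq hnn ⟨χ, hirr⟩ hfaith hdeg z ζ hHP
  have h4 := Cfsg.Agent.Lib.Helper64.HPT.hp_norm4 p hdiv hsq hnn ⟨χ, hirr⟩ hfaith hdeg z ζ hHP
  have hord := Cfsg.Agent.Lib.Helper31.HPT.hp_moment p hdiv hsq hnn ⟨χ, hirr⟩ hfaith hdeg z ζ hHP habs h4
  exact Cfsg.Agent.Lib.Helper1.HPT.hp_recog p hp5 hdiv hsq hnn ⟨χ, hirr⟩ hfaith hdeg z ζ hHP hord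

end Cfsg.Agent.Lib.Helper22.HPT
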