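import Mathlib
import Cfsg.Agent.Lib.Helper22.PRatF
import Cfsg.Agent.S0887
import Cfsg.Agent.Lib.Helper20.CliffordRel
import Cfsg.Agent.Lib.Helper20.CharSub
import Cfsg.Agent.Lib.Helper20.Ito
import Cfsg.Agent.Lib.Helper83.Linear

/-!
# Restriction to `O^p(G)` with cyclic quotient (helper22)

`N = O^p(G)` with `G / N` cyclic and nontrivial.  Restriction to `N` maps the members of the
principal block of `G` of degree prime to `p` fixed by the Galois twist `σ₁` onto the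
`P`-invariant such members of the principal block of `N`, with fibres of size `p`: the
extensions of `θ` are `χ₀ λ` with `χ₀` the canonical extension (determinantal order prime to
`p`, hence `σ₁`-fixed) and `λ` a linear character of `G / N`; such a product is `σ₁`-fixed iff
`λ ^ p = 1`.
-/

set_option autoImplicit false
set_option linter.style.haveILetI false
set_option linter.unusedSectionVars false

namespace Cfsg.Agent.Lib.Helper22.OpRes

open Cfsg
open Cfsg.Agent.Lib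
open scoped ComplexConjugate

universe u

theorem charDegree_congr {A B : Type*} [Group A] [Group B] {χ : A → ℂ} {ψ : B → ℂ}
    (h : χ 1 = ψ 1) : charDegree χ = charDegree ψ := by
  unfold charDegree
  rw [h]

theorem char_eq_zero_of_one {A : Type*} [Group A] {Δ : A → ℂ} (h : IsCharacter A Δ)
    (h1 : Δ 1 = 0) : Δ = 0 := by
  obtain ⟨n, ρ, rfl⟩ := h
  have hn : n = 0 := by
    rw [Representation.char_one] at h1
    simpa using h1
  subst hn
  funext g
  have h2 : ρ g = 0 := LinearMap.ext (fun v => Subsingleton.elim _ _)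
  show LinearMap.trace ℂ _ (ρ g) = 0
  rw [h2, map_zero]

theorem exists_ne_zero_coset {G : Type*} [Group G] [Finite G] (N : Subgroup G) [N.Normal]
    {χ : G → ℂ} (hχ : IsIrrCharacter G χ) (hχN : IsIrrCharacter N (fun n : N => χ n)) (g : G) :
    ∃ n : N, χ ((n : G) * g) ≠ 0 := by
  classical
  letI : Fintype G := Fintype.ofFinite G
  letI : Fintype N := Fintype.ofFinite N
  have h6 := congrFun (Cfsg.Agent.S0868.eta_self N hχ hχN) g
  unfold Cfsg.Agent.S0868.eta at h6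
  by_contra hcon
  push Not at hcon
  rw [Finset.sum_eq_zero (fun n _ => by rw [hcon n, zero_mul]), mul_zero] at h6
  exact zero_ne_one h6

/-- Gallagher, injectivity: a linear character of `G / N` is determined by its product with an
extension of an irreducible character of `N` -/
theorem linear_eq_of_mul_eq {G : Type*} [Group G] [Finite G] (N : Subgroup G) [N.Normal]
    {χ : G → ℂ} (hχ : IsIrrCharacter G χ) (hχN : IsIrrCharacter N (fun n : N => χ n))
    (β₁ β₂ : G →* ℂˣ) (h₁ : ∀ n : N, β₁ (n : G) = 1) (h₂ : ∀ n : N, β₂ (n : G) = 1)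
    (h : ∀ g : G, ((β₁ g : ℂˣ) : ℂ) * χ g = ((β₂ g : ℂˣ) : ℂ) * χ g) : β₁ = β₂ := by
  apply MonoidHom.ext
  intro g
  obtain ⟨n, hn⟩ := exists_ne_zero_coset N hχ hχN g
  have h3 := mul_right_cancel₀ hn (h ((n : G) * g))
  rw [map_mul, map_mul, h₁ n, h₂ n, one_mul, one_mul] at h3
  exact Units.ext h3

/-- an irreducible character of degree prime to `p` restricts irreducibly to a normal subgroup
of `p`-power index -/
theorem res_irr_of_index_pow {G : Type*} [Group G] [Finite G] (p : ℕ) (hp : p.Prime)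
    (N : Subgroup G) [N.Normal] (a : ℕ) (ha : N.index = p ^ a) {χ : G → ℂ}
    (hχ : IsIrrCharacter G χ) (hdeg : ¬ p ∣ charDegree χ) :
    IsIrrCharacter N (fun n : N => χ n) := by
  classical
  letI : Fintype G := Fintype.ofFinite G
  letI : Fintype N := Fintype.ofFinite N
  obtain ⟨ϑ, hϑ, hcon⟩ := Helper20.exists_constituent N hχ
  obtain ⟨-, hc⟩ := Helper83.irr_degree hχ
  obtain ⟨-, hd⟩ := Helper83.irr_degree hϑ
  obtain ⟨h1, h2⟩ := Cfsg.Agent.S0887.result N χ hχ ϑ hϑ hcon (charDegree χ) (charDegree ϑ)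
    hc hd
  rw [ha] at h2
  obtain ⟨i, -, hi⟩ := (Nat.dvd_prime_pow hp).mp h2
  have hi0 : i = 0 := by
    by_contra h0
    apply hdeg
    have h3 : p ∣ charDegree χ / charDegree ϑ := by
      rw [hi]; exact dvd_pow_self p h0
    exact dvd_trans h3 (Nat.div_dvd_of_dvd h1)
  rw [hi0, pow_zero] at hi
  have hcd : charDegree χ = charDegree ϑ := (Nat.eq_of_dvd_of_div_eq_one h1 hi).symm
  have hΔ := Helper20.sub_constituent
    (Helper20.isCharacter_comp N.subtype (Helper35.isChar_of_irr hχ)) hϑ hcon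
  have h0 := char_eq_zero_of_one hΔ (by
    show χ ((1 : N) : G) - ϑ 1 = 0
    rw [hd, ← hcd, ← hc]
    exact sub_self _)
  have h5 : (fun n : N => χ n) = ϑ := by
    funext n
    have h6 := congrFun h0 n
    exact sub_eq_zero.mp h6
  rw [h5]
  exact hϑ

/-- the determinantal order of a character of `O^p(G)` is prime to `p` -/
theorem not_dvd_detOrder_pResidual {G : Type*} [Group G] [Finite G] (p : ℕ) (hp : p.Prime)
    (N : Subgroup G) (hNres : N = pResidual p G) (θ : N → ℂ) : ¬ p ∣ detOrder θ := by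
  obtain ⟨m, hmdef⟩ : ∃ m, m = Nat.card G / p ^ (Nat.card G).factorization p := ⟨_, rfl⟩
  have hcard : p ^ (Nat.card G).factorization p * m = Nat.card G := by
    rw [hmdef]; exact Nat.ordProj_mul_ordCompl_eq_self (Nat.card G) p
  have hpm : ¬ p ∣ m := by
    rw [hmdef]; exact Nat.not_dvd_ordCompl hp Nat.card_pos.ne'
  obtain ⟨f, hf⟩ := Helper20.exists_detHom θ
  let φ : N →* ℂˣ := (powMonoidHom m : ℂˣ →* ℂˣ).comp f
  have hφ : ∀ n : N, φ n = (f n) ^ m := fun n => rfl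
  have hle : N ≤ (φ.ker).map N.subtype := by
    conv_lhs => rw [hNres]
    unfold pResidual
    rw [Subgroup.closure_le]
    intro g hg
    have hgc : Nat.Coprime (orderOf g) p := hg
    have hgN : g ∈ N := by
      rw [hNres]; exact Subgroup.subset_closure hg
    refine ⟨⟨g, hgN⟩, ?_, rfl⟩
    show φ ⟨g, hgN⟩ = 1
    rw [hφ, ← map_pow]
    have h2 : (⟨g, hgN⟩ : N) ^ m = 1 := by
      apply Subtype.ext
      show g ^ m = 1
      rw [← orderOf_dvd_iff_pow_eq_one]
      have h1 : orderOf g ∣ p ^ (Nat.card G).factorization p * m := by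
        rw [hcard]; exact orderOf_dvd_natCard g
      exact (Nat.Coprime.pow_right _ hgc).dvd_of_dvd_mul_left h1
    rw [h2, map_one]
  have hall : ∀ n : N, detChar θ n ^ m = 1 := by
    intro n
    obtain ⟨n', hn', hnn⟩ := hle n.2
    have h0 : n' = n := Subtype.ext hnn
    subst h0
    have h1 : φ n' = 1 := hn'
    rw [hφ] at h1
    rw [← hf, ← Units.val_pow_eq_pow_val, h1, Units.val_one]
  intro hdvd
  apply hpm
  refine dvd_trans hdvd ?_
  unfold detOrder
  apply orderOf_dvd_of_pow_eq_one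
  funext n
  rw [Pi.pow_apply, Pi.one_apply]
  exact hall n

theorem coprime_of_pow_hyp {G : Type*} [Group G] [Finite G] (p : ℕ) [hp : Fact p.Prime] (k : ℕ)
    (hk₁ : ∀ g : G, (∃ j : ℕ, orderOf g = p ^ j) → g ^ k = g ^ (1 + p))
    (hk₂ : ∀ g : G, Nat.Coprime (orderOf g) p → g ^ k = g) : Nat.Coprime k (Nat.card G) := by
  by_contra hcon
  obtain ⟨q, hq, hqk, hqG⟩ := Nat.Prime.not_coprime_iff_dvd.mp hcon
  haveI := Fact.mk hq
  obtain ⟨g, hg⟩ := exists_prime_orderOf_dvd_card' (G := G) q hqG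
  have hgk : g ^ k = 1 := by
    rw [← orderOf_dvd_iff_pow_eq_one, hg]; exact hqk
  have hg1 : g = 1 := by
    by_cases hqp : q = p
    · have h1 := hk₁ g ⟨1, by rw [hg, hqp, pow_one]⟩
      rw [hgk, pow_add, pow_one] at h1
      have h2 : g ^ p = 1 := by
        rw [← hqp, ← hg]; exact pow_orderOf_eq_one g
      rw [h2, mul_one] at h1
      exact h1.symm
    · have h1 := hk₂ g (by rw [hg]; exact (Nat.coprime_primes hq hp.out).mpr hqp)
      rw [hgk] at h1
      exact h1.symm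
  rw [hg1, orderOf_one] at hg
  exact hq.one_lt.ne' hg.symm

theorem linear_twist {G : Type*} [Group G] [Finite G] (p : ℕ) [hp : Fact p.Prime]
    (N : Subgroup G) (hreg : ∀ g : G, ¬ p ∣ orderOf g → g ∈ N) (k : ℕ)
    (hk₁ : ∀ g : G, (∃ j : ℕ, orderOf g = p ^ j) → g ^ k = g ^ (1 + p))
    (β : G →* ℂˣ) (hβ : ∀ n : N, β (n : G) = 1) (g : G) : β (g ^ k) = β g ^ (1 + p) := by
  obtain ⟨c, c', ⟨t, ht⟩, hreg', hxc⟩ := PRat.exists_p_decomp p hp.out g
  have hg : g = g ^ c * g ^ c' := by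
    rw [← hxc]; group
  have hy : β (g ^ c) = 1 := hβ ⟨g ^ c, hreg _ hreg'⟩
  have hβg : β g = β (g ^ c') := by
    conv_lhs => rw [hg]
    rw [map_mul, hy, one_mul]
  have hu : ∃ j, orderOf (g ^ c') = p ^ j := by
    have h1 : orderOf (g ^ c') ∣ p ^ t := orderOf_dvd_of_pow_eq_one ht
    obtain ⟨j, -, hj⟩ := (Nat.dvd_prime_pow hp.out).mp h1
    exact ⟨j, hj⟩
  rw [map_pow, hβg, ← map_pow, hk₁ _ hu, map_pow]

/-- the number of linear characters of a cyclic quotient with `p`-th power `1` -/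
theorem card_lin_pow {G : Type*} [Group G] [Finite G] (p : ℕ) [hp : Fact p.Prime]
    (N : Subgroup G) [hN : N.Normal] (hcyc : IsCyclic (G ⧸ N)) (hdvd : p ∣ N.index) :
    Nat.card {β : G →* ℂˣ // (∀ n : N, β (n : G) = 1) ∧ ∀ g, β g ^ p = 1} = p := by
  obtain ⟨γ, hγ⟩ := IsCyclic.exists_generator (α := G ⧸ N)
  obtain ⟨g₀, rfl⟩ := QuotientGroup.mk_surjective γ
  have hord : orderOf (g₀ : G ⧸ N) = N.index := by
    rw [Subgroup.index_eq_card]; exact orderOf_eq_card_of_forall_mem_zpowers hγ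
  have hprim := Complex.isPrimitiveRoot_exp p hp.out.ne_zero
  haveI : NeZero p := ⟨hp.out.ne_zero⟩
  let ev : {β : G →* ℂˣ // (∀ n : N, β (n : G) = 1) ∧ ∀ g, β g ^ p = 1} → rootsOfUnity p ℂ :=
    fun β => ⟨β.1 g₀, (mem_rootsOfUnity _ _).mpr (β.2.2 g₀)⟩
  refine (Nat.card_eq_of_bijective ev ?_).trans hprim.card_rootsOfUnity
  constructor
  · intro β β' h
    apply Subtype.ext
    apply MonoidHom.ext
    intro g
    have h0 : β.1 g₀ = β'.1 g₀ := congrArg Subtype.val h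
    obtain ⟨i, hi⟩ := Subgroup.mem_zpowers_iff.mp (hγ (g : G ⧸ N))
    have hmem : (g₀ ^ i)⁻¹ * g ∈ N := by
      rw [← QuotientGroup.eq, QuotientGroup.mk_zpow]; exact hi
    have e1 := β.2.1 ⟨_, hmem⟩
    have e2 := β'.2.1 ⟨_, hmem⟩
    have h3 : β.1 g = β.1 (g₀ ^ i) * β.1 ((g₀ ^ i)⁻¹ * g) := by
      rw [← map_mul]; congr 1; group
    have h4 : β'.1 g = β'.1 (g₀ ^ i) * β'.1 ((g₀ ^ i)⁻¹ * g) := by
      rw [← map_mul]; congr 1; group
    rw [h3, h4, show β.1 ((g₀ ^ i)⁻¹ * g) = 1 from e1,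
      show β'.1 ((g₀ ^ i)⁻¹ * g) = 1 from e2, map_zpow, map_zpow, h0]
  · rintro ⟨ζ, hζ⟩
    have hζp : ζ ^ p = 1 := (mem_rootsOfUnity _ _).mp hζ
    have hdvd' : orderOf ζ ∣ orderOf (g₀ : G ⧸ N) := by
      rw [hord]; exact dvd_trans (orderOf_dvd_of_pow_eq_one hζp) hdvd
    let φ : G ⧸ N →* ℂˣ := monoidHomOfForallMemZpowers hγ hdvd'
    have hφ : φ (g₀ : G ⧸ N) = ζ := monoidHomOfForallMemZpowers_apply_gen hγ hdvd'
    refine ⟨⟨φ.comp (QuotientGroup.mk' N), ?_, ?_⟩, ?_⟩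
    · intro n
      show φ ((n : G) : G ⧸ N) = 1
      rw [(QuotientGroup.eq_one_iff (n : G)).mpr n.2, map_one]
    · intro g
      show φ (g : G ⧸ N) ^ p = 1
      obtain ⟨i, hi⟩ := Subgroup.mem_zpowers_iff.mp (hγ (g : G ⧸ N))
      rw [← hi, map_zpow, hφ, ← zpow_natCast, ← zpow_mul, mul_comm, zpow_mul, zpow_natCast,
        hζp, one_zpow]
    · apply Subtype.ext
      exact hφ

section Main

variable {G : Type u} [Group G]

/-- the characters counted on the `G` side -/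
abbrev SetA (p : ℕ) (M : Ideal AlgInt) (G : Type u) [Group G] (k : ℕ) : Type u :=
  {χ : IrrCharacter G // χ ∈ principalBlock M G ∧ ¬ p ∣ charDegree (χ : G → ℂ) ∧
    ∀ g : G, (χ : G → ℂ) (g ^ k) = (χ : G → ℂ) g}

/-- the characters counted on the `N` side -/
abbrev SetB (p : ℕ) (M : Ideal AlgInt) (P : Subgroup G) (N : Subgroup G) [hN : N.Normal]
    (k : ℕ) : Type u :=
  {θ : IrrCharacter N // θ ∈ principalBlock M N ∧ ¬ p ∣ charDegree (θ : N → ℂ) ∧
    (∀ x ∈ P, ∀ n : N, (θ : N → ℂ) ⟨x * n * x⁻¹, hN.conj_mem n n.2 x⟩ = (θ : N → ℂ) n) ∧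
    ∀ n : N, (θ : N → ℂ) (n ^ k) = (θ : N → ℂ) n}

/-- the linear characters of `G / N` with `p`-th power `1` -/
abbrev SetL (p : ℕ) (N : Subgroup G) : Type u :=
  {β : G →* ℂˣ // (∀ n : N, β (n : G) = 1) ∧ ∀ g, β g ^ p = 1}

variable [Finite G]

theorem main (p : ℕ) [hp : Fact p.Prime] (M : Ideal AlgInt) (hM : IsPModular p M)
    (P : Sylow p G) (N : Subgroup G) [hN : N.Normal] (hNres : N = pResidual p G)
    (hcyc : IsCyclic (G ⧸ N)) (hnt : N ≠ ⊤) (k : ℕ)
    (hk₁ : ∀ g : G, (∃ j : ℕ, orderOf g = p ^ j) → g ^ k = g ^ (1 + p))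
    (hk₂ : ∀ g : G, Nat.Coprime (orderOf g) p → g ^ k = g) :
    Nat.card {χ : IrrCharacter G // χ ∈ principalBlock M G ∧ ¬ p ∣ charDegree (χ : G → ℂ) ∧
        ∀ g : G, (χ : G → ℂ) (g ^ k) = (χ : G → ℂ) g} =
      p * Nat.card {θ : IrrCharacter N // θ ∈ principalBlock M N ∧
        ¬ p ∣ charDegree (θ : N → ℂ) ∧
        (∀ x ∈ (P : Subgroup G), ∀ n : N,
          (θ : N → ℂ) ⟨x * n * x⁻¹, hN.conj_mem n n.2 x⟩ = (θ : N → ℂ) n) ∧
        ∀ n : N, (θ : N → ℂ) (n ^ k) = (θ : N → ℂ) n} := by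
  classical
  have hpP := hp.out
  letI : Fintype G := Fintype.ofFinite G
  letI : Fintype N := Fintype.ofFinite N
  have hreg : ∀ g : G, ¬ p ∣ orderOf g → g ∈ N := by
    intro g hg
    rw [hNres]
    exact Subgroup.subset_closure ((Nat.Prime.coprime_iff_not_dvd hpP).mpr hg).symm
  have hpg : IsPGroup p (G ⧸ N) := by
    intro x
    induction x using QuotientGroup.induction_on with
    | H g =>
      obtain ⟨b, s, hs, hbs⟩ := Nat.exists_eq_pow_mul_and_not_dvd (orderOf_pos g).ne' p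
        hpP.ne_one
      refine ⟨b, ?_⟩
      rw [← QuotientGroup.mk_pow]
      apply (QuotientGroup.eq_one_iff _).mpr
      apply hreg
      rw [orderOf_pow_of_dvd (pow_pos hpP.pos b).ne' (Dvd.intro _ hbs.symm), hbs,
        Nat.mul_div_cancel_left _ (pow_pos hpP.pos b)]
      exact hs
  obtain ⟨a, ha⟩ := IsPGroup.exists_card_eq hpg
  have hidx : N.index = p ^ a := by
    rw [Subgroup.index_eq_card]; exact ha
  have ha1 : a ≠ 0 := by
    intro h0
    rw [h0, pow_zero] at hidx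
    exact hnt (Subgroup.index_eq_one.mp hidx)
  have hNP : N ⊔ (P : Subgroup G) = ⊤ := by
    rw [← Subgroup.index_eq_one]
    have h1 : (N ⊔ (P : Subgroup G)).index ∣ p ^ a := hidx ▸ Subgroup.index_dvd_of_le le_sup_left
    have h2 : (N ⊔ (P : Subgroup G)).index ∣ (P : Subgroup G).index :=
      Subgroup.index_dvd_of_le le_sup_right
    obtain ⟨i, -, hi⟩ := (Nat.dvd_prime_pow hpP).mp h1
    rcases Nat.eq_zero_or_pos i with h0 | h0
    · rw [hi, h0, pow_zero]
    · exfalso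
      apply P.not_dvd_index
      rw [hi] at h2
      exact dvd_trans (dvd_pow_self p h0.ne') h2
  have hGinv : ∀ θ : IrrCharacter N, (∀ x ∈ (P : Subgroup G), ∀ n : N,
      (θ : N → ℂ) ⟨x * n * x⁻¹, hN.conj_mem n n.2 x⟩ = (θ : N → ℂ) n) →
      ∀ (g : G) (n : N),
        (θ : N → ℂ) ⟨g * n * g⁻¹, hN.conj_mem (n : G) n.2 g⟩ = (θ : N → ℂ) n := by
    intro θ hθ g n
    have hg : g ∈ ((N ⊔ (P : Subgroup G) : Subgroup G) : Set G) := by
      rw [hNP]; trivial
    rw [Subgroup.normal_mul] at hg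
    obtain ⟨n₁, hn₁, x, hx, rfl⟩ := Set.mem_mul.mp hg
    have hcf := Helper35.isClassFunction_of_isCharacter (Helper35.isChar_of_irr θ.2)
    have h1 := hcf ⟨x * n * x⁻¹, hN.conj_mem n n.2 x⟩ ⟨n₁, hn₁⟩
    rw [← hθ x hx n, ← h1]
    exact congrArg _ (Subtype.ext (by
      show n₁ * x * n * (n₁ * x)⁻¹ = n₁ * (x * n * x⁻¹) * n₁⁻¹
      group))
  have hkG : Nat.Coprime k (Nat.card G) := coprime_of_pow_hyp p k hk₁ hk₂
  have hcan : ∀ θ : IrrCharacter N, (∀ (g : G) (n : N),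
      (θ : N → ℂ) ⟨g * n * g⁻¹, hN.conj_mem (n : G) n.2 g⟩ = (θ : N → ℂ) n) →
      ¬ p ∣ charDegree (θ : N → ℂ) →
      ∃ χ₀ : G → ℂ, IsIrrCharacter G χ₀ ∧ (∀ n : N, χ₀ n = (θ : N → ℂ) n) ∧
        ((∀ n : N, (θ : N → ℂ) (n ^ k) = (θ : N → ℂ) n) → ∀ g : G, χ₀ (g ^ k) = χ₀ g) := by
    intro θ hinv hdeg
    obtain ⟨-, hd⟩ := Helper83.irr_degree θ.2
    have hdet : ¬ p ∣ detOrder (θ : N → ℂ) := not_dvd_detOrder_pResidual p hpP N hNres _
    have hcop : Nat.Coprime N.index (detOrder (θ : N → ℂ) * charDegree (θ : N → ℂ)) := by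
      rw [hidx]
      apply Nat.Coprime.pow_left
      rw [Nat.Prime.coprime_iff_not_dvd hpP]
      intro hdvd
      rcases (Nat.Prime.dvd_mul hpP).mp hdvd with h | h
      · exact hdet h
      · exact hdeg h
    obtain ⟨χ₀, ⟨hirr, hres, hdo⟩, huniq⟩ := Cfsg.Agent.S0867.result N (θ : N → ℂ) θ.2 hinv _
      hd hcop
    refine ⟨χ₀, hirr, hres, fun hθk => ?_⟩
    have h1 : (fun g => χ₀ (g ^ k)) = χ₀ := by
      apply huniq
      · exact Helper80.isIrrCharacter_pow_coprime k hkG ⟨χ₀, hirr⟩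
      · intro n
        show χ₀ ((n : G) ^ k) = _
        have h3 := hres (n ^ k)
        rw [Subgroup.coe_pow] at h3
        rw [h3, hθk]
      · rw [hidx]
        apply Nat.Coprime.pow_left
        rw [Nat.Prime.coprime_iff_not_dvd hpP]
        obtain ⟨n, ρ, hρ⟩ := Helper35.isChar_of_irr hirr
        have hL : 0 < Nat.card G := Nat.card_pos
        have hζ := Complex.isPrimitiveRoot_exp (Nat.card G) hL.ne'
        obtain ⟨τ, hτ⟩ := Helper80.exists_ringEquiv_pow (Nat.card G) k hL hkG _ hζ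
        have h2 : (fun g : G => χ₀ (g ^ k)) = fun g => (τ : ℂ →+* ℂ) (χ₀ g) := by
          funext g
          rw [← hρ]
          exact (PRat.tau_character τ (Nat.card G) k hL hτ ρ g pow_card_eq_one').symm
        rw [h2]
        intro hdvd
        apply hdet
        rw [← hdo]
        exact dvd_trans hdvd
          (PRat.detOrder_twist_dvd (τ : ℂ →+* ℂ) (Helper35.isChar_of_irr hirr))
    exact fun g => congrFun h1 g
  have hBc : ∀ θ : SetB p M (P : Subgroup G) N k,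
      ∃ χ₀ : G → ℂ, IsIrrCharacter G χ₀ ∧ (∀ n : N, χ₀ n = (θ.1 : N → ℂ) n) ∧
        ∀ g : G, χ₀ (g ^ k) = χ₀ g := by
    intro θ
    obtain ⟨χ₀, h1, h2, h3⟩ := hcan θ.1 (hGinv θ.1 θ.2.2.2.1) θ.2.2.1
    exact ⟨χ₀, h1, h2, h3 θ.2.2.2.2⟩
  choose X hXirr hXres hXk using hBc
  have hXN : ∀ θ, IsIrrCharacter N (fun n : N => X θ n) := by
    intro θ
    have h0 : (fun n : N => X θ n) = (θ.1 : N → ℂ) := funext (hXres θ)
    rw [h0]
    exact θ.1.2
  have hΛ := card_lin_pow p N hcyc (by rw [hidx]; exact dvd_pow_self p ha1)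
  have hfirr : ∀ (θ : SetB p M (P : Subgroup G) N k) (β : G →* ℂˣ),
      IsIrrCharacter G (fun g => ((β g : ℂˣ) : ℂ) * X θ g) := fun θ β =>
    Helper20.irr_linear_mul_irr (Helper83.isIrr_of_hom β) (by simp) (hXirr θ)
  have hbij : Nat.card (SetB p M (P : Subgroup G) N k × SetL p N) = Nat.card (SetA p M G k) := by
    refine Nat.card_eq_of_bijective (fun x => ⟨⟨fun g => ((x.2.1 g : ℂˣ) : ℂ) * X x.1 g,
      hfirr x.1 x.2.1⟩, ?_, ?_, ?_⟩) ⟨?_, ?_⟩
    · -- principal block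
      refine Helper84.AD.principal_of_pregular_le hM N hreg _ x.1.1 x.1.2.1 (fun n => ?_)
      show ((x.2.1 (n : G) : ℂˣ) : ℂ) * X x.1 n = _
      rw [x.2.2.1 n, Units.val_one, one_mul, hXres x.1 n]
    · -- degree
      have h1 : charDegree (fun g => ((x.2.1 g : ℂˣ) : ℂ) * X x.1 g) =
          charDegree (x.1.1 : N → ℂ) := by
        apply charDegree_congr
        have h2 := hXres x.1 1
        rw [show ((1 : N) : G) = 1 from rfl] at h2
        show ((x.2.1 1 : ℂˣ) : ℂ) * X x.1 1 = _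
        rw [map_one, Units.val_one, one_mul, h2]
      show ¬ p ∣ charDegree (fun g => ((x.2.1 g : ℂˣ) : ℂ) * X x.1 g)
      rw [h1]
      exact x.1.2.2.1
    · -- twist
      intro g
      show ((x.2.1 (g ^ k) : ℂˣ) : ℂ) * X x.1 (g ^ k) = ((x.2.1 g : ℂˣ) : ℂ) * X x.1 g
      rw [linear_twist p N hreg k hk₁ x.2.1 x.2.2.1 g, hXk x.1 g, pow_add, pow_one, x.2.2.2 g,
        mul_one]
    · -- injective
      rintro ⟨θ, β⟩ ⟨θ', β'⟩ h
      have hfun : ∀ g : G, ((β.1 g : ℂˣ) : ℂ) * X θ g = ((β'.1 g : ℂˣ) : ℂ) * X θ' g := by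
        intro g
        exact congrFun (congrArg Subtype.val (congrArg Subtype.val h)) g
      have hθ : θ = θ' := by
        apply Subtype.ext
        apply Subtype.ext
        funext n
        have h1 := hfun (n : G)
        rw [β.2.1 n, β'.2.1 n, Units.val_one, one_mul, one_mul, hXres θ n, hXres θ' n] at h1
        exact h1
      subst hθ
      have hβ : β.1 = β'.1 := linear_eq_of_mul_eq N (hXirr θ) (hXN θ) β.1 β'.1 β.2.1 β'.2.1 hfun
      rw [Prod.mk.injEq]
      exact ⟨rfl, Subtype.ext hβ⟩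
    · -- surjective
      rintro ⟨χ, hB, hdeg, hk⟩
      have hχN := res_irr_of_index_pow p hpP N a hidx χ.2 hdeg
      obtain ⟨θ₀, hθ₀⟩ : ∃ θ₀ : IrrCharacter N, θ₀ = ⟨fun n : N => (χ : G → ℂ) n, hχN⟩ :=
        ⟨_, rfl⟩
      have hθ₀v : ∀ n : N, (θ₀ : N → ℂ) n = (χ : G → ℂ) n := by
        intro n
        rw [hθ₀]
      have hθB : θ₀ ∈ principalBlock M N := by
        apply Helper82.mem_principal_of_resMult N hM χ hB θ₀
        intro h0
        have h1 := Helper82.resMult_spec N χ θ₀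
        have h2 : (fun h : N => (χ : G → ℂ) h) = (θ₀ : N → ℂ) := by
          rw [hθ₀]
        rw [h0, h2, Helper35.classInner_irr' θ₀.2 θ₀.2, if_pos rfl] at h1
        simp at h1
      have hθdeg : ¬ p ∣ charDegree (θ₀ : N → ℂ) := by
        have h1 : charDegree (θ₀ : N → ℂ) = charDegree (χ : G → ℂ) := by
          apply charDegree_congr
          rw [hθ₀v]
          rfl
        rw [h1]
        exact hdeg
      have hcf := Helper35.isClassFunction_of_isCharacter (Helper35.isChar_of_irr χ.2)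
      have hθP : ∀ x ∈ (P : Subgroup G), ∀ n : N,
          (θ₀ : N → ℂ) ⟨x * n * x⁻¹, hN.conj_mem n n.2 x⟩ = (θ₀ : N → ℂ) n := by
        intro x _ n
        rw [hθ₀v, hθ₀v]
        exact hcf n x
      have hθk : ∀ n : N, (θ₀ : N → ℂ) (n ^ k) = (θ₀ : N → ℂ) n := by
        intro n
        rw [hθ₀v, hθ₀v, Subgroup.coe_pow]
        exact hk n
      obtain ⟨β, hβN, hβ⟩ := Helper20.exists_linear_of_extensions N θ₀.2
        (hXirr ⟨θ₀, hθB, hθdeg, hθP, hθk⟩) χ.2 (hXres ⟨θ₀, hθB, hθdeg, hθP, hθk⟩)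
        (fun n => (hθ₀v n).symm)
      have hβv : ∀ g : G, (χ : G → ℂ) g =
          ((β g : ℂˣ) : ℂ) * X ⟨θ₀, hθB, hθdeg, hθP, hθk⟩ g := fun g => congrFun hβ g
      have hβpow : β ^ (1 + p) = β := by
        apply linear_eq_of_mul_eq N (hXirr ⟨θ₀, hθB, hθdeg, hθP, hθk⟩)
          (hXN ⟨θ₀, hθB, hθdeg, hθP, hθk⟩) (β ^ (1 + p)) β
        · intro n
          rw [MonoidHom.pow_apply, hβN n, one_pow]
        · exact hβN
        · intro g
          have h1 := hk g
          rw [hβv, hβv, linear_twist p N hreg k hk₁ β hβN g, hXk] at h1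
          rw [MonoidHom.pow_apply]
          exact h1
      have hβp : ∀ g : G, β g ^ p = 1 := by
        intro g
        have h1 : (β ^ (1 + p)) g = β g := by rw [hβpow]
        rw [MonoidHom.pow_apply, pow_add, pow_one] at h1
        exact mul_left_cancel (a := β g) (by rw [h1, mul_one])
      refine ⟨⟨⟨θ₀, hθB, hθdeg, hθP, hθk⟩, ⟨β, hβN, hβp⟩⟩, ?_⟩
      apply Subtype.ext
      apply Subtype.ext
      exact hβ.symm
  show Nat.card (SetA p M G k) = p * Nat.card (SetB p M (P : Subgroup G) N k)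
  rw [← hbij, Nat.card_prod, hΛ, mul_comm]

end Main

end Cfsg.Agent.Lib.Helper22.OpRes
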