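import Cfsg.Agent.Lib.Helper22.PTDefs
import Cfsg.Agent.Lib.Helper22.BFMain
import Cfsg.Agent.S4701
import Cfsg.Agent.Lib.Helper4.BrSpan
import Cfsg.Agent.Lib.Helper4.CharClosure
import Cfsg.Agent.Lib.Helper23.PTZABS
import Cfsg.Agent.Lib.Helper61.PTZCZ
import Cfsg.Agent.Lib.Helper80.PTZCSQ
import Cfsg.Agent.Lib.Helper88.PTZREG
import Cfsg.Agent.Lib.Helper89.PTEFDVD
import Cfsg.Agent.Lib.Helper28.PTEPM
import Cfsg.Agent.Lib.Helper79.PTLOCA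
import Cfsg.Agent.Lib.Helper87.PTLOCB
import Cfsg.Agent.Lib.Helper94.PTGEXP
import Cfsg.Agent.Lib.Helper32.PTS2
import Cfsg.Agent.Lib.Helper82.PTTWCOL
import Cfsg.Agent.Lib.Helper66.PTEXACT
import Cfsg.Agent.Lib.Helper37.PTBLKY
import Cfsg.Agent.Lib.Helper97.PTBLKR1
import Cfsg.Agent.Lib.Helper79.PTBLKR2
import Cfsg.Agent.Lib.Helper34.PTSEED
import Cfsg.Agent.Lib.Helper22.PTEXT2
import Cfsg.Agent.Lib.Helper64.PTDECGEN
import Cfsg.Agent.Lib.Helper13.PTLAMDEC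
import Cfsg.Agent.Lib.Helper64.PTSQDEC
import Cfsg.Agent.Lib.Helper14.PTE1
import Cfsg.Agent.Lib.Helper33.PTKAP2
import Cfsg.Agent.Lib.Helper16.PTORB
import Cfsg.Agent.Lib.Helper22.PTSING
import Cfsg.Agent.Lib.Helper62.PTMOM2
import Cfsg.Agent.Lib.Helper14.PTKAPPA
import Cfsg.Agent.Lib.Helper62.PTMOM3
import Cfsg.Agent.Lib.Helper47.PTMOM3B
import Cfsg.Agent.Lib.Helper90.PTINV
import Cfsg.Agent.Lib.Helper80.PTODDZ
import Cfsg.Agent.Lib.Helper28.PTNO4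
import Cfsg.Agent.Lib.Helper89.PTMIXB
import Cfsg.Agent.Lib.Helper34.PTMIX
import Cfsg.Agent.Lib.Helper1.PTZERO
import Cfsg.Agent.Lib.Helper23.PTFINA
import Cfsg.Agent.Lib.Helper75.PTFINB
import Cfsg.Agent.Lib.Helper32.PTLIN
import Cfsg.Agent.Lib.Helper43.PTPERFZ
import Cfsg.Agent.Lib.Helper5.PTRED
import Cfsg.Agent.Lib.Helper93.PTHYPL
import Cfsg.Agent.Lib.Helper93.PTPERF
import Cfsg.Agent.Lib.Helper38.PTODDC
import Cfsg.Agent.Lib.Helper42.PTNOPSL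
import Cfsg.Agent.Lib.Helper11.PTFRAT
import Cfsg.Agent.Lib.Helper31.PTPROD
import Cfsg.Agent.Lib.Helper80.PTHYPG
import Cfsg.Agent.Lib.Helper16.PTSYLNN
import Cfsg.Agent.Lib.Helper28.PTNO2

/-!
# S4705 project (helper22, "PT"): assembly
-/

set_option autoImplicit false
set_option maxHeartbeats 1000000


namespace Cfsg.Agent.Lib.Helper22.PT

open Cfsg Cfsg.Agent.Lib.Helper22.BFD
open scoped ComplexConjugate

universe u

section glue

variable {G : Type u} [Group G] [Fintype G]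

theorem hdiv_of (p : ℕ) [Fact p.Prime] (z : G) (ζ : G → ℂ) (h : Hyp G p z ζ) :
    p ∣ Nat.card G := by
  rw [← h.ord]
  exact orderOf_dvd_natCard z

/-- GLUE LOC -/
theorem loc (p : ℕ) [Fact p.Prime] (z : G) (ζ : G → ℂ) (h : Hyp G p z ζ) : Loc G p z ζ := by
  have hp : p.Prime := Fact.out
  obtain ⟨w, hw⟩ : ∃ w : ℂ, IsPrimitiveRoot w p :=
    ⟨_, Complex.isPrimitiveRoot_exp p hp.ne_zero⟩
  have hdiv := hdiv_of p z ζ h
  have hp5 := h.p5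
  obtain ⟨hd1, hd0⟩ := Cfsg.Agent.Lib.Helper82.irr_charDegree (⟨ζ, h.irr⟩ : IrrCharacter G)
  have hndvd : ¬ p ∣ charDegree ζ := by
    intro hdvd
    have h1 : ((charDegree ζ : ℕ) : ℂ) = ((p - 2 : ℕ) : ℂ) := by
      rw [hd1]
      show ζ 1 = _
      rw [h.deg, Nat.cast_sub (by omega)]
      simp
    have h2 : charDegree ζ = p - 2 := by exact_mod_cast h1
    rw [h2] at hdvd
    have := Nat.le_of_dvd (by omega) hdvd
    omega
  obtain ⟨hstr, hrk⟩ := Cfsg.Agent.Lib.Helper22.BFT.str_all p hdiv h.sq w hw (⟨ζ, h.irr⟩ : IrrCharacter G) hndvd z h.ord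
  have hz := Cfsg.Agent.Lib.Helper23.PT.zabs ζ h.irr h.faith
  obtain ⟨hE, hfix⟩ := Cfsg.Agent.Lib.Helper79.PT.locA p w hw z ζ h hstr (Cfsg.Agent.Lib.Helper89.PT.efdvd p z h.ord) hz
  obtain ⟨hinv, hcnj⟩ := Cfsg.Agent.Lib.Helper28.PT.epm p (by omega) z h.ord hE
  exact ⟨hinv, hcnj, hfix, fun y hy hyp => Cfsg.Agent.Lib.Helper87.PT.locB p z ζ h hE hcnj hinv hfix hrk hz y hy hyp⟩

/-- GLUE THMB -/
theorem thmB (p : ℕ) [Fact p.Prime] (z : G) (ζ : G → ℂ) (h : Hyp G p z ζ)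
    (hodd : Odd (Nat.card (Subgroup.center G))) :
    Nat.card G = Nat.card (Subgroup.center G) * (p * (p - 1) * (p - 2)) ∧
      ∃ χ₁ : IrrCharacter G, ZC (cz ζ) χ₁.1 ∧ χ₁.1 1 = 1 := by
  classical
  have hp : p.Prime := Fact.out
  have hp5 := h.p5
  have hp2 : p ≠ 2 := by omega
  obtain ⟨w, hw⟩ : ∃ w : ℂ, IsPrimitiveRoot w p :=
    ⟨_, Complex.isPrimitiveRoot_exp p hp.ne_zero⟩
  haveI : Finite (IrrCharacter G) := Cfsg.Agent.Lib.Helper82.finite_irrCharacter G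
  letI : Fintype (IrrCharacter G) := Fintype.ofFinite _
  have hdiv := hdiv_of p z ζ h
  have hl := loc p z ζ h
  have hg := Cfsg.Agent.Lib.Helper94.PT.gexp (G := G) p hdiv h.sq
  obtain ⟨s, hs⟩ := Cfsg.Agent.Lib.Helper32.PT.s2 (G := G) p hp2 hdiv h.sq
  obtain ⟨h', hcz', hpow'⟩ := Cfsg.Agent.Lib.Helper34.PT.seed p z ζ h hodd s hs
  have hl' := loc p z _ h'
  have htw := Cfsg.Agent.Lib.Helper82.PT.twcol p z ζ h hl (cz ζ) ⟨ζ, h.irr⟩ (Cfsg.Agent.Lib.Helper61.PT.zcz ζ h.irr)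
  have htw' := Cfsg.Agent.Lib.Helper82.PT.twcol p z _ h' hl' (cz (fun g => ζ (g ^ s))) ⟨_, h'.irr⟩ (Cfsg.Agent.Lib.Helper61.PT.zcz _ h'.irr)
  obtain ⟨u, hu, hex⟩ := Cfsg.Agent.Lib.Helper66.PT.exact p w hw z ζ h hl htw hg
  have hex' : ∀ t : ZMod p, t ≠ 0 → (fun g => ζ (g ^ s)) (z ^ t.val) = -ev p w u t := by
    intro t ht
    show ζ ((z ^ t.val) ^ s) = _
    rw [hpow' t]
    exact hex t ht
  -- the block of ζ
  obtain ⟨Y, hY⟩ := Cfsg.Agent.Lib.Helper37.PT.blkY p w hw z ζ h hl hg u hu hex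
  have hR := Cfsg.Agent.Lib.Helper97.PT.blkR1 p w hw z ζ h hl htw u hu Y hY
  obtain ⟨χ₁, χ₂, hB⟩ := Cfsg.Agent.Lib.Helper79.PT.blkR2 p w hw z ζ h hl u hu Y hY hR
  -- the block of ζ'
  obtain ⟨Y', hY'⟩ := Cfsg.Agent.Lib.Helper37.PT.blkY p w hw z _ h' hl' hg u hu hex'
  have hR' := Cfsg.Agent.Lib.Helper97.PT.blkR1 p w hw z _ h' hl' htw' u hu Y' hY'
  obtain ⟨χ₁', χ₂', hB'⟩ := Cfsg.Agent.Lib.Helper79.PT.blkR2 p w hw z _ h' hl' u hu Y' hY' hR'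
  have hY1 : (Y' 1).1 = fun g => ζ (g ^ s) := hY'.1
  have hchar : IsCharacter G ζ := by
    obtain ⟨n, ρ, -, hρ⟩ := h.irr
    exact ⟨n, ρ, hρ⟩
  obtain ⟨hzc1, hzc2⟩ := Cfsg.Agent.Lib.Helper80.PT.zcsq ζ h.irr (cz (fun g => ζ (g ^ s))) hcz'
  have hdecL := Cfsg.Agent.Lib.Helper64.PT.decgen p hp2 w z _ u χ₁' χ₂' Y' hB' _ (Cfsg.Agent.Lib.Helper22.PT.ext2 ζ hchar) hzc1
  have hlam := Cfsg.Agent.Lib.Helper13.PT.lamdec p w hw z ζ h u hu hex _ χ₁' χ₂' Y' hB' hdecL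
  have hE1 := Cfsg.Agent.Lib.Helper14.PT.e1 p hp2 w z ζ s _ u χ₁' χ₂' Y' hB' hY1 hlam
  have horb := Cfsg.Agent.Lib.Helper16.PT.orb ζ s
  have hz := Cfsg.Agent.Lib.Helper23.PT.zabs ζ h.irr h.faith
  have hsing := Cfsg.Agent.Lib.Helper22.PT.sing p z ζ h hl
  have hM2 := Cfsg.Agent.Lib.Helper62.PT.mom2 p w hw z ζ h hl hsing u hu hex
  have hsqchar : IsCharacter G (fun g => ζ g ^ 2) := by
    have := Cfsg.Agent.Lib.Helper4.isCharacter_mul ζ ζ hchar hchar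
    convert this using 2
    rename_i g
    simp [pow_two]
  have hdecS := Cfsg.Agent.Lib.Helper64.PT.decgen p hp2 w z _ u χ₁' χ₂' Y' hB' _ hsqchar hzc2
  have hsq1 : ∑ g : G, ζ g ^ 2 * conj (ζ (g ^ s)) = (Nat.card G : ℂ) := by
    rcases Cfsg.Agent.Lib.Helper64.PT.sqdec p w hw z ζ h u hu hex _ χ₁' χ₂' Y' hB' hdecS with h1 | h2
    · rw [hY1] at h1
      exact h1
    · exact (Cfsg.Agent.Lib.Helper14.PT.kappa p z ζ h s hs horb hz hM2
        (Cfsg.Agent.Lib.Helper33.PT.kap2 p hp2 w z ζ s _ u χ₁' χ₂' Y' hB' hY1 h2)).elim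
  have hM3 := Cfsg.Agent.Lib.Helper62.PT.mom3 p w hw z ζ h hl hsing u hu hex hodd s hs hsq1
  have hM3B := Cfsg.Agent.Lib.Helper47.PT.mom3b p z ζ h s hs hE1 hM2 hM3
  have hinv := Cfsg.Agent.Lib.Helper90.PT.inv p z ζ h s hs hE1
  have hoddz := Cfsg.Agent.Lib.Helper80.PT.oddz p z ζ h s hs hE1 horb hz
  have hno4 := Cfsg.Agent.Lib.Helper28.PT.no4 p z ζ h s hs hE1 hinv
  have hmixb := Cfsg.Agent.Lib.Helper89.PT.mixb p z ζ h hinv hoddz
  have hmix := Cfsg.Agent.Lib.Helper34.PT.mix p z ζ h s hs hE1 horb hoddz hmixb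
  have hzero := Cfsg.Agent.Lib.Helper1.PT.zero p z ζ h hoddz hno4 hmix
  have hfinA := Cfsg.Agent.Lib.Helper23.PT.finA (G := G) p hp2 hodd (Cfsg.Agent.Lib.Helper88.PT.zreg p z ζ h)
  have hcard := Cfsg.Agent.Lib.Helper75.PT.finB p z ζ h hodd s hs hzero hinv hM2 hM3B hfinA
  exact ⟨hcard, χ₁, hB.zc1, Cfsg.Agent.Lib.Helper32.PT.lin p w z ζ h hl _ u χ₁ χ₂ Y hB hcard⟩

end glue

/-- GLUE MAIN -/
theorem main {G : Type u} [Group G] [Finite G] (p : ℕ) [Fact p.Prime] (hp : 5 < p)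
    (P : Sylow p G) (hP : Nat.card P = p) (hnn : ¬ (P : Subgroup G).Normal) (ζ : G → ℂ)
    (hζ : Cfsg.IsIrrCharacter G ζ) (hfaith : ∀ g : G, ζ g = ζ 1 → g = 1)
    (hdeg : Cfsg.charDegree ζ = p - 2) :
    ∃ (a : ℕ) (F : Type) (_ : Field F) (_ : Fintype F), p = 2 ^ a + 1 ∧
      Fintype.card F = 2 ^ a ∧
      Nonempty (G ≃* Matrix.SpecialLinearGroup (Fin 2) F × Subgroup.center G) := by
  classical
  have hpp : p.Prime := Fact.out
  letI : Fintype G := Fintype.ofFinite G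
  obtain ⟨z, hG⟩ := Cfsg.Agent.Lib.Helper80.PT.hypG p hp P hP hnn ζ hζ hfaith hdeg
  have hlG := loc p z ζ hG
  set L : Subgroup G := Subgroup.normalClosure ({z} : Set G) with hLdef
  have hzL : z ∈ L := Subgroup.subset_normalClosure (Set.mem_singleton z)
  haveI : L.Normal := Subgroup.normalClosure_normal
  letI : Fintype L := Fintype.ofFinite L
  have hirrL := Cfsg.Agent.Lib.Helper5.PT.red p z ζ hG hlG.fix L hzL
  have hL := Cfsg.Agent.Lib.Helper93.PT.hypL p z ζ hG L hzL hirrL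
  have hlL := loc p (⟨z, hzL⟩ : L) _ hL
  have hinvL : ∃ n : L, (n : G) * z * (n : G)⁻¹ = z⁻¹ := by
    obtain ⟨n, hn⟩ := hlL.inv
    refine ⟨n, ?_⟩
    have := congrArg (Subtype.val) hn
    simpa using this
  have hperf : commutator L = ⊤ := Cfsg.Agent.Lib.Helper93.PT.perf p (by omega) z hG.ord hinvL
  have hoddn : Odd (p - 2) := by
    have hodd : Odd p := hpp.odd_of_ne_two (by omega)
    obtain ⟨k, hk⟩ := hodd
    exact ⟨k - 1, by omega⟩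
  have hdegL : (fun l : L => ζ l) 1 = ((p - 2 : ℕ) : ℂ) := by
    show ζ ((1 : L) : G) = _
    rw [Subgroup.coe_one, hG.deg, Nat.cast_sub (by omega)]
    simp
  have hoddL := Cfsg.Agent.Lib.Helper38.PT.oddc (fun l : L => ζ l) hL.irr hL.faith (p - 2) hdegL hoddn hperf
  obtain ⟨hcardL, χ₁, hzc, h1⟩ := thmB p (⟨z, hzL⟩ : L) _ hL hoddL
  have hcen : Subgroup.center L = ⊥ := Cfsg.Agent.Lib.Helper43.PT.perfz _ hL.irr hL.faith hperf χ₁ h1 hzc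
  have hcardL' : Nat.card L = p * (p - 1) * (p - 2) := by
    rw [hcardL, hcen, Subgroup.card_bot, one_mul]
  obtain ⟨PL, hPL⟩ := Cfsg.Agent.Lib.Helper16.PT.sylnn p (⟨z, hzL⟩ : L) _ hL
  have hdvdL : p ∣ Nat.card L := by
    rw [hcardL']
    exact Dvd.intro _ (mul_assoc p (p - 1) (p - 2)).symm
  have hbig : Nat.card L < p ^ 3 := by
    rw [hcardL']
    have h1 : (p - 1) * (p - 2) < p * p := by
      have : p - 1 < p := by omega
      have : p - 2 < p := by omega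
      calc (p - 1) * (p - 2) < p * (p - 2) := Nat.mul_lt_mul_of_pos_right (by omega) (by omega)
        _ < p * p := Nat.mul_lt_mul_of_pos_left (by omega) (by omega)
    calc p * (p - 1) * (p - 2) = p * ((p - 1) * (p - 2)) := by ring
      _ < p * (p * p) := Nat.mul_lt_mul_of_pos_left h1 (by omega)
      _ = p ^ 3 := by ring
  rcases Cfsg.Agent.S4701.result hperf p hdvdL hbig PL hPL
    (fun N hN => Cfsg.Agent.Lib.Helper28.PT.no2 hcen N hN) with ⟨F, iF, iF', hF, -, ⟨e⟩⟩ | ⟨m, F, iF, iF', hF, hpm, -, ⟨e⟩⟩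
  · exact (Cfsg.Agent.Lib.Helper42.PT.nopsl p hp F hF e hcardL').elim
  · obtain ⟨f⟩ := Cfsg.Agent.Lib.Helper31.PT.prod L
      (fun g hgL hgZ => by
        have hmem : (⟨g, hgL⟩ : L) ∈ Subgroup.center L := by
          rw [Subgroup.mem_center_iff]
          intro x
          apply Subtype.ext
          exact (Subgroup.mem_center_iff.mp hgZ) (x : G)
        rw [hcen, Subgroup.mem_bot] at hmem
        exact congrArg Subtype.val hmem)
      (fun g => Cfsg.Agent.Lib.Helper11.PT.frat p z ζ hG hlG hinvL g)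
    exact ⟨m, F, iF, iF', hpm, hF, ⟨f.trans (MulEquiv.prodCongr e (MulEquiv.refl _))⟩⟩

end Cfsg.Agent.Lib.Helper22.PT
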