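import Mathlib
import Cfsg.Agent.Lib.Helper52.SP8EBDefs

/-! SP8-EB (sub-project of S5823, architect helper52): piece MINA (helper22). -/

set_option autoImplicit false

namespace Cfsg.Agent.Lib.Helper52.SP8EB

open Matrix Cfsg.Geo Cfsg.Agent.Lib.Helper71.Asch

variable {n : ℕ} {F : Type*} [Field F] [Fintype F]

/-- the `GL` element of a one-factor matrix with a given inverse -/
theorem MINA_h22_ex (e : Fin n ≃ (Fin 3 → Fin 2)) (P : GL (Fin n) F) (hglof : HGlof e P)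
    (i₀ : Fin 3) (y z : Matrix (Fin 2) (Fin 2) F) (hyz : y * z = 1) :
    ∃ g : GL (Fin n) F, g.1 = tw e P (iota i₀ y) ∧
      (g⁻¹ : GL (Fin n) F).1 = tw e P (iota i₀ z) := by
  obtain ⟨g, hg1, hg2⟩ := hglof (Function.update (fun _ => 1) i₀ y)
    (Function.update (fun _ => 1) i₀ z) (by
      intro i
      by_cases h : i = i₀
      · subst h
        rw [Function.update_self, Function.update_self, hyz]
      · rw [Function.update_of_ne h, Function.update_of_ne h, mul_one])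
  exact ⟨g, by rw [hg1, iota_eq_pt], by rw [hg2, iota_eq_pt]⟩

/-- MINA. -/
theorem MINA (f : (Fin n → F) → (Fin n → F) → F) (e : Fin n ≃ (Fin 3 → Fin 2)) (P : GL (Fin n) F)
    (hgen : HQgen F) (hmul : HQmul F) (hinv : HQinv F) (hconj : HQconj F) (hglof : HGlof e P)
    (hpg : HPureG f e P) (L' : Subgroup (GL (Fin n) F)) (hN : Nrm (Gsub f e P) L')
    (cs : Fin 3 → Matrix (Fin 2) (Fin 2) F) (hcs : ∀ i, IsQ (cs i)) (x : GL (Fin n) F)
    (hx : x ∈ L') (hxe : x.1 = tw e P (pt cs)) (i₀ : Fin 3) (h1 : cs i₀ ≠ 1) (h2 : cs i₀ ≠ -1) :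
    HasFactor e P L' i₀ := by
  classical
  have hG : ∀ g₂ h₂ : Matrix (Fin 2) (Fin 2) F, g₂.det = 1 → g₂ * h₂ = 1 →
      ∃ G₁ : GL (Fin n) F, G₁ ∈ Gsub f e P ∧ G₁.1 = tw e P (iota i₀ g₂) ∧
        (G₁⁻¹ : GL (Fin n) F).1 = tw e P (iota i₀ h₂) := by
    intro g₂ h₂ hdet hgh
    obtain ⟨G₁, e1, e2⟩ := MINA_h22_ex e P hglof i₀ g₂ h₂ hgh
    refine ⟨G₁, ?_, e1, e2⟩
    apply hpg (Function.update (fun _ => 1) i₀ g₂) _ G₁ (by rw [e1, iota_eq_pt])
    intro i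
    by_cases h : i = i₀
    · subst h
      rw [Function.update_self, hdet]
    · rw [Function.update_of_ne h, Matrix.det_one]
  have huniq : ∀ a b c : Matrix (Fin 2) (Fin 2) F, a * b = 1 → c * a = 1 → b = c := by
    intro a b c hab hca
    calc b = (c * a) * b := by rw [hca, one_mul]
      _ = c * (a * b) := by rw [mul_assoc]
      _ = c := by rw [hab, mul_one]
  obtain ⟨S, hS⟩ : ∃ S : Set (Matrix (Fin 2) (Fin 2) F),
      S = {y | IsQ y ∧ ∀ g : GL (Fin n) F, g.1 = tw e P (iota i₀ y) → g ∈ L'} := ⟨_, rfl⟩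
  have hmem : ∀ y, y ∈ S ↔
      (IsQ y ∧ ∀ g : GL (Fin n) F, g.1 = tw e P (iota i₀ y) → g ∈ L') := by
    intro y
    rw [hS]
    rfl
  have hSmul : ∀ y ∈ S, ∀ z ∈ S, y * z ∈ S := by
    intro y hy z hz
    rw [hmem] at hy hz ⊢
    refine ⟨hmul y z hy.1 hz.1, ?_⟩
    intro g hg
    obtain ⟨y', -, hyy', -⟩ := hinv y hy.1
    obtain ⟨z', -, hzz', -⟩ := hinv z hz.1
    obtain ⟨gy, e1, -⟩ := MINA_h22_ex e P hglof i₀ y y' hyy'
    obtain ⟨gz, e3, -⟩ := MINA_h22_ex e P hglof i₀ z z' hzz'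
    have hgy := hy.2 gy e1
    have hgz := hz.2 gz e3
    have heq : g = gy * gz := by
      apply Units.ext
      rw [Units.val_mul, hg, e1, e3, tw_mul, iota_mul]
    rw [heq]
    exact L'.mul_mem hgy hgz
  have hSconj : ∀ y ∈ S, ∀ g₂ h₂ : Matrix (Fin 2) (Fin 2) F, g₂.det = 1 → g₂ * h₂ = 1 →
      g₂ * y * h₂ ∈ S := by
    intro y hy g₂ h₂ hdet hgh
    rw [hmem] at hy ⊢
    refine ⟨hconj y hy.1 g₂ h₂ hgh, ?_⟩
    intro g hg
    obtain ⟨y', -, hyy', -⟩ := hinv y hy.1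
    obtain ⟨gy, e1, -⟩ := MINA_h22_ex e P hglof i₀ y y' hyy'
    obtain ⟨G₁, hG₁, e3, e4⟩ := hG g₂ h₂ hdet hgh
    have hgy := hy.2 gy e1
    have hc := hN G₁ hG₁ gy hgy
    have heq : g = G₁ * gy * G₁⁻¹ := by
      apply Units.ext
      rw [Units.val_mul, Units.val_mul, hg, e1, e3, e4, tw_mul, tw_mul, iota_mul, iota_mul]
    rw [heq]
    exact hc
  have hScomm : ∀ a' g₂ h₂ : Matrix (Fin 2) (Fin 2) F, cs i₀ * a' = 1 → g₂.det = 1 →
      g₂ * h₂ = 1 → a' * (g₂ * cs i₀ * h₂) ∈ S := by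
    intro a' g₂ h₂ haa' hdet hgh
    rw [hmem]
    choose ds hds using fun i => hinv (cs i) (hcs i)
    have hda : ds i₀ = a' := (huniq (cs i₀) a' (ds i₀) haa' (hds i₀).2.2).symm
    have hQa' : IsQ a' := hda ▸ (hds i₀).1
    refine ⟨hmul _ _ hQa' (hconj _ (hcs i₀) g₂ h₂ hgh), ?_⟩
    intro g hg
    obtain ⟨gx, e1, e2⟩ := hglof cs ds (fun i => (hds i).2.1)
    have hgx : gx = x := Units.ext (by rw [e1, hxe])
    rw [hgx] at e2
    obtain ⟨G₁, hG₁, e3, e4⟩ := hG g₂ h₂ hdet hgh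
    have hc := hN G₁ hG₁ x hx
    have hmem2 := L'.mul_mem (L'.inv_mem hx) hc
    have hpt : iota i₀ (a' * (g₂ * cs i₀ * h₂)) =
        pt ds * (iota i₀ g₂ * pt cs * iota i₀ h₂) := by
      rw [iota_eq_pt, iota_eq_pt, iota_eq_pt, pt_mul, pt_mul, pt_mul]
      congr 1
      funext i
      by_cases h : i = i₀
      · rw [h]
        simp only [Function.update_self]
        rw [hda]
      · simp only [Function.update_of_ne h]
        rw [one_mul, mul_one, (hds i).2.2]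
    have heq : g = x⁻¹ * (G₁ * x * G₁⁻¹) := by
      apply Units.ext
      rw [Units.val_mul, Units.val_mul, Units.val_mul, hg, e2, hxe, e3, e4, tw_mul, tw_mul, tw_mul,
        hpt]
    rw [heq]
    exact hmem2
  intro y hy g hg
  have hyS := hgen (cs i₀) (hcs i₀) h1 h2 S hSmul hSconj hScomm y hy
  rw [hmem] at hyS
  exact hyS.2 g hg

end Cfsg.Agent.Lib.Helper52.SP8EB
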