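import Mathlib

/-!
# Foundation for the Thompson lattice argument (blocks with a Sylow subgroup of prime order)

`X` is a `ℤ`-module with an endomorphism `σ` (in the applications `σ ^ p = 1`).
* `fixS σ`   : the fixed points `X^σ = ker (σ - 1)`
* `nrm p σ`  : the norm operator `1 + σ + ... + σ^(p-1)`
* `kerN p σ` : `ker (nrm p σ)`
* `imN p σ`  : `range (nrm p σ)`
* `imD σ`    : `range (σ - 1)`
* `QA p σ = X^σ / (N X ∩ X^σ)`  (Tate `H^0`),  `QB p σ = ker N / (D X ∩ ker N)` (Tate `H^{-1}`)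
* `IndA p σ φ f` : the endomorphism `φ` of `X` preserves `X^σ` and induces `f` on `QA p σ`
* `IndB p σ φ f` : the endomorphism `φ` of `X` preserves `ker N` and induces `f` on `QB p σ`
-/

namespace Cfsg.Agent.Lib.Helper22.TA

variable {X : Type*} [AddCommGroup X]

/-- fixed points of `σ` -/
def fixS (σ : X →ₗ[ℤ] X) : Submodule ℤ X := LinearMap.ker (σ - 1)

/-- the norm operator `1 + σ + ... + σ^(p-1)` -/
def nrm (p : ℕ) (σ : X →ₗ[ℤ] X) : X →ₗ[ℤ] X := ∑ i ∈ Finset.range p, σ ^ i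

/-- kernel of the norm -/
def kerN (p : ℕ) (σ : X →ₗ[ℤ] X) : Submodule ℤ X := LinearMap.ker (nrm p σ)

/-- image of the norm -/
def imN (p : ℕ) (σ : X →ₗ[ℤ] X) : Submodule ℤ X := LinearMap.range (nrm p σ)

/-- image of `σ - 1` -/
def imD (σ : X →ₗ[ℤ] X) : Submodule ℤ X := LinearMap.range (σ - 1)

theorem mem_fixS {σ : X →ₗ[ℤ] X} {v : X} : v ∈ fixS σ ↔ σ v = v := by
  unfold fixS
  rw [LinearMap.mem_ker, LinearMap.sub_apply, Module.End.one_apply, sub_eq_zero]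

theorem mem_kerN {p : ℕ} {σ : X →ₗ[ℤ] X} {v : X} : v ∈ kerN p σ ↔ nrm p σ v = 0 :=
  LinearMap.mem_ker

theorem mem_imN {p : ℕ} {σ : X →ₗ[ℤ] X} {v : X} : v ∈ imN p σ ↔ ∃ w, nrm p σ w = v :=
  LinearMap.mem_range

theorem mem_imD {σ : X →ₗ[ℤ] X} {v : X} : v ∈ imD σ ↔ ∃ w, σ w - w = v := by
  unfold imD
  rw [LinearMap.mem_range]
  simp only [LinearMap.sub_apply, Module.End.one_apply]

theorem nrm_apply (p : ℕ) (σ : X →ₗ[ℤ] X) (v : X) :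
    nrm p σ v = ∑ i ∈ Finset.range p, (σ ^ i) v := by
  unfold nrm
  rw [LinearMap.sum_apply]

/-- Tate `H^0`: `X^σ / N X`. -/
abbrev QA (p : ℕ) (σ : X →ₗ[ℤ] X) : Type _ := ↥(fixS σ) ⧸ (imN p σ).submoduleOf (fixS σ)

/-- Tate `H^{-1}`: `ker N / (σ - 1) X`. -/
abbrev QB (p : ℕ) (σ : X →ₗ[ℤ] X) : Type _ := ↥(kerN p σ) ⧸ (imD σ).submoduleOf (kerN p σ)

/-- the class in `QA` of a fixed vector -/
def mkA (p : ℕ) (σ : X →ₗ[ℤ] X) (v : X) (hv : v ∈ fixS σ) : QA p σ :=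
  Submodule.Quotient.mk ⟨v, hv⟩

/-- the class in `QB` of a vector of norm zero -/
def mkB (p : ℕ) (σ : X →ₗ[ℤ] X) (v : X) (hv : v ∈ kerN p σ) : QB p σ :=
  Submodule.Quotient.mk ⟨v, hv⟩

theorem mkA_surjective (p : ℕ) (σ : X →ₗ[ℤ] X) (a : QA p σ) :
    ∃ (v : X) (hv : v ∈ fixS σ), mkA p σ v hv = a := by
  obtain ⟨⟨v, hv⟩, rfl⟩ := Submodule.Quotient.mk_surjective _ a
  exact ⟨v, hv, rfl⟩

theorem mkB_surjective (p : ℕ) (σ : X →ₗ[ℤ] X) (b : QB p σ) :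
    ∃ (v : X) (hv : v ∈ kerN p σ), mkB p σ v hv = b := by
  obtain ⟨⟨v, hv⟩, rfl⟩ := Submodule.Quotient.mk_surjective _ b
  exact ⟨v, hv, rfl⟩

theorem mkA_eq_mkA {p : ℕ} {σ : X →ₗ[ℤ] X} {v w : X} (hv : v ∈ fixS σ) (hw : w ∈ fixS σ) :
    mkA p σ v hv = mkA p σ w hw ↔ v - w ∈ imN p σ := by
  unfold mkA
  rw [Submodule.Quotient.eq]
  exact Iff.rfl

theorem mkB_eq_mkB {p : ℕ} {σ : X →ₗ[ℤ] X} {v w : X} (hv : v ∈ kerN p σ) (hw : w ∈ kerN p σ) :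
    mkB p σ v hv = mkB p σ w hw ↔ v - w ∈ imD σ := by
  unfold mkB
  rw [Submodule.Quotient.eq]
  exact Iff.rfl

theorem mkA_eq_zero {p : ℕ} {σ : X →ₗ[ℤ] X} {v : X} (hv : v ∈ fixS σ) :
    mkA p σ v hv = 0 ↔ v ∈ imN p σ := by
  unfold mkA
  rw [Submodule.Quotient.mk_eq_zero]
  exact Iff.rfl

theorem mkB_eq_zero {p : ℕ} {σ : X →ₗ[ℤ] X} {v : X} (hv : v ∈ kerN p σ) :
    mkB p σ v hv = 0 ↔ v ∈ imD σ := by
  unfold mkB
  rw [Submodule.Quotient.mk_eq_zero]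
  exact Iff.rfl

theorem mkA_add {p : ℕ} {σ : X →ₗ[ℤ] X} {v w : X} (hv : v ∈ fixS σ) (hw : w ∈ fixS σ) :
    mkA p σ (v + w) ((fixS σ).add_mem hv hw) = mkA p σ v hv + mkA p σ w hw := rfl

theorem mkB_add {p : ℕ} {σ : X →ₗ[ℤ] X} {v w : X} (hv : v ∈ kerN p σ) (hw : w ∈ kerN p σ) :
    mkB p σ (v + w) ((kerN p σ).add_mem hv hw) = mkB p σ v hv + mkB p σ w hw := rfl

theorem mkA_smul {p : ℕ} {σ : X →ₗ[ℤ] X} (c : ℤ) {v : X} (hv : v ∈ fixS σ) :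
    mkA p σ (c • v) ((fixS σ).smul_mem c hv) = c • mkA p σ v hv := rfl

theorem mkB_smul {p : ℕ} {σ : X →ₗ[ℤ] X} (c : ℤ) {v : X} (hv : v ∈ kerN p σ) :
    mkB p σ (c • v) ((kerN p σ).smul_mem c hv) = c • mkB p σ v hv := rfl

/-- `φ` preserves `X^σ` and induces `f` on `QA p σ`. -/
def IndA (p : ℕ) (σ φ : X →ₗ[ℤ] X) (f : QA p σ →ₗ[ℤ] QA p σ) : Prop :=
  ∀ (v : X) (hv : v ∈ fixS σ), ∃ hw : φ v ∈ fixS σ, f (mkA p σ v hv) = mkA p σ (φ v) hw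

/-- `φ` preserves `ker N` and induces `f` on `QB p σ`. -/
def IndB (p : ℕ) (σ φ : X →ₗ[ℤ] X) (f : QB p σ →ₗ[ℤ] QB p σ) : Prop :=
  ∀ (v : X) (hv : v ∈ kerN p σ), ∃ hw : φ v ∈ kerN p σ, f (mkB p σ v hv) = mkB p σ (φ v) hw

section api

variable {p : ℕ} {σ : X →ₗ[ℤ] X}

theorem IndA.unique {φ : X →ₗ[ℤ] X} {f g : QA p σ →ₗ[ℤ] QA p σ}
    (hf : IndA p σ φ f) (hg : IndA p σ φ g) : f = g := by
  apply LinearMap.ext
  intro a
  obtain ⟨v, hv, rfl⟩ := mkA_surjective p σ a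
  obtain ⟨_, h1⟩ := hf v hv
  obtain ⟨_, h2⟩ := hg v hv
  rw [h1, h2]

theorem IndB.unique {φ : X →ₗ[ℤ] X} {f g : QB p σ →ₗ[ℤ] QB p σ}
    (hf : IndB p σ φ f) (hg : IndB p σ φ g) : f = g := by
  apply LinearMap.ext
  intro a
  obtain ⟨v, hv, rfl⟩ := mkB_surjective p σ a
  obtain ⟨_, h1⟩ := hf v hv
  obtain ⟨_, h2⟩ := hg v hv
  rw [h1, h2]

theorem IndA.one : IndA p σ (1 : X →ₗ[ℤ] X) 1 := fun _ hv => ⟨hv, rfl⟩

theorem IndB.one : IndB p σ (1 : X →ₗ[ℤ] X) 1 := fun _ hv => ⟨hv, rfl⟩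

theorem IndA.id : IndA p σ (LinearMap.id : X →ₗ[ℤ] X) LinearMap.id := fun _ hv => ⟨hv, rfl⟩

theorem IndB.id : IndB p σ (LinearMap.id : X →ₗ[ℤ] X) LinearMap.id := fun _ hv => ⟨hv, rfl⟩

theorem IndA.zero : IndA p σ (0 : X →ₗ[ℤ] X) 0 := fun _ _ => ⟨(fixS σ).zero_mem, rfl⟩

theorem IndB.zero : IndB p σ (0 : X →ₗ[ℤ] X) 0 := fun _ _ => ⟨(kerN p σ).zero_mem, rfl⟩

theorem IndA.comp {φ ψ : X →ₗ[ℤ] X} {f g : QA p σ →ₗ[ℤ] QA p σ}
    (hf : IndA p σ φ f) (hg : IndA p σ ψ g) : IndA p σ (φ ∘ₗ ψ) (f ∘ₗ g) := by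
  intro v hv
  obtain ⟨hw, h1⟩ := hg v hv
  obtain ⟨hw2, h2⟩ := hf (ψ v) hw
  exact ⟨hw2, by rw [LinearMap.comp_apply, h1, h2]; rfl⟩

theorem IndB.comp {φ ψ : X →ₗ[ℤ] X} {f g : QB p σ →ₗ[ℤ] QB p σ}
    (hf : IndB p σ φ f) (hg : IndB p σ ψ g) : IndB p σ (φ ∘ₗ ψ) (f ∘ₗ g) := by
  intro v hv
  obtain ⟨hw, h1⟩ := hg v hv
  obtain ⟨hw2, h2⟩ := hf (ψ v) hw
  exact ⟨hw2, by rw [LinearMap.comp_apply, h1, h2]; rfl⟩

theorem IndA.mul {φ ψ : X →ₗ[ℤ] X} {f g : QA p σ →ₗ[ℤ] QA p σ}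
    (hf : IndA p σ φ f) (hg : IndA p σ ψ g) : IndA p σ (φ * ψ) (f * g) := hf.comp hg

theorem IndB.mul {φ ψ : X →ₗ[ℤ] X} {f g : QB p σ →ₗ[ℤ] QB p σ}
    (hf : IndB p σ φ f) (hg : IndB p σ ψ g) : IndB p σ (φ * ψ) (f * g) := hf.comp hg

theorem IndA.add {φ ψ : X →ₗ[ℤ] X} {f g : QA p σ →ₗ[ℤ] QA p σ}
    (hf : IndA p σ φ f) (hg : IndA p σ ψ g) : IndA p σ (φ + ψ) (f + g) := by
  intro v hv
  obtain ⟨hw, h1⟩ := hf v hv
  obtain ⟨hw2, h2⟩ := hg v hv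
  exact ⟨(fixS σ).add_mem hw hw2, by rw [LinearMap.add_apply, h1, h2]; rfl⟩

theorem IndB.add {φ ψ : X →ₗ[ℤ] X} {f g : QB p σ →ₗ[ℤ] QB p σ}
    (hf : IndB p σ φ f) (hg : IndB p σ ψ g) : IndB p σ (φ + ψ) (f + g) := by
  intro v hv
  obtain ⟨hw, h1⟩ := hf v hv
  obtain ⟨hw2, h2⟩ := hg v hv
  exact ⟨(kerN p σ).add_mem hw hw2, by rw [LinearMap.add_apply, h1, h2]; rfl⟩

theorem IndA.smul {φ : X →ₗ[ℤ] X} {f : QA p σ →ₗ[ℤ] QA p σ} (c : ℤ)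
    (hf : IndA p σ φ f) : IndA p σ (c • φ) (c • f) := by
  intro v hv
  obtain ⟨hw, h1⟩ := hf v hv
  exact ⟨(fixS σ).smul_mem c hw, by rw [LinearMap.smul_apply, h1]; rfl⟩

theorem IndB.smul {φ : X →ₗ[ℤ] X} {f : QB p σ →ₗ[ℤ] QB p σ} (c : ℤ)
    (hf : IndB p σ φ f) : IndB p σ (c • φ) (c • f) := by
  intro v hv
  obtain ⟨hw, h1⟩ := hf v hv
  exact ⟨(kerN p σ).smul_mem c hw, by rw [LinearMap.smul_apply, h1]; rfl⟩

theorem IndA.neg {φ : X →ₗ[ℤ] X} {f : QA p σ →ₗ[ℤ] QA p σ}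
    (hf : IndA p σ φ f) : IndA p σ (-φ) (-f) := by
  have := hf.smul (-1)
  simpa using this

theorem IndB.neg {φ : X →ₗ[ℤ] X} {f : QB p σ →ₗ[ℤ] QB p σ}
    (hf : IndB p σ φ f) : IndB p σ (-φ) (-f) := by
  have := hf.smul (-1)
  simpa using this

theorem IndA.sub {φ ψ : X →ₗ[ℤ] X} {f g : QA p σ →ₗ[ℤ] QA p σ}
    (hf : IndA p σ φ f) (hg : IndA p σ ψ g) : IndA p σ (φ - ψ) (f - g) := by
  rw [sub_eq_add_neg, sub_eq_add_neg]
  exact hf.add hg.neg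

theorem IndB.sub {φ ψ : X →ₗ[ℤ] X} {f g : QB p σ →ₗ[ℤ] QB p σ}
    (hf : IndB p σ φ f) (hg : IndB p σ ψ g) : IndB p σ (φ - ψ) (f - g) := by
  rw [sub_eq_add_neg, sub_eq_add_neg]
  exact hf.add hg.neg

theorem IndA.pow {φ : X →ₗ[ℤ] X} {f : QA p σ →ₗ[ℤ] QA p σ}
    (hf : IndA p σ φ f) (n : ℕ) : IndA p σ (φ ^ n) (f ^ n) := by
  induction n with
  | zero => simpa using (IndA.one (p := p) (σ := σ))
  | succ n ih => rw [pow_succ, pow_succ]; exact ih.mul hf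

theorem IndB.pow {φ : X →ₗ[ℤ] X} {f : QB p σ →ₗ[ℤ] QB p σ}
    (hf : IndB p σ φ f) (n : ℕ) : IndB p σ (φ ^ n) (f ^ n) := by
  induction n with
  | zero => simpa using (IndB.one (p := p) (σ := σ))
  | succ n ih => rw [pow_succ, pow_succ]; exact ih.mul hf

theorem IndA.sum {ι : Type*} (s : Finset ι) {φ : ι → X →ₗ[ℤ] X}
    {f : ι → QA p σ →ₗ[ℤ] QA p σ} (h : ∀ i ∈ s, IndA p σ (φ i) (f i)) :
    IndA p σ (∑ i ∈ s, φ i) (∑ i ∈ s, f i) := by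
  classical
  induction s using Finset.induction_on with
  | empty => simpa using (IndA.zero (p := p) (σ := σ))
  | insert a s ha ih =>
    rw [Finset.sum_insert ha, Finset.sum_insert ha]
    exact (h a (Finset.mem_insert_self a s)).add
      (ih fun i hi => h i (Finset.mem_insert_of_mem hi))

theorem IndB.sum {ι : Type*} (s : Finset ι) {φ : ι → X →ₗ[ℤ] X}
    {f : ι → QB p σ →ₗ[ℤ] QB p σ} (h : ∀ i ∈ s, IndB p σ (φ i) (f i)) :
    IndB p σ (∑ i ∈ s, φ i) (∑ i ∈ s, f i) := by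
  classical
  induction s using Finset.induction_on with
  | empty => simpa using (IndB.zero (p := p) (σ := σ))
  | insert a s ha ih =>
    rw [Finset.sum_insert ha, Finset.sum_insert ha]
    exact (h a (Finset.mem_insert_self a s)).add
      (ih fun i hi => h i (Finset.mem_insert_of_mem hi))

/-- a map sending `X^σ` into `N X` induces `0` on `QA`. -/
theorem IndA.of_mapsTo {φ : X →ₗ[ℤ] X} (h : ∀ v ∈ fixS σ, φ v ∈ imN p σ)
    (hN : imN p σ ≤ fixS σ) : IndA p σ φ 0 := by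
  intro v hv
  refine ⟨hN (h v hv), ?_⟩
  rw [LinearMap.zero_apply]
  exact ((mkA_eq_zero _).2 (h v hv)).symm

/-- a map sending `ker N` into `(σ - 1) X` induces `0` on `QB`. -/
theorem IndB.of_mapsTo {φ : X →ₗ[ℤ] X} (h : ∀ v ∈ kerN p σ, φ v ∈ imD σ)
    (hD : imD σ ≤ kerN p σ) : IndB p σ φ 0 := by
  intro v hv
  refine ⟨hD (h v hv), ?_⟩
  rw [LinearMap.zero_apply]
  exact ((mkB_eq_zero _).2 (h v hv)).symm

theorem IndA.zero_iff {φ : X →ₗ[ℤ] X} (h : IndA p σ φ 0) :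
    ∀ v ∈ fixS σ, φ v ∈ imN p σ := by
  intro v hv
  obtain ⟨hw, h1⟩ := h v hv
  rw [LinearMap.zero_apply] at h1
  exact (mkA_eq_zero hw).1 h1.symm

theorem IndB.zero_iff {φ : X →ₗ[ℤ] X} (h : IndB p σ φ 0) :
    ∀ v ∈ kerN p σ, φ v ∈ imD σ := by
  intro v hv
  obtain ⟨hw, h1⟩ := h v hv
  rw [LinearMap.zero_apply] at h1
  exact (mkB_eq_zero hw).1 h1.symm

/-- an endomorphism commuting with `σ` induces a map on `QA`. -/
theorem IndA.exists_of_comm {φ : X →ₗ[ℤ] X} (h : φ ∘ₗ σ = σ ∘ₗ φ) :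
    ∃ f : QA p σ →ₗ[ℤ] QA p σ, IndA p σ φ f := by
  have hfix : ∀ v ∈ fixS σ, φ v ∈ fixS σ := by
    intro v hv
    rw [mem_fixS] at hv ⊢
    have := congrArg (fun F : X →ₗ[ℤ] X => F v) h
    simp only [LinearMap.comp_apply] at this
    rw [← this, hv]
  have hpow : ∀ i : ℕ, ∀ w, φ ((σ ^ i) w) = (σ ^ i) (φ w) := by
    intro i
    induction i with
    | zero => intro w; simp
    | succ i ih =>
      intro w
      rw [pow_succ, Module.End.mul_apply, ih, Module.End.mul_apply]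
      have := congrArg (fun F : X →ₗ[ℤ] X => F w) h
      simp only [LinearMap.comp_apply] at this
      rw [this]
  have hN : ∀ v ∈ imN p σ, φ v ∈ imN p σ := by
    intro v hv
    obtain ⟨w, rfl⟩ := mem_imN.1 hv
    refine mem_imN.2 ⟨φ w, ?_⟩
    rw [nrm_apply, nrm_apply, map_sum]
    exact Finset.sum_congr rfl fun i _ => (hpow i w).symm
  refine ⟨Submodule.mapQ _ _ (φ.restrict hfix) ?_, ?_⟩
  · intro ⟨v, hv⟩ hv'
    exact hN v hv'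
  · intro v hv
    exact ⟨hfix v hv, rfl⟩

/-- an endomorphism commuting with `σ` induces a map on `QB`. -/
theorem IndB.exists_of_comm {φ : X →ₗ[ℤ] X} (h : φ ∘ₗ σ = σ ∘ₗ φ) :
    ∃ f : QB p σ →ₗ[ℤ] QB p σ, IndB p σ φ f := by
  have hpow : ∀ i : ℕ, ∀ w, φ ((σ ^ i) w) = (σ ^ i) (φ w) := by
    intro i
    induction i with
    | zero => intro w; simp
    | succ i ih =>
      intro w
      rw [pow_succ, Module.End.mul_apply, ih, Module.End.mul_apply]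
      have := congrArg (fun F : X →ₗ[ℤ] X => F w) h
      simp only [LinearMap.comp_apply] at this
      rw [this]
  have hker : ∀ v ∈ kerN p σ, φ v ∈ kerN p σ := by
    intro v hv
    rw [mem_kerN] at hv ⊢
    rw [nrm_apply]
    have : ∑ i ∈ Finset.range p, (σ ^ i) (φ v) = φ (nrm p σ v) := by
      rw [nrm_apply, map_sum]
      exact Finset.sum_congr rfl fun i _ => (hpow i v).symm
    rw [this, hv, map_zero]
  have hD : ∀ v ∈ imD σ, φ v ∈ imD σ := by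
    intro v hv
    obtain ⟨w, rfl⟩ := mem_imD.1 hv
    refine mem_imD.2 ⟨φ w, ?_⟩
    rw [map_sub]
    have := congrArg (fun F : X →ₗ[ℤ] X => F w) h
    simp only [LinearMap.comp_apply] at this
    rw [this]
  refine ⟨Submodule.mapQ _ _ (φ.restrict hker) ?_, ?_⟩
  · intro ⟨v, hv⟩ hv'
    exact hD v hv'
  · intro v hv
    exact ⟨hker v hv, rfl⟩

/-- `p` kills `QA`. -/
theorem p_smul_QA (a : QA p σ) : (p : ℤ) • a = 0 := by
  obtain ⟨v, hv, rfl⟩ := mkA_surjective p σ a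
  rw [← mkA_smul, mkA_eq_zero]
  refine mem_imN.2 ⟨v, ?_⟩
  rw [nrm_apply]
  have h : ∀ i : ℕ, (σ ^ i) v = v := by
    intro i
    induction i with
    | zero => simp
    | succ i ih => rw [pow_succ, Module.End.mul_apply, mem_fixS.1 hv, ih]
  rw [Finset.sum_congr rfl fun i _ => h i, Finset.sum_const, Finset.card_range]
  simp

/-- `σ ^ i - 1` maps into `range (σ - 1)`. -/
theorem pow_sub_mem_imD (i : ℕ) (v : X) : (σ ^ i) v - v ∈ imD σ := by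
  induction i with
  | zero => simp
  | succ i ih =>
    have : (σ ^ (i + 1)) v - v = (σ ((σ ^ i) v) - (σ ^ i) v) + ((σ ^ i) v - v) := by
      rw [pow_succ', Module.End.mul_apply]; abel
    rw [this]
    exact (imD σ).add_mem (mem_imD.2 ⟨_, rfl⟩) ih

/-- `p` kills `QB`. -/
theorem p_smul_QB (b : QB p σ) : (p : ℤ) • b = 0 := by
  obtain ⟨v, hv, rfl⟩ := mkB_surjective p σ b
  rw [← mkB_smul, mkB_eq_zero]
  have h1 : (p : ℤ) • v = - ∑ i ∈ Finset.range p, ((σ ^ i) v - v) := by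
    rw [Finset.sum_sub_distrib, ← nrm_apply, mem_kerN.1 hv, Finset.sum_const, Finset.card_range]
    simp
  rw [h1]
  exact (imD σ).neg_mem ((imD σ).sum_mem fun i _ => pow_sub_mem_imD i v)

end api

end Cfsg.Agent.Lib.Helper22.TA
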