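import Cfsg.Agent.Lib.Helper22.TA0

/-!
# Thompson lattice argument: group-theoretic and elementary lemmas
-/

set_option autoImplicit false

namespace Cfsg.Agent.Lib.Helper22.TA

section grp

variable {G : Type*} [Group G] [Finite G]

/-- An element of order dividing `p` commuting with `z` of order `p` lies in `⟨z⟩` when
`p ^ 2 ∤ |G|`. -/
theorem mem_zpowers_of_pow_eq_one (p : ℕ) [Fact p.Prime] (z x : G) (hz : orderOf z = p)
    (hp2 : ¬ p ^ 2 ∣ Nat.card G) (hx : x * z = z * x) (hxp : x ^ p = 1) :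
    x ∈ Subgroup.zpowers z := by
  have hp := (Fact.out : p.Prime)
  by_contra hnot
  have hx1 : x ≠ 1 := fun h => hnot (h ▸ one_mem _)
  have hox : orderOf x = p := orderOf_eq_prime hxp hx1
  have hcomm : ∀ (a : ↥(Subgroup.zpowers z)) (b : ↥(Subgroup.zpowers x)),
      Commute ((Subgroup.zpowers z).subtype a) ((Subgroup.zpowers x).subtype b) := by
    rintro ⟨a, ha⟩ ⟨b, hb⟩
    obtain ⟨i, rfl⟩ := Subgroup.mem_zpowers_iff.1 ha
    obtain ⟨j, rfl⟩ := Subgroup.mem_zpowers_iff.1 hb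
    have h0 : Commute z x := hx.symm
    exact (h0.zpow_left i).zpow_right j
  let f : ↥(Subgroup.zpowers z) × ↥(Subgroup.zpowers x) →* G :=
    MonoidHom.noncommCoprod (Subgroup.zpowers z).subtype (Subgroup.zpowers x).subtype hcomm
  have hinj : Function.Injective f := by
    rw [injective_iff_map_eq_one]
    rintro ⟨⟨a, ha⟩, ⟨b, hb⟩⟩ hab
    have hab' : a * b = 1 := hab
    have ha2 : a ∈ Subgroup.zpowers x := by
      have : a = b⁻¹ := eq_inv_of_mul_eq_one_left hab'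
      rw [this]
      exact inv_mem hb
    have ha1 : a = 1 := by
      by_contra hne
      have hap : a ^ p = 1 := by
        obtain ⟨i, rfl⟩ := Subgroup.mem_zpowers_iff.1 ha
        rw [← zpow_natCast, ← zpow_mul, mul_comm, zpow_mul, zpow_natCast, ← hz,
          pow_orderOf_eq_one, one_zpow]
      have hoa : orderOf a = p := orderOf_eq_prime hap hne
      have hle : Subgroup.zpowers a ≤ Subgroup.zpowers x := (Subgroup.zpowers_le).2 ha2
      have heq : Subgroup.zpowers a = Subgroup.zpowers x := by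
        apply Subgroup.eq_of_le_of_card_ge hle
        rw [Nat.card_zpowers, Nat.card_zpowers, hoa, hox]
      have hxa : x ∈ Subgroup.zpowers a := by
        rw [heq]; exact Subgroup.mem_zpowers x
      exact hnot ((Subgroup.zpowers_le).2 ha hxa)
    have hb1 : b = 1 := by rw [ha1, one_mul] at hab'; exact hab'
    subst ha1; subst hb1; rfl
  have hdvd := Subgroup.card_dvd_of_injective f hinj
  rw [Nat.card_prod, Nat.card_zpowers, Nat.card_zpowers, hz, hox, ← sq] at hdvd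
  exact hp2 hdvd

/-- commutators of elements of the normalizer of `⟨z⟩` centralize `z`. -/
theorem normalizer_comm_mem (z n₁ n₂ : G)
    (h₁ : n₁ ∈ Subgroup.normalizer ((Subgroup.zpowers z : Subgroup G) : Set G))
    (h₂ : n₂ ∈ Subgroup.normalizer ((Subgroup.zpowers z : Subgroup G) : Set G)) :
    ((n₂ * n₁)⁻¹ * (n₁ * n₂)) * z = z * ((n₂ * n₁)⁻¹ * (n₁ * n₂)) := by
  have e₁ : n₁ * z * n₁⁻¹ ∈ Subgroup.zpowers z :=
    (Subgroup.mem_normalizer_iff.1 h₁ z).1 (Subgroup.mem_zpowers z)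
  have e₂ : n₂ * z * n₂⁻¹ ∈ Subgroup.zpowers z :=
    (Subgroup.mem_normalizer_iff.1 h₂ z).1 (Subgroup.mem_zpowers z)
  obtain ⟨i, hi⟩ := Subgroup.mem_zpowers_iff.1 e₁
  obtain ⟨j, hj⟩ := Subgroup.mem_zpowers_iff.1 e₂
  have k1 : n₁ * n₂ * z * (n₁ * n₂)⁻¹ = z ^ (i * j) := by
    calc n₁ * n₂ * z * (n₁ * n₂)⁻¹ = n₁ * (n₂ * z * n₂⁻¹) * n₁⁻¹ := by group
      _ = n₁ * z ^ j * n₁⁻¹ := by rw [hj]
      _ = (n₁ * z * n₁⁻¹) ^ j := (conj_zpow).symm
      _ = z ^ (i * j) := by rw [← hi, zpow_mul]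
  have k2 : n₂ * n₁ * z * (n₂ * n₁)⁻¹ = z ^ (i * j) := by
    calc n₂ * n₁ * z * (n₂ * n₁)⁻¹ = n₂ * (n₁ * z * n₁⁻¹) * n₂⁻¹ := by group
      _ = n₂ * z ^ i * n₂⁻¹ := by rw [hi]
      _ = (n₂ * z * n₂⁻¹) ^ i := (conj_zpow).symm
      _ = z ^ (i * j) := by rw [← hj, mul_comm i j, zpow_mul]
  calc ((n₂ * n₁)⁻¹ * (n₁ * n₂)) * z
      = (n₂ * n₁)⁻¹ * (n₁ * n₂ * z * (n₁ * n₂)⁻¹) * (n₁ * n₂) := by group
    _ = (n₂ * n₁)⁻¹ * (n₂ * n₁ * z * (n₂ * n₁)⁻¹) * (n₁ * n₂) := by rw [k1, k2]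
    _ = z * ((n₂ * n₁)⁻¹ * (n₁ * n₂)) := by group

/-- the `(p-1)`-th power of an element of the normalizer of `⟨z⟩` centralizes `z`. -/
theorem normalizer_pow_mem (p : ℕ) [Fact p.Prime] (z n : G) (hz : orderOf z = p)
    (h : n ∈ Subgroup.normalizer ((Subgroup.zpowers z : Subgroup G) : Set G)) :
    n ^ (p - 1) * z = z * n ^ (p - 1) := by
  have hp := (Fact.out : p.Prime)
  have e : n * z * n⁻¹ ∈ Subgroup.zpowers z :=
    (Subgroup.mem_normalizer_iff.1 h z).1 (Subgroup.mem_zpowers z)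
  obtain ⟨i, hi⟩ := Subgroup.mem_zpowers_iff.1 e
  have hpow : ∀ m : ℕ, n ^ m * z * (n ^ m)⁻¹ = z ^ (i ^ m) := by
    intro m
    induction m with
    | zero => simp
    | succ m ih =>
      calc n ^ (m + 1) * z * (n ^ (m + 1))⁻¹ = n * (n ^ m * z * (n ^ m)⁻¹) * n⁻¹ := by
            rw [pow_succ']; group
        _ = n * z ^ (i ^ m) * n⁻¹ := by rw [ih]
        _ = (n * z * n⁻¹) ^ (i ^ m) := (conj_zpow).symm
        _ = z ^ (i ^ (m + 1)) := by rw [← hi, ← zpow_mul, pow_succ']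
  have hz1 : z ≠ 1 := by
    intro h1
    rw [h1, orderOf_one] at hz
    exact hp.one_lt.ne hz
  have hnd : ¬ (p : ℤ) ∣ i := by
    intro hd
    have : z ^ i = 1 := by
      obtain ⟨c, rfl⟩ := hd
      rw [zpow_mul, zpow_natCast, ← hz, pow_orderOf_eq_one, one_zpow]
    rw [this] at hi
    apply hz1
    have h2 : n * z * n⁻¹ = 1 := hi.symm
    have h3 : n * z = n := by
      have := congrArg (fun w => w * n) h2
      simpa using this
    exact mul_eq_left.1 h3
  have hcop : IsCoprime i (p : ℤ) := by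
    rw [Int.isCoprime_iff_gcd_eq_one]
    have h0 : ¬ p ∣ i.natAbs := fun h => hnd (Int.natCast_dvd.2 h)
    have h1 : Nat.Coprime i.natAbs p := Nat.Coprime.symm ((Nat.Prime.coprime_iff_not_dvd hp).2 h0)
    simpa [Int.gcd] using h1
  have hfer : i ^ (p - 1) ≡ 1 [ZMOD (p : ℤ)] := Int.ModEq.pow_card_sub_one_eq_one hp hcop
  have hzz : z ^ (i ^ (p - 1)) = z ^ (1 : ℤ) := by
    rw [zpow_eq_zpow_iff_modEq, hz]
    exact hfer
  have := hpow (p - 1)
  rw [hzz, zpow_one] at this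
  exact mul_inv_eq_iff_eq_mul.1 this

end grp

section alg

/-- if `g ^ o = 1` and `u • (1 + g + ... + g^(o-1))` is surjective then `g = 1`. -/
theorem eq_one_of_avg_surj {W : Type*} [AddCommGroup W] (g : W →ₗ[ℤ] W) (o : ℕ) (u : ℤ)
    (hg : g ^ o = 1)
    (hsurj : Function.Surjective (u • ∑ i ∈ Finset.range o, g ^ i)) : g = 1 := by
  have h1 : (g - 1) * ∑ i ∈ Finset.range o, g ^ i = 0 := by
    rw [mul_geom_sum, hg, sub_self]
  apply LinearMap.ext
  intro w
  obtain ⟨v, rfl⟩ := hsurj w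
  have h2 := congrArg (fun F : W →ₗ[ℤ] W => F v) h1
  simp only [Module.End.mul_apply, LinearMap.sub_apply, Module.End.one_apply,
    LinearMap.zero_apply] at h2
  rw [LinearMap.smul_apply, map_smul, Module.End.one_apply]
  rw [sub_eq_zero] at h2
  rw [h2]

/-- a submodule of a finite module with full cardinality: the map is surjective. -/
theorem surjective_of_card_range {W : Type*} [AddCommGroup W] [Finite W] (f : W →ₗ[ℤ] W)
    (h : Nat.card (LinearMap.range f) = Nat.card W) : Function.Surjective f := by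
  have hb : Function.Bijective (Subtype.val : ↥(LinearMap.range f) → W) :=
    Function.Injective.bijective_of_nat_card_le Subtype.val_injective h.ge
  intro w
  obtain ⟨⟨v, hv⟩, rfl⟩ := hb.2 w
  exact LinearMap.mem_range.1 hv

theorem card_range_one {W : Type*} [AddCommGroup W] :
    Nat.card (LinearMap.range (1 : W →ₗ[ℤ] W)) = Nat.card W := by
  have : LinearMap.range (1 : W →ₗ[ℤ] W) = ⊤ := LinearMap.range_id
  rw [this]
  exact Nat.card_congr (Submodule.topEquiv (R := ℤ) (M := W)).toEquiv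

theorem card_range_zero {W : Type*} [AddCommGroup W] :
    Nat.card (LinearMap.range (0 : W →ₗ[ℤ] W)) = 1 := by
  rw [LinearMap.range_zero]
  exact Nat.card_unique

end alg

section tate

variable {X : Type*} [AddCommGroup X] (p : ℕ) (σ : X →ₗ[ℤ] X)

theorem indA_self : IndA p σ σ 1 := by
  obtain ⟨f, hf⟩ := IndA.exists_of_comm (p := p) (σ := σ) (φ := σ) rfl
  have : f = 1 := by
    apply LinearMap.ext
    intro a
    obtain ⟨v, hv, rfl⟩ := mkA_surjective p σ a
    obtain ⟨hw, h1⟩ := hf v hv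
    rw [h1, Module.End.one_apply]
    refine (mkA_eq_mkA hw hv).2 ?_
    rw [mem_fixS.1 hv, sub_self]
    exact zero_mem _
  exact this ▸ hf

theorem indB_self : IndB p σ σ 1 := by
  obtain ⟨f, hf⟩ := IndB.exists_of_comm (p := p) (σ := σ) (φ := σ) rfl
  have : f = 1 := by
    apply LinearMap.ext
    intro a
    obtain ⟨v, hv, rfl⟩ := mkB_surjective p σ a
    obtain ⟨hw, h1⟩ := hf v hv
    rw [h1, Module.End.one_apply]
    exact (mkB_eq_mkB hw hv).2 (mem_imD.2 ⟨v, rfl⟩)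
  exact this ▸ hf

theorem finite_QA [Module.Finite ℤ X] [Fact p.Prime] : Finite (QA p σ) := by
  apply Module.finite_of_fg_torsion
  intro a
  exact ⟨⟨(p : ℤ), mem_nonZeroDivisors_of_ne_zero
    (by exact_mod_cast (Fact.out : p.Prime).ne_zero)⟩, p_smul_QA a⟩

theorem finite_QB [Module.Finite ℤ X] [Fact p.Prime] : Finite (QB p σ) := by
  apply Module.finite_of_fg_torsion
  intro a
  exact ⟨⟨(p : ℤ), mem_nonZeroDivisors_of_ne_zero
    (by exact_mod_cast (Fact.out : p.Prime).ne_zero)⟩, p_smul_QB a⟩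

end tate

end Cfsg.Agent.Lib.Helper22.TA
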