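import Cfsg.Agent.Lib.Helper22.TAP
import Cfsg.Agent.Lib.Helper22.TA1

/-!
# Thompson lattice argument: the abstract theorem
-/

set_option autoImplicit false

namespace Cfsg.Agent.Lib.Helper22.TA

open Cfsg.Agent.Lib.Helper22.TAP

section main

variable {G : Type*} [Group G] [Fintype G]
variable {X : Type*} [AddCommGroup X] [Module.Free ℤ X] [Module.Finite ℤ X]

theorem comp_one' {M : Type*} [AddCommGroup M] (f : M →ₗ[ℤ] M) : f ∘ₗ (1 : M →ₗ[ℤ] M) = f :=
  LinearMap.comp_id f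

theorem one_comp' {M : Type*} [AddCommGroup M] (f : M →ₗ[ℤ] M) : (1 : M →ₗ[ℤ] M) ∘ₗ f = f :=
  LinearMap.id_comp f

theorem relIndex_not_dvd (p : ℕ) [Fact p.Prime] (z : G) (hz : orderOf z = p)
    (hp2 : ¬ p ^ 2 ∣ Nat.card G) :
    ¬ (p : ℤ) ∣ (((Subgroup.zpowers z).relIndex
          (Subgroup.normalizer ((Subgroup.zpowers z : Subgroup G) : Set G)) : ℕ) : ℤ) := by
  intro h
  have h' : p ∣ (Subgroup.zpowers z).relIndex
      (Subgroup.normalizer ((Subgroup.zpowers z : Subgroup G) : Set G)) := by exact_mod_cast h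
  apply hp2
  have hle : Subgroup.zpowers z ≤ Subgroup.normalizer ((Subgroup.zpowers z : Subgroup G) : Set G) :=
    Subgroup.le_normalizer
  have h1 : Nat.card (Subgroup.zpowers z) * (Subgroup.zpowers z).relIndex
      (Subgroup.normalizer ((Subgroup.zpowers z : Subgroup G) : Set G)) =
      Nat.card (Subgroup.normalizer ((Subgroup.zpowers z : Subgroup G) : Set G)) := by
    rw [Subgroup.relIndex, ← Subgroup.card_mul_index ((Subgroup.zpowers z).subgroupOf
      (Subgroup.normalizer ((Subgroup.zpowers z : Subgroup G) : Set G)))]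
    congr 1
    exact (Nat.card_congr (Subgroup.subgroupOfEquivOfLe hle).toEquiv).symm
  rw [Nat.card_zpowers, hz] at h1
  have h2 : Nat.card (Subgroup.normalizer ((Subgroup.zpowers z : Subgroup G) : Set G)) ∣
      Nat.card G := Subgroup.card_subgroup_dvd_card _
  rw [← h1] at h2
  rw [sq]
  exact (mul_dvd_mul_left p h').trans h2

theorem KI (p : ℕ) [Fact p.Prime] (z : G) (hz : orderOf z = p) (hp2 : ¬ p ^ 2 ∣ Nat.card G)
    (ρ : G →* (X →ₗ[ℤ] X)) (d : ℕ) (hd : 0 < d) (s : ℤ)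
    (H1 : ∀ lam : X →ₗ[ℤ] X, (∀ g, lam ∘ₗ ρ g = ρ g ∘ₗ lam) →
      (d : ℤ) * ∑ t ∈ Finset.Ico 1 p, LinearMap.trace ℤ X ((ρ z ^ t) ∘ₗ lam) =
        s * LinearMap.trace ℤ X lam)
    (H2 : ∀ k, 1 ≤ k → ∀ lam mu : X →ₗ[ℤ] X, (∀ g, lam ∘ₗ ρ g = ρ g ∘ₗ lam) →
      lam ∘ₗ lam - lam = ((p : ℤ) ^ k) • mu →
      ∃ t : ℕ, d * t ≤ Module.finrank ℤ X ∧
        LinearMap.trace ℤ X lam ≡ ((d : ℤ) * t) [ZMOD (p : ℤ) ^ k])
    (fA : QA p (ρ z) →ₗ[ℤ] QA p (ρ z)) (fB : QB p (ρ z) →ₗ[ℤ] QB p (ρ z))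
    (hfA : fA ∘ₗ fA = fA) (hfB : fB ∘ₗ fB = fB)
    (hAN : ∀ n ∈ Subgroup.normalizer ((Subgroup.zpowers z : Subgroup G) : Set G),
      ∀ g : QA p (ρ z) →ₗ[ℤ] QA p (ρ z), IndA p (ρ z) (ρ n) g → g ∘ₗ fA = fA ∘ₗ g)
    (hBN : ∀ n ∈ Subgroup.normalizer ((Subgroup.zpowers z : Subgroup G) : Set G),
      ∀ g : QB p (ρ z) →ₗ[ℤ] QB p (ρ z), IndB p (ρ z) (ρ n) g → g ∘ₗ fB = fB ∘ₗ g) :
    ∃ a b t : ℕ, Nat.card (LinearMap.range fA) = p ^ a ∧ Nat.card (LinearMap.range fB) = p ^ b ∧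
      ((p : ℤ) - 1) * ((a : ℤ) - (b : ℤ)) = s * (t : ℤ) := by
  have hp := (Fact.out : p.Prime)
  have hσ : ρ z ^ p = 1 := by rw [← map_pow, ← hz, pow_orderOf_eq_one, map_one]
  obtain ⟨ΦA, hΦA, hAA, hAB⟩ := liftA p (ρ z) hσ fA
  obtain ⟨ΦB, hΦB, hBA, hBB⟩ := liftB p (ρ z) hσ fB
  have hA : IndA p (ρ z) (ΦA + ΦB) fA := by simpa using hAA.add hBA
  have hB : IndB p (ρ z) (ΦA + ΦB) fB := by simpa using hAB.add hBB
  have hΦ : (ΦA + ΦB) ∘ₗ ρ z = ρ z ∘ₗ (ΦA + ΦB) := by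
    rw [LinearMap.add_comp, LinearMap.comp_add, hΦA, hΦB]
  obtain ⟨lam0, hlam0, h0A, h0B⟩ := transfer p z hz ρ (ΦA + ΦB) hΦ fA fB hA hB hAN hBN
  have hcp := relIndex_not_dvd p z hz hp2
  set n := Module.finrank ℤ X with hn
  set k : ℕ := d * p * n + s.natAbs * n + 1 with hk
  have hlam0S : lam0 ∈ Subring.centralizer (Set.range ρ) := by
    rw [Subring.mem_centralizer_iff]
    rintro _ ⟨g, rfl⟩
    exact (hlam0 g).symm
  obtain ⟨lam, hlamS, mu, hidem, hlA, hlB⟩ := approx_idem p (ρ z)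
    (Subring.centralizer (Set.range ρ)) lam0 hlam0S _ hcp fA fB hfA hfB h0A h0B k
  have hlamc : ∀ g, lam ∘ₗ ρ g = ρ g ∘ₗ lam := by
    intro g
    rw [Subring.mem_centralizer_iff] at hlamS
    exact (hlamS (ρ g) ⟨g, rfl⟩).symm
  obtain ⟨a, b, ha, hb, hcA, hcB, hcong⟩ :=
    herbrand p (ρ z) hσ k (by omega) lam mu (hlamc z) hidem fA fB hlA hlB
  obtain ⟨t, ht, hcong2⟩ := H2 k (by omega) lam mu hlamc hidem
  have h1 := H1 lam hlamc
  refine ⟨a, b, t, hcA, hcB, ?_⟩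
  have hdiv : ((p : ℤ) ^ k) ∣
      (d : ℤ) * (((p : ℤ) - 1) * ((a : ℤ) - (b : ℤ))) - s * ((d : ℤ) * t) := by
    have e1 := hcong.mul_left (d : ℤ)
    have e2 := hcong2.mul_left s
    rw [h1] at e1
    exact (e1.symm.trans e2).symm.dvd
  have hp1 : (1 : ℤ) ≤ p := by exact_mod_cast hp.one_lt.le
  have hd0 : (0 : ℤ) ≤ d := by positivity
  have han : (a : ℤ) ≤ n := by exact_mod_cast ha
  have hbn : (b : ℤ) ≤ n := by exact_mod_cast hb
  have ha0 : (0 : ℤ) ≤ a := by positivity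
  have hb0 : (0 : ℤ) ≤ b := by positivity
  have hn0 : (0 : ℤ) ≤ n := by positivity
  have hdt : (d : ℤ) * t ≤ n := by exact_mod_cast ht
  have hdt0 : (0 : ℤ) ≤ (d : ℤ) * t := by positivity
  have hX1 : (d : ℤ) * ((p : ℤ) - 1) * a ≤ d * p * n :=
    mul_le_mul (mul_le_mul_of_nonneg_left (by linarith) hd0) han ha0 (by positivity)
  have hX2 : (d : ℤ) * ((p : ℤ) - 1) * b ≤ d * p * n :=
    mul_le_mul (mul_le_mul_of_nonneg_left (by linarith) hd0) hbn hb0 (by positivity)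
  have hX1' : (0 : ℤ) ≤ (d : ℤ) * ((p : ℤ) - 1) * a :=
    mul_nonneg (mul_nonneg hd0 (by linarith)) ha0
  have hX2' : (0 : ℤ) ≤ (d : ℤ) * ((p : ℤ) - 1) * b :=
    mul_nonneg (mul_nonneg hd0 (by linarith)) hb0
  have hX3 : |s * ((d : ℤ) * t)| ≤ |s| * n := by
    rw [abs_mul, abs_of_nonneg hdt0]
    exact mul_le_mul_of_nonneg_left hdt (abs_nonneg s)
  have hkp : (k : ℤ) < (p : ℤ) ^ k := by exact_mod_cast Nat.lt_pow_self hp.one_lt
  have hkval : (k : ℤ) = d * p * n + |s| * n + 1 := by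
    rw [hk]; push_cast; rfl
  have hzero := Int.eq_zero_of_abs_lt_dvd hdiv (by
    have e : (d : ℤ) * (((p : ℤ) - 1) * ((a : ℤ) - (b : ℤ))) - s * ((d : ℤ) * t) =
        (d : ℤ) * ((p : ℤ) - 1) * a - (d : ℤ) * ((p : ℤ) - 1) * b - s * ((d : ℤ) * t) := by ring
    rw [e]
    have := abs_le.1 hX3
    rw [abs_lt]
    constructor <;> linarith)
  have hd' : (d : ℤ) ≠ 0 := by exact_mod_cast hd.ne'
  have : (d : ℤ) * (((p : ℤ) - 1) * ((a : ℤ) - (b : ℤ))) = (d : ℤ) * (s * t) := by linarith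
  exact mul_left_cancel₀ hd' this

theorem thompson_abstract [Nontrivial X] (p : ℕ) [Fact p.Prime] (z : G) (hz : orderOf z = p)
    (hp2 : ¬ p ^ 2 ∣ Nat.card G)
    (ρ : G →* (X →ₗ[ℤ] X)) (d : ℕ) (hd : 0 < d) (s : ℤ) (hs : s ≠ 0)
    (H1 : ∀ lam : X →ₗ[ℤ] X, (∀ g, lam ∘ₗ ρ g = ρ g ∘ₗ lam) →
      (d : ℤ) * ∑ t ∈ Finset.Ico 1 p, LinearMap.trace ℤ X ((ρ z ^ t) ∘ₗ lam) =
        s * LinearMap.trace ℤ X lam)
    (H2 : ∀ k, 1 ≤ k → ∀ lam mu : X →ₗ[ℤ] X, (∀ g, lam ∘ₗ ρ g = ρ g ∘ₗ lam) →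
      lam ∘ₗ lam - lam = ((p : ℤ) ^ k) • mu →
      ∃ t : ℕ, d * t ≤ Module.finrank ℤ X ∧
        LinearMap.trace ℤ X lam ≡ ((d : ℤ) * t) [ZMOD (p : ℤ) ^ k])
    (H3 : ∀ t ∈ Finset.Ico 1 p, ∀ y : G, y * z = z * y → ¬ p ∣ orderOf y →
      LinearMap.trace ℤ X (ρ (z ^ t * y)) = LinearMap.trace ℤ X (ρ (z ^ t))) :
    s ∣ (p : ℤ) - 1 := by
  have hp := (Fact.out : p.Prime)
  have hσ : ρ z ^ p = 1 := by rw [← map_pow, ← hz, pow_orderOf_eq_one, map_one]
  haveI : Finite (QA p (ρ z)) := finite_QA p (ρ z)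
  haveI : Finite (QB p (ρ z)) := finite_QB p (ρ z)
  set n := Module.finrank ℤ X with hn
  have hnpos : 0 < n := Module.finrank_pos
  have hp1 : (1 : ℤ) < p := by exact_mod_cast hp.one_lt
  -- step 1: the orders of the two Tate groups
  have key1 : ∀ k, 1 ≤ k → ∃ a b : ℕ, a ≤ n ∧ b ≤ n ∧ Nat.card (QA p (ρ z)) = p ^ a ∧
      Nat.card (QB p (ρ z)) = p ^ b ∧
      (∑ t ∈ Finset.Ico 1 p, LinearMap.trace ℤ X (ρ z ^ t)) ≡
        ((p : ℤ) - 1) * ((a : ℤ) - (b : ℤ)) [ZMOD (p : ℤ) ^ k] := by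
    intro k hk
    obtain ⟨a, b, ha, hb, hcA, hcB, hcong⟩ := herbrand p (ρ z) hσ k hk 1 0
      (by rw [comp_one', one_comp']) (by rw [comp_one', sub_self, smul_zero]) 1 1 IndA.one IndB.one
    refine ⟨a, b, ha, hb, ?_, ?_, ?_⟩
    · rw [← hcA, card_range_one]
    · rw [← hcB, card_range_one]
    · simpa only [comp_one'] using hcong
  obtain ⟨α, β, hα, hβ, hcardA, hcardB, -⟩ := key1 1 le_rfl
  have hSig : (∑ t ∈ Finset.Ico 1 p, LinearMap.trace ℤ X (ρ z ^ t)) =
      ((p : ℤ) - 1) * ((α : ℤ) - (β : ℤ)) := by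
    set D := (∑ t ∈ Finset.Ico 1 p, LinearMap.trace ℤ X (ρ z ^ t)) -
      ((p : ℤ) - 1) * ((α : ℤ) - (β : ℤ)) with hD
    have hdvd : ∀ k, 1 ≤ k → ((p : ℤ) ^ k) ∣ D := by
      intro k hk
      obtain ⟨a, b, -, -, hA, hB, hcong⟩ := key1 k hk
      have ea : a = α := Nat.pow_right_injective hp.two_le (hA.symm.trans hcardA)
      have eb : b = β := Nat.pow_right_injective hp.two_le (hB.symm.trans hcardB)
      subst ea; subst eb
      exact hcong.symm.dvd
    have h0 : D = 0 := by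
      apply Int.eq_zero_of_abs_lt_dvd (hdvd (D.natAbs + 1) (by omega))
      have h1 : D.natAbs + 1 < p ^ (D.natAbs + 1) := Nat.lt_pow_self hp.one_lt
      have h2 : ((D.natAbs + 1 : ℕ) : ℤ) < (p : ℤ) ^ (D.natAbs + 1) := by exact_mod_cast h1
      have h3 : ((D.natAbs : ℕ) : ℤ) = |D| := Int.natCast_natAbs D
      push_cast at h2
      linarith
    linarith
  -- step 2: signs
  have hone : (1 : QA p (ρ z) →ₗ[ℤ] QA p (ρ z)) ∘ₗ 1 = 1 := comp_one' _
  have honeB : (1 : QB p (ρ z) →ₗ[ℤ] QB p (ρ z)) ∘ₗ 1 = 1 := comp_one' _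
  obtain ⟨a1, b1, t1, hA1, hB1, e1⟩ := KI p z hz hp2 ρ d hd s H1 H2 1 0 hone (by simp)
    (fun _ _ g _ => by rw [comp_one', one_comp']) (fun _ _ g _ => by simp)
  obtain ⟨a2, b2, t2, hA2, hB2, e2⟩ := KI p z hz hp2 ρ d hd s H1 H2 0 1 (by simp) honeB
    (fun _ _ g _ => by simp) (fun _ _ g _ => by rw [comp_one', one_comp'])
  rw [card_range_one] at hA1 hB2
  rw [card_range_zero] at hB1 hA2
  have ea1 : a1 = α := Nat.pow_right_injective hp.two_le (hA1.symm.trans hcardA)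
  have eb1 : b1 = 0 := by
    by_contra h
    have : 1 < p ^ b1 := Nat.one_lt_pow h hp.one_lt
    omega
  have ea2 : a2 = 0 := by
    by_contra h
    have : 1 < p ^ a2 := Nat.one_lt_pow h hp.one_lt
    omega
  have eb2 : b2 = β := Nat.pow_right_injective hp.two_le (hB2.symm.trans hcardB)
  subst ea1; subst eb1; subst ea2; subst eb2
  simp only [Nat.cast_zero, sub_zero, zero_sub] at e1 e2
  -- step 3: α ≠ β
  have hne : (a1 : ℤ) ≠ b2 := by
    intro h
    have h1 := H1 1 (fun g => by rw [comp_one', one_comp'])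
    have h2 : (∑ t ∈ Finset.Ico 1 p, LinearMap.trace ℤ X ((ρ z ^ t) ∘ₗ 1)) =
        ∑ t ∈ Finset.Ico 1 p, LinearMap.trace ℤ X (ρ z ^ t) := by
      simp only [comp_one']
    rw [h2, hSig, h, sub_self, mul_zero, mul_zero] at h1
    have h3 : LinearMap.trace ℤ X (1 : X →ₗ[ℤ] X) = (n : ℤ) := by
      rw [LinearMap.trace_one]
    rw [h3] at h1
    have : (n : ℤ) ≠ 0 := by exact_mod_cast hnpos.ne'
    exact mul_ne_zero hs this h1.symm
  have hαβ : a1 = 0 ∨ b2 = 0 := by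
    rcases lt_or_gt_of_ne hs with hneg | hpos
    · left
      by_contra h
      have h1 : (0 : ℤ) < a1 := by exact_mod_cast Nat.pos_of_ne_zero h
      have h2 : (0 : ℤ) < ((p : ℤ) - 1) * a1 := mul_pos (by linarith) h1
      have h3 : s * (t1 : ℤ) ≤ 0 := mul_nonpos_of_nonpos_of_nonneg hneg.le (by positivity)
      linarith
    · right
      by_contra h
      have h1 : (0 : ℤ) < b2 := by exact_mod_cast Nat.pos_of_ne_zero h
      have h2 : (0 : ℤ) < ((p : ℤ) - 1) * b2 := mul_pos (by linarith) h1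
      have h3 : 0 ≤ s * (t2 : ℤ) := mul_nonneg hpos.le (by positivity)
      linarith
  -- step 5: p-regular elements of the centralizer act trivially on both Tate groups
  have reg : ∀ y : G, y * z = z * y → ¬ p ∣ orderOf y →
      (∀ g, IndA p (ρ z) (ρ y) g → g = 1) ∧ (∀ g, IndB p (ρ z) (ρ y) g → g = 1) := by
    intro y hy hyp
    set o := orderOf y with ho
    have hopos : 0 < o := orderOf_pos y
    set k : ℕ := 2 * n + 1 with hk
    have hcop : IsCoprime (o : ℤ) ((p : ℤ) ^ k) := by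
      apply IsCoprime.pow_right
      rw [Int.isCoprime_iff_gcd_eq_one]
      have : Nat.Coprime o p := Nat.Coprime.symm ((Nat.Prime.coprime_iff_not_dvd hp).2 hyp)
      simpa [Int.gcd] using this
    obtain ⟨u, w, huw⟩ := hcop
    have hYo : ρ y ^ o = 1 := by rw [← map_pow, ho, pow_orderOf_eq_one, map_one]
    set S : X →ₗ[ℤ] X := ∑ i ∈ Finset.range o, ρ y ^ i with hS
    have hYS : ρ y * S = S := by
      have h1 : (ρ y - 1) * S = 0 := by rw [hS, mul_geom_sum, hYo, sub_self]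
      rw [sub_mul, one_mul, sub_eq_zero] at h1
      exact h1
    have hYiS : ∀ i : ℕ, ρ y ^ i * S = S := by
      intro i
      induction i with
      | zero => simp
      | succ i ih => rw [pow_succ, mul_assoc, hYS, ih]
    have hSS : S * S = (o : ℤ) • S := by
      calc S * S = (∑ i ∈ Finset.range o, ρ y ^ i) * S := by rw [hS]
        _ = ∑ i ∈ Finset.range o, S := by
            rw [Finset.sum_mul]; exact Finset.sum_congr rfl (fun i _ => hYiS i)
        _ = (o : ℤ) • S := by rw [Finset.sum_const, Finset.card_range, natCast_zsmul]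
    set lam : X →ₗ[ℤ] X := u • S with hlam
    have hidem : lam ∘ₗ lam - lam = ((p : ℤ) ^ k) • ((-w) • lam) := by
      have h0 : lam ∘ₗ lam = lam * lam := rfl
      rw [h0, hlam, smul_mul_smul_comm, hSS, smul_smul, smul_smul, smul_smul, ← sub_smul]
      congr 1
      linear_combination u * huw
    have hyz : Commute (ρ y) (ρ z) := by
      show ρ y * ρ z = ρ z * ρ y
      rw [← map_mul, ← map_mul, hy]
    have hSz : Commute S (ρ z) := Commute.sum_left _ _ _ (fun i _ => hyz.pow_left i)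
    have hcomm : lam ∘ₗ ρ z = ρ z ∘ₗ lam := (hSz.smul_left u).eq
    obtain ⟨gA, hgA⟩ := IndA.exists_of_comm (p := p) (σ := ρ z) (φ := ρ y) hyz.eq
    obtain ⟨gB, hgB⟩ := IndB.exists_of_comm (p := p) (σ := ρ z) (φ := ρ y) hyz.eq
    have hgAo : gA ^ o = 1 := IndA.unique (hYo ▸ hgA.pow o) IndA.one
    have hgBo : gB ^ o = 1 := IndB.unique (hYo ▸ hgB.pow o) IndB.one
    have hlA : IndA p (ρ z) lam (u • ∑ i ∈ Finset.range o, gA ^ i) :=
      (IndA.sum _ (fun i _ => hgA.pow i)).smul u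
    have hlB : IndB p (ρ z) lam (u • ∑ i ∈ Finset.range o, gB ^ i) :=
      (IndB.sum _ (fun i _ => hgB.pow i)).smul u
    obtain ⟨a, b, ha, hb, hcA, hcB, hcong⟩ :=
      herbrand p (ρ z) hσ k (by omega) lam ((-w) • lam) hcomm hidem _ _ hlA hlB
    have htr : ∀ t ∈ Finset.Ico 1 p, LinearMap.trace ℤ X ((ρ z ^ t) ∘ₗ lam) =
        (u * o) * LinearMap.trace ℤ X (ρ z ^ t) := by
      intro t ht
      have e1 : (ρ z ^ t) ∘ₗ lam = u • ∑ i ∈ Finset.range o, ρ (z ^ t * y ^ i) := by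
        show (ρ z ^ t) * lam = _
        rw [hlam, mul_smul_comm, hS, Finset.mul_sum]
        congr 1
        apply Finset.sum_congr rfl
        intro i _
        rw [map_mul, map_pow, map_pow]
      rw [e1, map_smul, map_sum]
      have e2 : ∀ i ∈ Finset.range o, LinearMap.trace ℤ X (ρ (z ^ t * y ^ i)) =
          LinearMap.trace ℤ X (ρ (z ^ t)) := by
        intro i _
        apply H3 t ht (y ^ i)
        · exact ((Commute.pow_left (show Commute y z from hy) i)).eq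
        · intro h; exact hyp (h.trans (orderOf_pow_dvd i))
      rw [Finset.sum_congr rfl e2, Finset.sum_const, Finset.card_range, map_pow, smul_eq_mul,
        nsmul_eq_mul]
      ring
    have hsum : (∑ t ∈ Finset.Ico 1 p, LinearMap.trace ℤ X ((ρ z ^ t) ∘ₗ lam)) =
        (u * o) * (((p : ℤ) - 1) * ((a1 : ℤ) - b2)) := by
      rw [Finset.sum_congr rfl htr, ← Finset.mul_sum, hSig]
    rw [hsum] at hcong
    have huo : u * o ≡ 1 [ZMOD (p : ℤ) ^ k] := by
      rw [Int.modEq_iff_dvd]; exact ⟨w, by linarith⟩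
    have h2 : ((p : ℤ) - 1) * ((a1 : ℤ) - b2) ≡ ((p : ℤ) - 1) * ((a : ℤ) - b)
        [ZMOD (p : ℤ) ^ k] := by
      have := (huo.mul_right (((p : ℤ) - 1) * ((a1 : ℤ) - b2)))
      rw [one_mul] at this
      exact this.symm.trans hcong
    have h3 : ((p : ℤ) ^ k) ∣ ((p : ℤ) - 1) * (((a : ℤ) - b) - ((a1 : ℤ) - b2)) := by
      have := h2.dvd
      rwa [← mul_sub] at this
    have hcop2 : IsCoprime ((p : ℤ) ^ k) ((p : ℤ) - 1) := by
      apply IsCoprime.pow_left
      exact ⟨1, -1, by ring⟩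
    have h4 : ((p : ℤ) ^ k) ∣ (((a : ℤ) - b) - ((a1 : ℤ) - b2)) := hcop2.dvd_of_dvd_mul_left h3
    have h5 : ((a : ℤ) - b) - ((a1 : ℤ) - b2) = 0 := by
      apply Int.eq_zero_of_abs_lt_dvd h4
      have hkp : (k : ℤ) < (p : ℤ) ^ k := by exact_mod_cast Nat.lt_pow_self hp.one_lt
      have hkv : (k : ℤ) = 2 * n + 1 := by rw [hk]; push_cast; rfl
      have q1 : (a : ℤ) ≤ n := by exact_mod_cast ha
      have q2 : (b : ℤ) ≤ n := by exact_mod_cast hb
      have q3 : (a1 : ℤ) ≤ n := by exact_mod_cast hα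
      have q4 : (b2 : ℤ) ≤ n := by exact_mod_cast hβ
      have q5 : (0 : ℤ) ≤ a := by positivity
      have q6 : (0 : ℤ) ≤ b := by positivity
      have q7 : (0 : ℤ) ≤ a1 := by positivity
      have q8 : (0 : ℤ) ≤ b2 := by positivity
      rw [abs_lt]; constructor <;> linarith
    have hle1 : a ≤ a1 := by
      have : p ^ a ≤ p ^ a1 := by
        rw [← hcA, ← hcardA]
        exact Nat.card_le_card_of_injective (Subtype.val) Subtype.val_injective
      exact (Nat.pow_le_pow_iff_right hp.one_lt).1 this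
    have hle2 : b ≤ b2 := by
      have : p ^ b ≤ p ^ b2 := by
        rw [← hcB, ← hcardB]
        exact Nat.card_le_card_of_injective (Subtype.val) Subtype.val_injective
      exact (Nat.pow_le_pow_iff_right hp.one_lt).1 this
    have hab : a = a1 ∧ b = b2 := by omega
    have hsA : Function.Surjective (u • ∑ i ∈ Finset.range o, gA ^ i) :=
      surjective_of_card_range _ (by rw [hcA, hcardA, hab.1])
    have hsB : Function.Surjective (u • ∑ i ∈ Finset.range o, gB ^ i) :=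
      surjective_of_card_range _ (by rw [hcB, hcardB, hab.2])
    have hgA1 : gA = 1 := eq_one_of_avg_surj gA o u hgAo hsA
    have hgB1 : gB = 1 := eq_one_of_avg_surj gB o u hgBo hsB
    exact ⟨fun g hg => (IndA.unique hg hgA).trans hgA1,
      fun g hg => (IndB.unique hg hgB).trans hgB1⟩
  -- step 6: the whole centralizer acts trivially
  have cent : ∀ c : G, c * z = z * c →
      (∀ g, IndA p (ρ z) (ρ c) g → g = 1) ∧ (∀ g, IndB p (ρ z) (ρ c) g → g = 1) := by
    intro c hc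
    obtain ⟨m, hm⟩ : p ∣ Nat.card G := hz ▸ orderOf_dvd_natCard z
    have hpm : ¬ p ∣ m := fun h => hp2 (by rw [hm, sq]; exact mul_dvd_mul_left p h)
    have hcz : Commute c z := hc
    have h1 : (c ^ m) ^ p = 1 := by rw [← pow_mul, mul_comm, ← hm, pow_card_eq_one']
    have h2 : c ^ m ∈ Subgroup.zpowers z :=
      mem_zpowers_of_pow_eq_one p z (c ^ m) hz hp2 (hcz.pow_left m).eq h1
    obtain ⟨j, hj⟩ : ∃ j : ℕ, z ^ j = c ^ m := by
      have := (mem_powers_iff_mem_zpowers (x := z) (y := c ^ m)).2 h2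
      exact Submonoid.mem_powers_iff _ _ |>.1 this
    have h3 : ¬ p ∣ orderOf (c ^ p) := by
      intro h
      have : orderOf (c ^ p) ∣ m :=
        orderOf_dvd_of_pow_eq_one (by rw [← pow_mul, ← hm, pow_card_eq_one'])
      exact hpm (h.trans this)
    obtain ⟨r1, r2⟩ := reg (c ^ p) (hcz.pow_left p).eq h3
    have hgcd : Nat.gcd p m = 1 := (Nat.Prime.coprime_iff_not_dvd hp).2 hpm
    constructor
    · intro g hg
      have e1 : g ^ p = 1 := r1 _ (by rw [map_pow]; exact hg.pow p)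
      have e2 : g ^ m = 1 := by
        have h4 : IndA p (ρ z) (ρ (c ^ m)) (g ^ m) := by rw [map_pow]; exact hg.pow m
        rw [← hj, map_pow] at h4
        have h5 : IndA p (ρ z) (ρ z ^ j) (1 ^ j) := (indA_self p (ρ z)).pow j
        rw [one_pow] at h5
        exact IndA.unique h4 h5
      have := (pow_gcd_eq_one (a := g)).2 ⟨e1, e2⟩
      rwa [hgcd, pow_one] at this
    · intro g hg
      have e1 : g ^ p = 1 := r2 _ (by rw [map_pow]; exact hg.pow p)
      have e2 : g ^ m = 1 := by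
        have h4 : IndB p (ρ z) (ρ (c ^ m)) (g ^ m) := by rw [map_pow]; exact hg.pow m
        rw [← hj, map_pow] at h4
        have h5 : IndB p (ρ z) (ρ z ^ j) (1 ^ j) := (indB_self p (ρ z)).pow j
        rw [one_pow] at h5
        exact IndB.unique h4 h5
      have := (pow_gcd_eq_one (a := g)).2 ⟨e1, e2⟩
      rwa [hgcd, pow_one] at this
  -- step 7: a rank one idempotent
  rcases hαβ with h0 | h0
  · -- `QA` is trivial, `QB` is not
    subst h0
    have hb2 : b2 ≠ 0 := fun h => hne (by rw [h])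
    have : Nontrivial (QB p (ρ z)) := by
      rw [← Finite.one_lt_card_iff_nontrivial, hcardB]
      exact Nat.one_lt_pow hb2 hp.one_lt
    obtain ⟨e, he1, he2, he3⟩ := rank_one_idem p (W := QB p (ρ z)) (fun w => p_smul_QB w)
      {g | ∃ m ∈ Subgroup.normalizer ((Subgroup.zpowers z : Subgroup G) : Set G),
        IndB p (ρ z) (ρ m) g}
      (by
        rintro g1 ⟨n1, hn1, hg1⟩ g2 ⟨n2, hn2, hg2⟩
        have hc := normalizer_comm_mem z n1 n2 hn1 hn2
        obtain ⟨gc, hgc⟩ := IndB.exists_of_comm (p := p) (σ := ρ z)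
          (φ := ρ ((n2 * n1)⁻¹ * (n1 * n2)))
          (by show ρ _ * ρ z = ρ z * ρ _; rw [← map_mul, ← map_mul, hc])
        have hgc1 : gc = 1 := (cent _ hc).2 gc hgc
        have k1 : IndB p (ρ z) (ρ (n1 * n2)) (g1 * g2) := by
          rw [map_mul]; exact hg1.mul hg2
        have k2 : IndB p (ρ z) (ρ (n1 * n2)) (g2 * g1 * gc) := by
          have : n1 * n2 = n2 * n1 * ((n2 * n1)⁻¹ * (n1 * n2)) := by group
          rw [this, map_mul, map_mul]
          exact (hg2.mul hg1).mul hgc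
        have := IndB.unique k1 k2
        rw [hgc1, mul_one] at this
        exact this)
      (by
        rintro g ⟨m, hm, hg⟩
        have hc := normalizer_pow_mem p z m hz hm
        have k1 : IndB p (ρ z) (ρ (m ^ (p - 1))) (g ^ (p - 1)) := by
          rw [map_pow]; exact hg.pow (p - 1)
        exact (cent _ hc).2 _ k1)
    obtain ⟨a, b, t, hA, hB, e3⟩ := KI p z hz hp2 ρ d hd s H1 H2 0 e (by simp) he1
      (fun _ _ g _ => by simp) (fun m hm g hg => (he3 g ⟨m, hm, hg⟩).symm)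
    rw [card_range_zero] at hA
    rw [he2] at hB
    have ea : a = 0 := by
      by_contra h
      have : 1 < p ^ a := Nat.one_lt_pow h hp.one_lt
      omega
    have eb : b = 1 := (Nat.pow_right_injective hp.two_le (by show p ^ 1 = p ^ b; rw [pow_one]; exact hB)).symm
    subst ea; subst eb
    refine ⟨-(t : ℤ), ?_⟩
    push_cast at e3
    linarith
  · -- `QB` is trivial, `QA` is not
    subst h0
    have ha1 : a1 ≠ 0 := fun h => hne (by rw [h])
    have : Nontrivial (QA p (ρ z)) := by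
      rw [← Finite.one_lt_card_iff_nontrivial, hcardA]
      exact Nat.one_lt_pow ha1 hp.one_lt
    obtain ⟨e, he1, he2, he3⟩ := rank_one_idem p (W := QA p (ρ z)) (fun w => p_smul_QA w)
      {g | ∃ m ∈ Subgroup.normalizer ((Subgroup.zpowers z : Subgroup G) : Set G),
        IndA p (ρ z) (ρ m) g}
      (by
        rintro g1 ⟨n1, hn1, hg1⟩ g2 ⟨n2, hn2, hg2⟩
        have hc := normalizer_comm_mem z n1 n2 hn1 hn2
        obtain ⟨gc, hgc⟩ := IndA.exists_of_comm (p := p) (σ := ρ z)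
          (φ := ρ ((n2 * n1)⁻¹ * (n1 * n2)))
          (by show ρ _ * ρ z = ρ z * ρ _; rw [← map_mul, ← map_mul, hc])
        have hgc1 : gc = 1 := (cent _ hc).1 gc hgc
        have k1 : IndA p (ρ z) (ρ (n1 * n2)) (g1 * g2) := by
          rw [map_mul]; exact hg1.mul hg2
        have k2 : IndA p (ρ z) (ρ (n1 * n2)) (g2 * g1 * gc) := by
          have : n1 * n2 = n2 * n1 * ((n2 * n1)⁻¹ * (n1 * n2)) := by group
          rw [this, map_mul, map_mul]
          exact (hg2.mul hg1).mul hgc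
        have := IndA.unique k1 k2
        rw [hgc1, mul_one] at this
        exact this)
      (by
        rintro g ⟨m, hm, hg⟩
        have hc := normalizer_pow_mem p z m hz hm
        have k1 : IndA p (ρ z) (ρ (m ^ (p - 1))) (g ^ (p - 1)) := by
          rw [map_pow]; exact hg.pow (p - 1)
        exact (cent _ hc).1 _ k1)
    obtain ⟨a, b, t, hA, hB, e3⟩ := KI p z hz hp2 ρ d hd s H1 H2 e 0 he1 (by simp)
      (fun m hm g hg => (he3 g ⟨m, hm, hg⟩).symm) (fun _ _ g _ => by simp)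
    rw [card_range_zero] at hB
    rw [he2] at hA
    have eb : b = 0 := by
      by_contra h
      have : 1 < p ^ b := Nat.one_lt_pow h hp.one_lt
      omega
    have ea : a = 1 := (Nat.pow_right_injective hp.two_le (by show p ^ 1 = p ^ a; rw [pow_one]; exact hA)).symm
    subst ea; subst eb
    refine ⟨(t : ℤ), ?_⟩
    push_cast at e3
    linarith

end main

end Cfsg.Agent.Lib.Helper22.TA
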