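import Cfsg.Agent.Lib.Helper22.TA0
import Cfsg.Agent.Lib.Helper22.TB0
import Cfsg.Agent.Lib.Helper80.Galois
import Cfsg.Prelude.Def_Blocks
import Cfsg.Agent.Lib.Helper2.DOLC
import Cfsg.Agent.Lib.Helper77.DOHB
import Cfsg.Agent.Lib.Lead.DOHB1
import Cfsg.Agent.Lib.Lead.DOSD
import Cfsg.Agent.Lib.Helper94.DOLiftA
import Cfsg.Agent.Lib.Helper65.DOLB
import Cfsg.Agent.Lib.Helper79.DOAI
import Cfsg.Agent.Lib.Helper67.DORM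
import Cfsg.Agent.Lib.Helper32.DOR1
import Cfsg.Agent.Lib.Helper66.DOTR
import Cfsg.Agent.Lib.Helper79.DOGO
import Cfsg.Agent.Lib.Helper18.DOLT

/-! Hub of the job pieces for S0960 / S4441 (lattice part). -/

set_option autoImplicit false

namespace Cfsg.Agent.Lib.Helper22.TAP

open Cfsg Cfsg.Agent.Lib.Helper22.TA Cfsg.Agent.Lib.Helper22.TB

section lattice

variable {X : Type*} [AddCommGroup X] [Module.Free ℤ X] [Module.Finite ℤ X]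

/-- PIECE HB1 -/
theorem tr_approx_idem (p : ℕ) [Fact p.Prime] (k : ℕ) (hk : 1 ≤ k) (lam mu : X →ₗ[ℤ] X)
    (hidem : lam ∘ₗ lam - lam = ((p : ℤ) ^ k) • mu) :
    LinearMap.trace ℤ X lam ≡
      (Module.finrank (ZMod p) (LinearMap.range (lam.baseChange (ZMod p))) : ℤ)
        [ZMOD (p : ℤ) ^ k] :=
  Cfsg.Agent.Lib.Lead.DOHB1.tr_approx_idem p k hk lam mu hidem

/-- PIECE HB -/
theorem herbrand (p : ℕ) [Fact p.Prime] (σ : X →ₗ[ℤ] X) (hσ : σ ^ p = 1)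
    (k : ℕ) (hk : 1 ≤ k) (lam mu : X →ₗ[ℤ] X) (hcomm : lam ∘ₗ σ = σ ∘ₗ lam)
    (hidem : lam ∘ₗ lam - lam = ((p : ℤ) ^ k) • mu)
    (fA : QA p σ →ₗ[ℤ] QA p σ) (fB : QB p σ →ₗ[ℤ] QB p σ)
    (hA : IndA p σ lam fA) (hB : IndB p σ lam fB) :
    ∃ a b : ℕ, a ≤ Module.finrank ℤ X ∧ b ≤ Module.finrank ℤ X ∧
      Nat.card (LinearMap.range fA) = p ^ a ∧ Nat.card (LinearMap.range fB) = p ^ b ∧
      (∑ t ∈ Finset.Ico 1 p, LinearMap.trace ℤ X ((σ ^ t) ∘ₗ lam)) ≡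
        ((p : ℤ) - 1) * ((a : ℤ) - (b : ℤ)) [ZMOD (p : ℤ) ^ k] :=
  Cfsg.Agent.Lib.Helper77.DO.herbrand p σ hσ k hk lam mu hcomm hidem fA fB hA hB

/-- PIECE LA -/
theorem liftA (p : ℕ) [Fact p.Prime] (σ : X →ₗ[ℤ] X) (hσ : σ ^ p = 1)
    (f : QA p σ →ₗ[ℤ] QA p σ) :
    ∃ Φ : X →ₗ[ℤ] X, Φ ∘ₗ σ = σ ∘ₗ Φ ∧ IndA p σ Φ f ∧ IndB p σ Φ 0 :=
  Cfsg.Agent.Lib.Helper94.DOLA.liftA p σ hσ f

/-- PIECE LB -/
theorem liftB (p : ℕ) [Fact p.Prime] (σ : X →ₗ[ℤ] X) (hσ : σ ^ p = 1)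
    (f : QB p σ →ₗ[ℤ] QB p σ) :
    ∃ Φ : X →ₗ[ℤ] X, Φ ∘ₗ σ = σ ∘ₗ Φ ∧ IndA p σ Φ 0 ∧ IndB p σ Φ f :=
  Cfsg.Agent.Lib.Helper65.DO.liftB p σ hσ f

/-- PIECE AI -/
theorem approx_idem (p : ℕ) [Fact p.Prime] (σ : X →ₗ[ℤ] X) (S : Subring (Module.End ℤ X))
    (lam0 : Module.End ℤ X) (h0 : lam0 ∈ S) (c : ℤ) (hc : ¬ (p : ℤ) ∣ c)
    (fA : QA p σ →ₗ[ℤ] QA p σ) (fB : QB p σ →ₗ[ℤ] QB p σ)
    (hfA : fA ∘ₗ fA = fA) (hfB : fB ∘ₗ fB = fB)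
    (hA : IndA p σ lam0 (c • fA)) (hB : IndB p σ lam0 (c • fB)) (k : ℕ) :
    ∃ lam ∈ S, ∃ mu : Module.End ℤ X, lam ∘ₗ lam - lam = ((p : ℤ) ^ k) • mu ∧
      IndA p σ lam fA ∧ IndB p σ lam fB :=
  Cfsg.Agent.Lib.Helper79.DOAI.approx_idem p σ S lam0 h0 c hc fA fB hfA hfB hA hB k

/-- PIECE RM -/
theorem dvd_rank_of_rootMult (p : ℕ) [Fact p.Prime] (M : Ideal AlgInt) (hM : IsPModular p M)
    (lam mu : X →ₗ[ℤ] X) (hidem : lam ∘ₗ lam - lam = (p : ℤ) • mu) (d : ℕ)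
    (hmult : ∀ θ : ℂ, d ∣ ((LinearMap.charpoly lam).map (algebraMap ℤ ℂ)).rootMultiplicity θ) :
    d ∣ Module.finrank (ZMod p) (LinearMap.range (lam.baseChange (ZMod p))) :=
  Cfsg.Agent.Lib.Helper67.DO.dvd_rank_of_rootMult p M hM lam mu hidem d hmult

end lattice

/-- PIECE R1 -/
theorem rank_one_idem (p : ℕ) [Fact p.Prime] {W : Type*} [AddCommGroup W] [Finite W]
    [Nontrivial W] (hW : ∀ w : W, (p : ℤ) • w = 0) (T : Set (W →ₗ[ℤ] W))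
    (hcomm : ∀ f ∈ T, ∀ g ∈ T, f ∘ₗ g = g ∘ₗ f) (hpow : ∀ f ∈ T, f ^ (p - 1) = 1) :
    ∃ e : W →ₗ[ℤ] W, e ∘ₗ e = e ∧ Nat.card (LinearMap.range e) = p ∧
      ∀ f ∈ T, e ∘ₗ f = f ∘ₗ e :=
  Cfsg.Agent.Lib.Helper32.DOR1.rank_one_idem p hW T hcomm hpow

section group

variable {G : Type*} [Group G] [Fintype G]

/-- PIECE TR -/
theorem transfer {X : Type*} [AddCommGroup X] (p : ℕ) [Fact p.Prime] (z : G)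
    (hz : orderOf z = p) (ρ : G →* (X →ₗ[ℤ] X))
    (Φ : X →ₗ[ℤ] X) (hΦ : Φ ∘ₗ ρ z = ρ z ∘ₗ Φ)
    (fA : QA p (ρ z) →ₗ[ℤ] QA p (ρ z)) (fB : QB p (ρ z) →ₗ[ℤ] QB p (ρ z))
    (hA : IndA p (ρ z) Φ fA) (hB : IndB p (ρ z) Φ fB)
    (hAN : ∀ n ∈ Subgroup.normalizer ((Subgroup.zpowers z : Subgroup G) : Set G),
      ∀ g : QA p (ρ z) →ₗ[ℤ] QA p (ρ z), IndA p (ρ z) (ρ n) g → g ∘ₗ fA = fA ∘ₗ g)
    (hBN : ∀ n ∈ Subgroup.normalizer ((Subgroup.zpowers z : Subgroup G) : Set G),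
      ∀ g : QB p (ρ z) →ₗ[ℤ] QB p (ρ z), IndB p (ρ z) (ρ n) g → g ∘ₗ fB = fB ∘ₗ g) :
    ∃ lam : X →ₗ[ℤ] X, (∀ g : G, lam ∘ₗ ρ g = ρ g ∘ₗ lam) ∧
      IndA p (ρ z) lam
        ((((Subgroup.zpowers z).relIndex
          (Subgroup.normalizer ((Subgroup.zpowers z : Subgroup G) : Set G)) : ℕ) : ℤ) • fA) ∧
      IndB p (ρ z) lam
        ((((Subgroup.zpowers z).relIndex
          (Subgroup.normalizer ((Subgroup.zpowers z : Subgroup G) : Set G)) : ℕ) : ℤ) • fB) :=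
  Cfsg.Agent.Lib.Helper66.DO.transfer p z hz ρ Φ hΦ fA fB hA hB hAN hBN

/-- PIECE NA: elements of the normalizer act on `QA`, `QB`. -/
theorem normalizer_ind {X : Type*} [AddCommGroup X] (p : ℕ) [Fact p.Prime] (z : G)
    (hz : orderOf z = p) (ρ : G →* (X →ₗ[ℤ] X)) (n : G)
    (hn : n ∈ Subgroup.normalizer ((Subgroup.zpowers z : Subgroup G) : Set G)) :
    (∃ g : QA p (ρ z) →ₗ[ℤ] QA p (ρ z), IndA p (ρ z) (ρ n) g) ∧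
    (∃ g : QB p (ρ z) →ₗ[ℤ] QB p (ρ z), IndB p (ρ z) (ρ n) g) :=
  Cfsg.Agent.Lib.Helper66.DO.normalizer_ind p z hz ρ n hn

/-- PIECE GO -/
theorem exists_orbit_fun (χ : IrrCharacter G) :
    ∃ (S : Finset (IrrCharacter G)) (c : G → ℤ), χ ∈ S ∧
      (∀ ψ ∈ S, ∃ (k : ℕ) (hk : Nat.Coprime k (Nat.card G)),
        ψ = Cfsg.Agent.Lib.Helper80.galConj k hk χ) ∧
      (∀ g, (c g : ℂ) = ∑ ψ ∈ S, (ψ : G → ℂ) 1 * (ψ : G → ℂ) g⁻¹) :=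
  Cfsg.Agent.Lib.Helper79.DO.exists_orbit_fun χ

/-- PIECE LT -/
theorem latt_trace (S : Finset (IrrCharacter G)) (c : G → ℤ)
    (hc : ∀ g, (c g : ℂ) = ∑ ψ ∈ S, (ψ : G → ℂ) 1 * (ψ : G → ℂ) g⁻¹) (g : G) :
    LinearMap.trace ℤ ↥(latt c) (lrep c g) = c g⁻¹ :=
  Cfsg.Agent.Lib.Helper18.DO.latt_trace S c hc g

/-- PIECE LC -/
theorem latt_central (S : Finset (IrrCharacter G)) (c : G → ℤ)
    (hc : ∀ g, (c g : ℂ) = ∑ ψ ∈ S, (ψ : G → ℂ) 1 * (ψ : G → ℂ) g⁻¹)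
    (d : ℕ) (hd : ∀ ψ ∈ S, (ψ : G → ℂ) 1 = (d : ℂ))
    (w : G → ℤ) (hw : ∀ g h : G, w (h * g * h⁻¹) = w g)
    (s : ℤ) (hs : ∀ ψ ∈ S, ∑ g, (w g : ℂ) * (ψ : G → ℂ) g = (s : ℂ)) :
    (d : ℤ) • ∑ g : G, w g • lrep c g = s • (1 : ↥(latt c) →ₗ[ℤ] ↥(latt c)) :=
  Cfsg.Agent.Lib.Helper2.DO.latt_central S c hc d hd w hw s hs

/-- PIECE SD -/
theorem sub_dim_dvd {V : Type*} [AddCommGroup V] [Module ℂ V] [FiniteDimensional ℂ V]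
    (ρ : Representation ℂ G V) (S : Finset (IrrCharacter G)) (a : IrrCharacter G → ℂ)
    (hchar : ∀ g, ρ.character g = ∑ ψ ∈ S, a ψ * (ψ : G → ℂ) g)
    (d : ℕ) (hd : ∀ ψ ∈ S, (ψ : G → ℂ) 1 = (d : ℂ))
    (J : Submodule ℂ V) (hJ : ∀ g, ∀ v ∈ J, ρ g v ∈ J) : d ∣ Module.finrank ℂ J :=
  Cfsg.Agent.Lib.Lead.DOSD.sub_dim_dvd ρ S a hchar d hd J hJ

end group

end Cfsg.Agent.Lib.Helper22.TAP
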