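import Cfsg.Agent.Lib.Helper22.TAP
import Cfsg.Agent.Lib.Helper57.BFFourier
import Cfsg.Agent.Lib.Helper43.BFLat
import Cfsg.Agent.Lib.Helper48.DOCL4
import Cfsg.Agent.Lib.Helper57.DOCL1
import Cfsg.Agent.Lib.Helper79.DOCL2
import Cfsg.Agent.Lib.Helper92.DOCL5

/-! Hub of the job pieces for S0960 / S4441 (character-level part). -/

set_option autoImplicit false

namespace Cfsg.Agent.Lib.Helper22.TAP

open Cfsg
open scoped ComplexConjugate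

/-- PIECE CL1 (extension of Helper57 `fourier_core`: three extra conclusions) -/
theorem fourier_core_ext {ι : Type*} [Fintype ι] (p : ℕ) [Fact p.Prime] (ζ : ℂ)
    (hζ : IsPrimitiveRoot ζ p) (S : Set ι) (v : ZMod p → ι → ℤ)
    (hsupp : ∀ a θ, θ ∉ S → v a θ = 0)
    (D : ZMod p → ι → ℂ) (hD : ∀ t θ, D t θ = ∑ a : ZMod p, (v a θ : ℂ) * ζ ^ (a * t).val)
    (H2 : ∀ t t' : ZMod p, t ≠ 0 → t' ≠ 0 →
      D t = D t' ∨ ∑ θ, D t θ * conj (D t' θ) = 0)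
    (H3 : ∀ t : ZMod p, t ≠ 0 → ∑ θ, D t θ * conj (D t θ) = (p : ℂ))
    (H4 : ∀ θ ∈ S, D 1 θ ≠ 0) :
    ∃ (m e : ℕ) (Θ : Fin m → ι → ℤ), 1 ≤ m ∧ 1 ≤ e ∧ p = 1 + e * m ∧
      (∀ i θ, θ ∉ S → Θ i θ = 0) ∧
      (∀ i j, ∑ θ, Θ i θ * Θ j θ = (if i = j then 1 else 0) + (e : ℤ)) ∧
      (∀ θ ∈ S, ∃ i, Θ i θ ≠ 0) ∧
      (∀ y : ι → ℂ, (∀ i, ∑ θ, y θ * (Θ i θ : ℂ) = 0) ↔
        (∀ t : ZMod p, t ≠ 0 → ∑ θ, y θ * D t θ = 0)) ∧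
      (Nat.card {s : (ZMod p)ˣ // D (s : ZMod p) = D 1} = e) ∧
      (∀ θ, ∑ t ∈ Finset.univ.filter (fun t : ZMod p => t ≠ 0), D t θ =
        -((e : ℂ) * ∑ i, (Θ i θ : ℂ))) ∧
      (∀ θ, (∀ i j, Θ i θ = Θ j θ) → ∀ (i : Fin m) (t : ZMod p), t ≠ 0 →
        D t θ = -(Θ i θ : ℂ)) :=
  Cfsg.Agent.Lib.Helper57.DO.fourier_core_ext p ζ hζ S v hsupp D hD H2 H3 H4

section prin

variable {G : Type*} [Group G] [Fintype G] (p : ℕ) [Fact p.Prime] (M : Ideal AlgInt)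

/-- PIECE CL2 (star) -/
theorem prin_star (hM : IsPModular p M) (P : Sylow p G) (hP : Nat.card P = p)
    (z : G) (hz : z ∈ (P : Subgroup G)) (hz1 : z ≠ 1)
    (θ : IrrCharacter G) (hθ : θ ∈ principalBlock M G) (t : ℕ) (ht : ¬ p ∣ t)
    (y : G) (hy : y * z = z * y) (hyp : ¬ p ∣ orderOf y) :
    (θ : G → ℂ) (z ^ t * y) = (θ : G → ℂ) (z ^ t) :=
  Cfsg.Agent.Lib.Helper79.DO.prin_star p M hM P hP z hz hz1 θ hθ t ht y hy hyp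

/-- PIECE CL3 (norm) -/
theorem prin_norm (hM : IsPModular p M) (P : Sylow p G) (hP : Nat.card P = p)
    (z : G) (hz : z ∈ (P : Subgroup G)) (hz1 : z ≠ 1) (t : ℕ) (ht : ¬ p ∣ t) :
    ∑ᶠ θ ∈ principalBlock M G, (θ : G → ℂ) (z ^ t) * conj ((θ : G → ℂ) (z ^ t)) = (p : ℂ) :=
  Cfsg.Agent.Lib.Helper79.DO.prin_norm p M hM P hP z hz hz1 t ht

/-- PIECE CL4 (orthogonality to non-conjugate powers and to `p`-regular columns; nonvanishing) -/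
theorem prin_orth (hM : IsPModular p M) (P : Sylow p G) (hP : Nat.card P = p)
    (z : G) (hz : z ∈ (P : Subgroup G)) (hz1 : z ≠ 1) :
    (∀ t t' : ℕ, ¬ p ∣ t → ¬ p ∣ t' → (¬ ∃ g : G, g * z ^ t * g⁻¹ = z ^ t') →
      ∑ᶠ θ ∈ principalBlock M G, (θ : G → ℂ) (z ^ t) * conj ((θ : G → ℂ) (z ^ t')) = 0) ∧
    (∀ t : ℕ, ¬ p ∣ t → ∀ g : G, ¬ p ∣ orderOf g →
      ∑ᶠ θ ∈ principalBlock M G, (θ : G → ℂ) (z ^ t) * conj ((θ : G → ℂ) g) = 0) ∧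
    (∀ θ ∈ principalBlock M G, (θ : G → ℂ) z ≠ 0) :=
  Cfsg.Agent.Lib.Helper48.DO.prin_orth p M hM P hP z hz hz1

/-- PIECE CL5 (fusion count) -/
theorem card_fusion (P : Sylow p G) (hP : Nat.card P = p)
    (z : G) (hz : z ∈ (P : Subgroup G)) (hz1 : z ≠ 1) :
    Nat.card {s : (ZMod p)ˣ // ∃ g : G, g * z * g⁻¹ = z ^ (s : ZMod p).val} =
      (Subgroup.centralizer ((P : Subgroup G) : Set G)).relIndex
        (Subgroup.normalizer ((P : Subgroup G) : Set G)) :=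
  Cfsg.Agent.Lib.Helper92.DO.card_fusion p P hP z hz hz1

end prin

end Cfsg.Agent.Lib.Helper22.TAP
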