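import Cfsg.Agent.Lib.Helper22.W2Defs
import Cfsg.Agent.Lib.Helper83.Linear
import Cfsg.Agent.S0720
import Cfsg.Agent.S4705
import Cfsg.Agent.Lib.Helper82.CharCore
import Cfsg.Agent.Lib.Helper83.IrrBasic
import Cfsg.Agent.Lib.Helper6.Ord60
import Cfsg.Agent.Lib.Helper85.W2FCINV
import Cfsg.Agent.Lib.Helper29.W2FCNAT
import Cfsg.Agent.Lib.Helper91.W2FCSYM
import Cfsg.Agent.Lib.Helper77.W2FCONE
import Cfsg.Agent.Lib.Helper39.W2FCPI
import Cfsg.Agent.Lib.Helper66.W2FCADD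
import Cfsg.Agent.Lib.Helper64.W2COL
import Cfsg.Agent.Lib.Helper64.W2GRAM
import Cfsg.Agent.Lib.Helper59.W2GRAMA
import Cfsg.Agent.Lib.Helper2.W2DEGA
import Cfsg.Agent.Lib.Helper80.W2DEGF
import Cfsg.Agent.Lib.Helper22.W2CORE
import Cfsg.Agent.Lib.Helper97.W2TZ
import Cfsg.Agent.Lib.Helper97.W2NOCENT
import Cfsg.Agent.Lib.Helper75.W2LOC2
import Cfsg.Agent.Lib.Helper78.W2FAITH
import Cfsg.Agent.Lib.Helper42.W2DEC3
import Cfsg.Agent.Lib.Helper41.W2SIMPLE60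
import Cfsg.Agent.Lib.Helper67.W2ARITH
import Cfsg.Agent.Lib.Helper17.W2SYLP
import Cfsg.Agent.Lib.Helper8.W2NORMDIV
import Cfsg.Agent.Lib.Helper69.W2FIXFREE
import Cfsg.Agent.Lib.Helper5.W2PERMCHAR
import Cfsg.Agent.Lib.Helper16.W2PERMSUM
import Cfsg.Agent.Lib.Helper10.W2NB3
import Cfsg.Agent.Lib.Helper46.W2ADJSYMM
import Cfsg.Agent.Lib.Helper46.W2ADJSMUL
import Cfsg.Agent.Lib.Helper24.W2LAM0
import Cfsg.Agent.Lib.Helper70.W2MU1
import Cfsg.Agent.Lib.Helper53.W2STABK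
import Cfsg.Agent.Lib.Helper94.W2KX8
import Cfsg.Agent.Lib.Helper47.W2CARD60

/-!
# S4707 project (helper22, "W2"): assembly
-/

set_option autoImplicit false


namespace Cfsg.Agent.Lib.Helper22.W2

open Cfsg Cfsg.Agent.Lib.Helper83
open scoped ComplexConjugate

universe u

section glueA

variable {G : Type u} [Group G] [Fintype G]

/-- GLUE THMI -/
theorem thmI (p : ℕ) [Fact p.Prime] (hp : 5 < p) (z : G) (hl : Loc2 G p z) (π : G → ℂ)
    (χ₁ χ₂ : IrrCharacter G) (h12 : χ₁ ≠ χ₂) (h1 : χ₁ ≠ trivIrr G) (h2 : χ₂ ≠ trivIrr G)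
    (hπ : ∀ g : G, π g = 1 + χ₁.1 g + χ₂.1 g)
    (hπ0 : ∀ t : ZMod p, t ≠ 0 → π (z ^ t.val) = 0) (hπ1 : π 1 = 2 * (p : ℂ)) :
    ∃ Θ : IrrCharacter G, Θ.1 1 = (p : ℂ) - 2 ∧ Θ.1 z ≠ Θ.1 1 := by
  classical
  have hpp : p.Prime := Fact.out
  have hp2 : p ≠ 2 := by omega
  obtain ⟨w, hw⟩ : ∃ w : ℂ, IsPrimitiveRoot w p :=
    ⟨_, Complex.isPrimitiveRoot_exp p hpp.ne_zero⟩
  haveI : Finite (IrrCharacter G) := Cfsg.Agent.Lib.Helper82.finite_irrCharacter G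
  letI : Fintype (IrrCharacter G) := Fintype.ofFinite _
  have hchar : ∀ χ : IrrCharacter G, IsCharacter G χ.1 := by
    intro χ
    obtain ⟨n, ρ, -, hρ⟩ := χ.2
    exact ⟨n, ρ, hρ⟩
  have hnat : ∀ (χ : IrrCharacter G) (u : ZMod p), ∃ n : ℕ, fc p w z χ.1 u = (n : ℂ) :=
    fun χ u => Cfsg.Agent.Lib.Helper29.W2.fc_nat p w hw z hl.ord χ.1 (hchar χ) u
  have hcol := Cfsg.Agent.Lib.Helper64.W2.col p hp2 z hl
  have hgram := Cfsg.Agent.Lib.Helper64.W2.gram p hp2 w hw z hcol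
  have hdegS : ∀ χ : IrrCharacter G, χ.1 1 = ∑ u : ZMod p, fc p w z χ.1 u := by
    intro χ
    have h := Cfsg.Agent.Lib.Helper85.W2.fc_inv p w hw z χ.1 0
    rw [ZMod.val_zero, pow_zero] at h
    rw [h]
    apply Finset.sum_congr rfl
    intro u _
    rw [mul_zero, ZMod.val_zero, pow_zero, mul_one]
  have haz : ∀ (i : IrrCharacter G) (v : ZMod p),
      ∃ n : ℤ, fc p w z i.1 v - fc p w z i.1 0 = (n : ℂ) := by
    intro i v
    obtain ⟨n, hn⟩ := hnat i v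
    obtain ⟨m, hm⟩ := hnat i 0
    exact ⟨(n : ℤ) - m, by rw [hn, hm]; push_cast; ring⟩
  have hcn : ∀ i : IrrCharacter G, ∃ n : ℕ, fc p w z i.1 0 = (n : ℂ) := fun i => hnat i 0
  have hdn : ∀ i : IrrCharacter G, ∃ n : ℕ, 0 < n ∧ i.1 1 = (n : ℂ) := by
    intro i
    obtain ⟨e1, e0⟩ := Cfsg.Agent.Lib.Helper82.irr_charDegree i
    exact ⟨charDegree i.1, Nat.pos_of_ne_zero e0, e1.symm⟩
  have hsym : ∀ (i : IrrCharacter G) (v : ZMod p),
      fc p w z i.1 (-v) - fc p w z i.1 0 = fc p w z i.1 v - fc p w z i.1 0 := by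
    intro i v
    rw [Cfsg.Agent.Lib.Helper91.W2.fc_sym p w hw z hl.ord hl.inv i.1 (fun g x => irr_classFunction i.2 g x) v]
  have hgramA : ∀ v v' : ZMod p, v ≠ 0 → v' ≠ 0 →
      ∑ i : IrrCharacter G, (fc p w z i.1 v - fc p w z i.1 0) *
        (fc p w z i.1 v' - fc p w z i.1 0) =
        (if v = v' then 1 else 0) + (if v = -v' then 1 else 0) + 2 :=
    fun v v' hv hv' => Cfsg.Agent.Lib.Helper59.W2.gramA p w z _ hgram hnat v v' hv hv'
  have hdeg0 : ∀ v : ZMod p, v ≠ 0 →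
      ∑ i : IrrCharacter G, i.1 1 * (fc p w z i.1 v - fc p w z i.1 0) = 0 :=
    fun v hv => Cfsg.Agent.Lib.Helper2.W2.degA p w z _ hgram hnat hdegS v hv
  have hdeg : ∀ i : IrrCharacter G, i.1 1 = (p : ℂ) * fc p w z i.1 0 +
      ∑ v : ZMod p, (if v = 0 then 0 else fc p w z i.1 v - fc p w z i.1 0) := by
    intro i
    rw [hdegS i]
    exact Cfsg.Agent.Lib.Helper80.W2.degF p (fun u => fc p w z i.1 u)
  have htriv : (trivIrr G).1 = fun _ => (1 : ℂ) := rfl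
  have h0a : ∀ v : ZMod p, v ≠ 0 →
      fc p w z (trivIrr G).1 v - fc p w z (trivIrr G).1 0 = -1 := by
    intro v hv
    have e1 := Cfsg.Agent.Lib.Helper77.W2.fc_one (G := G) p w hw z v
    have e2 := Cfsg.Agent.Lib.Helper77.W2.fc_one (G := G) p w hw z (0 : ZMod p)
    rw [if_neg hv] at e1
    rw [if_pos rfl] at e2
    rw [htriv, e1, e2]
    norm_num
  have h0d : (trivIrr G).1 1 = 1 := rfl
  have hfπ : ∀ u : ZMod p,
      fc p w z χ₁.1 u + fc p w z χ₂.1 u = 2 - (if u = 0 then 1 else 0) := by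
    intro u
    have e1 := Cfsg.Agent.Lib.Helper39.W2.fc_pi p w z π hπ0 hπ1 u
    have e2 : π = fun g => (fun _ => (1 : ℂ)) g + (fun g => χ₁.1 g + χ₂.1 g) g := by
      funext g
      rw [hπ g]
      ring
    rw [e2, Cfsg.Agent.Lib.Helper66.W2.fc_add, Cfsg.Agent.Lib.Helper66.W2.fc_add, Cfsg.Agent.Lib.Helper77.W2.fc_one p w hw z u] at e1
    linear_combination e1
  have h12a : ∀ v : ZMod p, v ≠ 0 →
      (fc p w z χ₁.1 v - fc p w z χ₁.1 0) + (fc p w z χ₂.1 v - fc p w z χ₂.1 0) = 1 := by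
    intro v hv
    have e1 := hfπ v
    have e2 := hfπ 0
    rw [if_neg hv] at e1
    rw [if_pos rfl] at e2
    linear_combination e1 - e2
  have h12c : fc p w z χ₁.1 0 + fc p w z χ₂.1 0 = 1 := by
    have e2 := hfπ 0
    rw [if_pos rfl] at e2
    linear_combination e2
  obtain ⟨Θ, hΘd, hΘa⟩ := Cfsg.Agent.Lib.Helper22.W2.core p hp
    (fun (i : IrrCharacter G) (v : ZMod p) => fc p w z i.1 v - fc p w z i.1 0)
    (fun i : IrrCharacter G => fc p w z i.1 0) (fun i : IrrCharacter G => i.1 1)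
    (trivIrr G) χ₁ χ₂ h1 h2 h12 haz hcn hdn hsym hgramA hdeg0 hdeg h0a h0d h12a h12c
  exact ⟨Θ, hΘd, Cfsg.Agent.Lib.Helper97.W2.tz p hp w hw z Θ.1 hΘd hΘa⟩

end glueA

section glueB

variable {α : Type*} [Fintype α] [DecidableEq α]

/-- GLUE THMBIG -/
theorem thmBig {p : ℕ} [Fact p.Prime] (hp : 5 < p) (hα : Fintype.card α = 2 * p)
    (G : Subgroup (Equiv.Perm α)) (hprim : MulAction.IsPreprimitive G α)
    (hnot2 : ¬ MulAction.IsMultiplyPretransitive G α 2) (P : Sylow p G)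
    (hN : Nat.card (Subgroup.normalizer ((P : Subgroup G) : Set G)) = 2 * p) : False := by
  classical
  have hpp : p.Prime := Fact.out
  letI : Fintype G := Fintype.ofFinite G
  have hne : Nonempty α := by
    rw [← Fintype.card_pos_iff, hα]
    omega
  obtain ⟨a₀⟩ := hne
  rcases Cfsg.Agent.S0720.result hpp hα G hprim a₀ with h2t | ⟨hrank, a, ha, hpa, -⟩
  · exact hnot2 h2t
  have hP : Nat.card P = p := Cfsg.Agent.Lib.Helper17.W2.sylp (by omega) hα G hprim P hN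
  have hnd2 : ∀ K : Subgroup G, K.Normal → K ≠ ⊥ → 2 * p ∣ Nat.card K :=
    fun K hK hne => Cfsg.Agent.Lib.Helper8.W2.normdiv (by omega) hα G hprim K hK hne
  have hnd : ∀ K : Subgroup G, K.Normal → K ≠ ⊥ → p ∣ Nat.card K :=
    fun K hK hne => Dvd.dvd.trans (Dvd.intro_left 2 rfl) (hnd2 K hK hne)
  have hPne : (P : Subgroup G) ≠ ⊥ := by
    intro h
    have h1 : Nat.card (P : Subgroup G) = 1 := by
      rw [h]
      exact Subgroup.card_bot
    have h2 : Nat.card (P : Subgroup G) = p := hP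
    omega
  have htop : (⊤ : Subgroup G) ≠ ⊥ := by
    intro h
    apply hPne
    rw [eq_bot_iff, ← h]
    exact le_top
  have hbig : p < Nat.card G := by
    have h1 := hnd2 ⊤ inferInstance htop
    rw [Subgroup.card_top] at h1
    have := Nat.le_of_dvd Nat.card_pos h1
    omega
  have hnn : ¬ (P : Subgroup G).Normal := by
    intro hnor
    have h1 := hnd2 _ hnor hPne
    have h2 : Nat.card (P : Subgroup G) = p := hP
    rw [h2] at h1
    have := Nat.le_of_dvd hpp.pos h1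
    omega
  have hnc := Cfsg.Agent.Lib.Helper97.W2.nocent p P hP hnd hbig
  obtain ⟨z, hzP, hl⟩ := Cfsg.Agent.Lib.Helper75.W2.loc2 p (by omega) P hP hN hnc
  obtain ⟨hs1, hs3⟩ := Cfsg.Agent.Lib.Helper16.W2.permsum G hprim a₀ hrank
  obtain ⟨χ₁, χ₂, h12, h1, h2, hπ⟩ := Cfsg.Agent.Lib.Helper42.W2.dec3 (fixc G) (Cfsg.Agent.Lib.Helper5.W2.permchar G) hs1 hs3
  have hπ0 : ∀ t : ZMod p, t ≠ 0 → fixc G (z ^ t.val) = 0 := by
    intro t ht
    apply Cfsg.Agent.Lib.Helper69.W2.fixfree hα G hprim P hP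
    have hcop : (orderOf z).Coprime t.val := by
      rw [hl.ord]
      apply (Nat.Prime.coprime_iff_not_dvd hpp).mpr
      intro hdvd
      have h0 : t.val = 0 := Nat.eq_zero_of_dvd_of_lt hdvd (ZMod.val_lt t)
      exact ht ((ZMod.val_eq_zero t).mp h0)
    rw [Nat.Coprime.orderOf_pow hcop, hl.ord]
  have hπ1 : fixc G 1 = 2 * (p : ℂ) := by
    simp [fixc, hα]
  obtain ⟨Θ, hΘ1, hΘz⟩ := thmI p hp z hl (fixc G) χ₁ χ₂ h12 h1 h2 hπ hπ0 hπ1
  have hsq : ¬ p ^ 2 ∣ Nat.card G := by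
    intro h
    have h1 := Sylow.card_eq_multiplicity P
    have hne : Nat.card G ≠ 0 := Nat.card_pos.ne'
    have h2 : 2 ≤ (Nat.card G).factorization p := (hpp.pow_dvd_iff_le_factorization hne).mp h
    rw [hP] at h1
    have h3 : p ^ 2 ∣ p := by
      conv_rhs => rw [h1]
      exact pow_dvd_pow p h2
    have h4 := Nat.le_of_dvd hpp.pos h3
    nlinarith [hpp.two_le]
  have hfaith := Cfsg.Agent.Lib.Helper78.W2.faith p z hl.ord hsq hnd Θ hΘz
  have hdeg : charDegree Θ.1 = p - 2 := by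
    obtain ⟨e1, -⟩ := Cfsg.Agent.Lib.Helper82.irr_charDegree Θ
    have e2 : ((charDegree Θ.1 : ℕ) : ℂ) = ((p - 2 : ℕ) : ℂ) := by
      rw [e1, hΘ1, Nat.cast_sub (by omega)]
      simp
    exact_mod_cast e2
  obtain ⟨m, F, _, _, hpm, -, -⟩ := Cfsg.Agent.S4705.result p hp P hP hnn Θ.1 Θ.2 hfaith hdeg
  have h5 := Cfsg.Agent.Lib.Helper67.W2.arith p a m ha hpa hpm
  omega

/-- GLUE THM5 -/
theorem thm5 (hα : Fintype.card α = 2 * 5) (G : Subgroup (Equiv.Perm α))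
    (hprim : MulAction.IsPreprimitive G α) (hnot2 : ¬ MulAction.IsMultiplyPretransitive G α 2)
    (P : Sylow 5 G) (hN : Nat.card (Subgroup.normalizer ((P : Subgroup G) : Set G)) = 2 * 5) :
    Nonempty (G ≃* alternatingGroup (Fin 5)) := by
  classical
  letI : Fintype G := Fintype.ofFinite G
  have hα' : Fintype.card α = 10 := hα
  have hN' : Nat.card (Subgroup.normalizer ((P : Subgroup G) : Set G)) = 10 := hN
  have hnb := Cfsg.Agent.Lib.Helper10.W2.nb3 hα' G hprim hnot2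
  have hsymm := Cfsg.Agent.Lib.Helper46.W2.adj_symm G hprim
  have hsmul := Cfsg.Agent.Lib.Helper46.W2.adj_smul G
  have hlam := Cfsg.Agent.Lib.Helper24.W2.lam0 hα' G hprim hnb hsymm hsmul
  have hmu := Cfsg.Agent.Lib.Helper70.W2.mu1 hα' G hnb hsymm hsmul hlam
  have hne : Nonempty α := by
    rw [← Fintype.card_pos_iff, hα']
    norm_num
  obtain ⟨x⟩ := hne
  have h3 := (hnb x).1
  have hne2 : Nonempty {y : α // adj G x y} :=
    (Nat.card_pos_iff.mp (by rw [h3]; norm_num)).1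
  obtain ⟨⟨y, hy⟩⟩ := hne2
  have h48 : Nat.card (MulAction.stabilizer G x) ∣ 48 := by
    have h1 := Cfsg.Agent.Lib.Helper53.W2.stabK G hnb hsmul x
    have h2 := Cfsg.Agent.Lib.Helper94.W2.kx8 hα' G hnb hsymm hsmul hlam hmu x
    exact h1.trans (Nat.mul_dvd_mul_left 6 h2)
  have hcard := Cfsg.Agent.Lib.Helper47.W2.card60 hα' G hprim P hN' x y hy h48
  have hnd : ∀ K : Subgroup G, K.Normal → K ≠ ⊥ → 10 ∣ Nat.card K := by
    intro K hK hne
    exact Cfsg.Agent.Lib.Helper8.W2.normdiv (p := 5) (by norm_num) hα G hprim K hK hne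
  haveI := Cfsg.Agent.Lib.Helper41.W2.simple60 hcard hnd P hN'
  exact Cfsg.Agent.Lib.Helper6.simple_card_sixty hcard

end glueB

/-- GLUE MAIN -/
theorem main {α : Type*} [Fintype α] [DecidableEq α] {p : ℕ} [Fact p.Prime] (hp : 3 < p)
    (hα : Fintype.card α = 2 * p) (G : Subgroup (Equiv.Perm α))
    (hprim : MulAction.IsPreprimitive G α) (hnot2 : ¬ MulAction.IsMultiplyPretransitive G α 2)
    (P : Sylow p G) (hN : Nat.card (Subgroup.normalizer ((P : Subgroup G) : Set G)) = 2 * p) :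
    p = 5 ∧ Nonempty (G ≃* alternatingGroup (Fin 5)) := by
  have hpp : p.Prime := Fact.out
  by_cases h5 : p = 5
  · subst h5
    exact ⟨rfl, thm5 hα G hprim hnot2 P hN⟩
  · exfalso
    have hp4 : p ≠ 4 := by
      intro h
      rw [h] at hpp
      exact absurd hpp (by norm_num)
    exact thmBig (by omega) hα G hprim hnot2 P hN

end Cfsg.Agent.Lib.Helper22.W2
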